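import Cfsg.Agent.Lib.PGroup.Basic
import Cfsg.Prelude.Def_Transfer

/-!
# Groups given by a table, and the shape of an involution centraliser
-/

set_option autoImplicit false
set_option linter.style.haveILetI false

open scoped commutatorElement

namespace Cfsg.Lib.JThree

/-- The subgroup listed by a table. -/
def tabSub {G : Type*} [Group G] [Finite G] {n : ℕ} (e : ℕ → G) (T : ℕ → ℕ → ℕ) (hn : 0 < n) (h0 : e 0 = 1)
    (hm : ∀ i < n, ∀ j < n, T i j < n ∧ e i * e j = e (T i j)) : Subgroup G where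
  carrier := {g | ∃ i < n, g = e i}
  one_mem' := ⟨0, hn, h0.symm⟩
  mul_mem' := by
    rintro _ _ ⟨i, hi, rfl⟩ ⟨j, hj, rfl⟩
    exact ⟨T i j, (hm i hi j hj).1, (hm i hi j hj).2⟩
  inv_mem' := by
    intro g hg
    have h : ∀ k, ∃ i < n, g ^ k = e i := by
      intro k
      induction k with
      | zero => exact ⟨0, hn, by rw [pow_zero, h0]⟩
      | succ k ih =>
        obtain ⟨i, hi, e1⟩ := ih
        obtain ⟨j, hj, rfl⟩ := hg
        exact ⟨T i j, (hm i hi j hj).1, by rw [pow_succ, e1, (hm i hi j hj).2]⟩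
    obtain ⟨i, hi, e1⟩ := h (orderOf g - 1)
    refine ⟨i, hi, ?_⟩
    rw [← e1]
    exact inv_eq_of_mul_eq_one_right (by rw [← pow_succ', Nat.sub_add_cancel (orderOf_pos g), pow_orderOf_eq_one])

/-- The elements of a listed subgroup are those of the list. -/
theorem bij_tabSub {G : Type*} [Group G] [Finite G] {n : ℕ} {e : ℕ → G} {T : ℕ → ℕ → ℕ} (hn : 0 < n) (h0 : e 0 = 1)
    (hm : ∀ i < n, ∀ j < n, T i j < n ∧ e i * e j = e (T i j))
    (hinj : ∀ i < n, ∀ j < n, e i = e j → i = j) :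
    Function.Bijective (fun i : Fin n => (⟨e i, i, i.2, rfl⟩ : tabSub e T hn h0 hm)) := by
  refine ⟨fun a b h => Fin.ext (hinj a a.2 b b.2 (congrArg Subtype.val h)), ?_⟩
  rintro ⟨g, i, hi, rfl⟩
  exact ⟨⟨i, hi⟩, rfl⟩

/-- A group with an extraspecial table of order 32. -/
theorem extraspecial_of_table {Q : Type*} [Group Q] [Finite Q] (e : Fin 32 → Q) (he : Function.Bijective e)
    (T : ℕ → ℕ → ℕ) (hm : ∀ i j : Fin 32, ∃ h : T i j < 32, e i * e j = e ⟨T i j, h⟩) (h0 : e 0 = 1)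
    (hz2 : T 1 1 = 0)
    (hsq : ∀ i < 32, T i i = 0 ∨ T i i = 1) (hzc : ∀ i < 32, T i 1 = T 1 i)
    (hcm : ∀ i < 32, ∀ j < 32, T i j = T j i ∨ T i j = T 1 (T j i))
    (hcent : ∀ i < 32, i ≠ 0 → i ≠ 1 → ∃ j < 32, T i j ≠ T j i) (hnc : ∃ i < 32, ∃ j < 32, T i j ≠ T j i) :
    Cfsg.IsExtraspecial 2 Q := by
  haveI : Fact (Nat.Prime 2) := ⟨Nat.prime_two⟩
  have hcard : Nat.card Q = 32 := by rw [← Nat.card_congr (Equiv.ofBijective e he), Nat.card_fin]
  have hlt : ∀ i j : Fin 32, T i j < 32 := fun i j => (hm i j).1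
  have hmul : ∀ i j : Fin 32, e i * e j = e ⟨T i j, hlt i j⟩ := fun i j => (hm i j).2
  set z := e 1
  have hz : z ^ 2 = 1 := by
    rw [pow_two, hmul, ← h0]
    exact congrArg e (Fin.ext hz2)
  have hzne : z ≠ 1 := fun h => by
    have := he.1 (h.trans h0.symm)
    exact absurd this (by decide)
  have hsq' : ∀ q : Q, q ^ 2 ∈ Subgroup.zpowers z := fun q => by
    obtain ⟨i, rfl⟩ := he.2 q
    rw [pow_two, hmul]
    rcases hsq i i.2 with h | h
    · rw [show (⟨T i i, hlt i i⟩ : Fin 32) = 0 from Fin.ext h, h0]; exact one_mem _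
    · rw [show (⟨T i i, hlt i i⟩ : Fin 32) = 1 from Fin.ext h]; exact Subgroup.mem_zpowers z
  have hzc' : ∀ q : Q, q * z = z * q := fun q => by
    obtain ⟨i, rfl⟩ := he.2 q
    rw [hmul, hmul]
    exact congrArg e (Fin.ext (hzc i i.2))
  have hcomm : ∀ a b : Q, a * b = b * a ∨ a * b = z * (b * a) := fun a b => by
    obtain ⟨i, rfl⟩ := he.2 a
    obtain ⟨j, rfl⟩ := he.2 b
    rw [hmul i j, hmul j i, hmul 1]
    exact (hcm i i.2 j j.2).imp (fun h => congrArg e (Fin.ext h)) (fun h => congrArg e (Fin.ext h))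
  have hne : ∀ i j : Fin 32, T i j ≠ T j i → e i * e j ≠ e j * e i := fun i j h h' => by
    rw [hmul, hmul] at h'
    exact h (congrArg Fin.val (he.1 h'))
  have hcenter : Subgroup.center Q = Subgroup.zpowers z := by
    refine le_antisymm (fun q hq => ?_) (Subgroup.zpowers_le.mpr (Subgroup.mem_center_iff.mpr hzc'))
    obtain ⟨i, rfl⟩ := he.2 q
    by_cases h : (i : ℕ) = 0
    · rw [show i = 0 from Fin.ext h, h0]; exact one_mem _
    by_cases h' : (i : ℕ) = 1
    · rw [show i = 1 from Fin.ext h']; exact Subgroup.mem_zpowers z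
    obtain ⟨j, hj, hd⟩ := hcent i i.2 h h'
    exact absurd (Subgroup.mem_center_iff.1 hq (e ⟨j, hj⟩)).symm (hne i ⟨j, hj⟩ hd)
  have hcle : commutator Q ≤ Subgroup.zpowers z := by
    rw [commutator_def, Subgroup.commutator_le]
    intro a _ b _
    rcases hcomm a b with h | h
    · rw [commutatorElement_eq_one_iff_mul_comm.mpr h]; exact one_mem _
    · rw [show ⁅a, b⁆ = z by rw [commutatorElement_def, h]; group]
      exact Subgroup.mem_zpowers z
  have hzle : Subgroup.zpowers z ≤ commutator Q := by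
    obtain ⟨i, hi, j, hj, hd⟩ := hnc
    rw [Subgroup.zpowers_le]
    rcases hcomm (e ⟨i, hi⟩) (e ⟨j, hj⟩) with h | h
    · exact absurd h (hne _ _ hd)
    · rw [show z = ⁅e ⟨i, hi⟩, e ⟨j, hj⟩⁆ by rw [commutatorElement_def, h]; group, commutator_def]
      exact Subgroup.commutator_mem_commutator (Subgroup.mem_top _) (Subgroup.mem_top _)
  have hP : IsPGroup 2 Q := IsPGroup.of_card (n := 5) (by rw [hcard]; norm_num)
  have hc : commutator Q = Subgroup.center Q := hcenter.symm ▸ le_antisymm hcle hzle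
  refine ⟨⟨hP, le_antisymm ?_ ?_, hc⟩, ?_⟩
  · exact hcenter.symm ▸ Cfsg.Lib.PGroup.frattini_le_of_commutator_le_of_pow_mem (p := 2) hcle hsq'
  · exact hc ▸ Cfsg.Lib.PGroup.commutator_le_frattini hP
  · rw [hcenter, Nat.card_zpowers, orderOf_eq_prime hz hzne]

/-- Elementary abelian subgroups have at most four elements when no three independent involutions commute. -/
theorem elemAb_le_four {Q : Type*} [Group Q] [Finite Q]
    (h : ∀ a b x : Q, a ≠ 1 → b ≠ 1 → a ≠ b → a ^ 2 = 1 → b ^ 2 = 1 → a * b = b * a → x ^ 2 = 1 →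
      a * x = x * a → b * x = x * b → x = 1 ∨ x = a ∨ x = b ∨ x = a * b)
    (E : Subgroup Q) (hE : Cfsg.IsElementaryAbelian 2 E) : Nat.card E ≤ 2 ^ 2 := by
  classical
  obtain ⟨hc, h2⟩ := hE
  by_contra hgt
  have hcomm : ∀ a b : E, (a : Q) * b = b * a := fun a b => congrArg Subtype.val (hc.is_comm.comm a b)
  haveI := Fintype.ofFinite E
  rw [Nat.card_eq_fintype_card] at hgt
  have ex : ∀ s : Finset E, s.card ≤ 4 → ∃ x : E, x ∉ s := fun s hs => by
    obtain ⟨x, -, hx⟩ := Finset.exists_mem_notMem_of_card_lt_card (t := (Finset.univ : Finset E)) (s := s)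
      (by rw [Finset.card_univ]; norm_num at hgt ⊢; omega)
    exact ⟨x, hx⟩
  obtain ⟨a, ha⟩ := ex {1} (by simp)
  obtain ⟨b, hb⟩ := ex {1, a} (le_trans (Finset.card_insert_le ..) (by simp))
  obtain ⟨x, hx⟩ := ex {1, a, b, a * b} Finset.card_le_four
  simp only [Finset.mem_insert, Finset.mem_singleton, not_or] at ha hb hx
  rcases h a b x (fun e => ha (Subtype.ext e)) (fun e => hb.1 (Subtype.ext e)) (fun e => hb.2 (Subtype.ext e.symm))
    (h2 a a.2) (h2 b b.2) (hcomm a b) (h2 x x.2) (hcomm a x) (hcomm b x) with e | e | e | e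
  · exact hx.1 (Subtype.ext e)
  · exact hx.2.1 (Subtype.ext e)
  · exact hx.2.2.1 (Subtype.ext e)
  · exact hx.2.2.2 (Subtype.ext e)

/-- A centraliser is the product of two subgroups. -/
theorem centralizer_split {G : Type*} [Group G] [Finite G] {C Qs As : Subgroup G} (hQ : Qs ≤ C) (hA : As ≤ C)
    (hN : As ≤ Subgroup.normalizer (Qs : Set G)) (hdis : Qs ⊓ As = ⊥) (hq : Nat.card Qs = 32) (ha : Nat.card As = 60)
    (hC : Nat.card C ≤ 2432) : (Qs.subgroupOf C).Normal ∧ (Qs.subgroupOf C).IsComplement' (As.subgroupOf C) := by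
  have hM : Nat.card (Qs ⊔ As : Subgroup G) = 1920 := by
    let f : Qs × As → (Qs ⊔ As : Subgroup G) := fun p =>
      ⟨p.1 * p.2, mul_mem (le_sup_left (b := As) p.1.2) (le_sup_right (a := Qs) p.2.2)⟩
    have hf : Function.Bijective f := by
      refine ⟨fun p q e => ?_, fun x => ?_⟩
      · have e' : (p.1 : G) * p.2 = q.1 * q.2 := congrArg Subtype.val e
        have hm : (q.1 : G)⁻¹ * p.1 = q.2 * (p.2 : G)⁻¹ := by
          rw [eq_mul_inv_iff_mul_eq, mul_assoc, e', inv_mul_cancel_left]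
        have h1 : (q.1 : G)⁻¹ * p.1 ∈ Qs ⊓ As :=
          Subgroup.mem_inf.2 ⟨mul_mem (inv_mem q.1.2) p.1.2, hm ▸ mul_mem q.2.2 (inv_mem p.2.2)⟩
        rw [hdis, Subgroup.mem_bot] at h1
        have h2 := inv_mul_eq_one.1 h1
        rw [h1, eq_comm, mul_inv_eq_one] at hm
        exact Prod.ext (Subtype.ext h2.symm) (Subtype.ext hm.symm)
      · have hx : (x : G) ∈ ((Qs ⊔ As : Subgroup G) : Set G) := x.2
        rw [Subgroup.coe_mul_of_right_le_normalizer_left _ _ hN] at hx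
        obtain ⟨q, hq, a, ha, e⟩ := hx
        exact ⟨(⟨q, hq⟩, ⟨a, ha⟩), Subtype.ext e⟩
    rw [← Nat.card_congr (Equiv.ofBijective f hf), Nat.card_prod, hq, ha]
  have hle : Qs ⊔ As ≤ C := sup_le hQ hA
  have hd := Subgroup.card_dvd_of_le hle
  rw [hM] at hd
  have hpos : 0 < Nat.card C := Nat.card_pos
  have hC' : Nat.card C = 1920 := by
    obtain ⟨k, hk⟩ := hd
    have : k = 1 := by nlinarith
    omega
  have heq : Qs ⊔ As = C := Subgroup.eq_of_le_of_card_ge hle (by rw [hM, hC'])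
  have hCN : C ≤ Subgroup.normalizer (Qs : Set G) := heq ▸ sup_le Subgroup.le_normalizer hN
  refine ⟨(Subgroup.normal_subgroupOf_iff_le_normalizer hQ).2 hCN, ?_⟩
  refine Subgroup.isComplement'_of_disjoint_and_mul_eq_univ ?_ ?_
  · rw [disjoint_iff, Subgroup.eq_bot_iff_forall]
    rintro x ⟨h1, h2⟩
    have : (x : G) ∈ Qs ⊓ As := ⟨Subgroup.mem_subgroupOf.1 h1, Subgroup.mem_subgroupOf.1 h2⟩
    rw [hdis, Subgroup.mem_bot] at this
    exact Subtype.ext this
  · refine Set.eq_univ_of_forall fun x => ?_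
    have hx : (x : G) ∈ ((Qs ⊔ As : Subgroup G) : Set G) := heq.symm ▸ x.2
    rw [Subgroup.coe_mul_of_right_le_normalizer_left _ _ hN] at hx
    obtain ⟨q, hq, a, ha, e⟩ := hx
    exact ⟨⟨q, hQ hq⟩, Subgroup.mem_subgroupOf.2 hq, ⟨a, hA ha⟩, Subgroup.mem_subgroupOf.2 ha, Subtype.ext e⟩

/-- The quotient by a normal subgroup with a complement is the complement. -/
theorem nonempty_quotient_equiv {G : Type*} [Group G] {N K : Subgroup G} [N.Normal] (h : N.IsComplement' K) :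
    Nonempty (G ⧸ N ≃* K) := by
  refine ⟨(MulEquiv.ofBijective ((QuotientGroup.mk' N).comp K.subtype) ⟨?_, ?_⟩).symm⟩
  · refine (injective_iff_map_eq_one _).2 fun x hx => Subtype.ext ?_
    exact (Subgroup.disjoint_def.1 h.disjoint) ((QuotientGroup.eq_one_iff (x : G)).1 hx) x.2
  · intro q
    obtain ⟨g, rfl⟩ := QuotientGroup.mk_surjective q
    obtain ⟨⟨n, k⟩, rfl⟩ := (h : Subgroup.IsComplement _ _).surjective g
    refine ⟨k, ?_⟩
    show (QuotientGroup.mk ((k : K) : G) : G ⧸ N) = QuotientGroup.mk ((n : G) * (k : G))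
    rw [QuotientGroup.mk_mul, (QuotientGroup.eq_one_iff _).2 n.2, one_mul]

end Cfsg.Lib.JThree
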