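import Cfsg.Agent.Lib.JThree.Invol
import Cfsg.Agent.Lib.Extra.Structure

/-!
# The shape of the centraliser of an involution of the third Janko group
-/

set_option autoImplicit false
set_option maxRecDepth 100000
set_option linter.style.haveILetI false

namespace Cfsg.Lib.JThree

open Cfsg.Spor Cfsg.Lib.Concrete Cfsg.Lib.PermAut

/-- A group with an involution whose centraliser is given by the tables. -/
structure InvolTables (G : Type*) [Group G] where
  fQ : ℕ → G
  fA : ℕ → G
  q0 : fQ 0 = 1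
  a0 : fA 0 = 1
  qmul : ∀ i < 32, ∀ j < 32, fQ i * fQ j = fQ (qT i j)
  amul : ∀ i < 60, ∀ j < 60, fA i * fA j = fA (aT i j)
  aqmul : ∀ a < 60, ∀ q < 32, fA a * fQ q = fQ (aqT a q) * fA a
  qinj : ∀ i < 32, ∀ j < 32, fQ i = fQ j → i = j
  ainj : ∀ i < 60, ∀ j < 60, fA i = fA j → i = j
  disj : ∀ i < 32, ∀ j < 60, fQ i = fA j → i = 0
  qcent : ∀ i < 32, fQ i * fQ 1 = fQ 1 * fQ i
  acent : ∀ i < 60, fA i * fQ 1 = fQ 1 * fA i
  bound : Nat.card (Subgroup.centralizer ({fQ 1} : Set G)) ≤ 2432
  conj : ∀ x : G, orderOf x = 2 → IsConj (fQ 1) x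

/-- The tables move along an isomorphism. -/
def InvolTables.map {G G' : Type*} [Group G] [Group G'] (D : InvolTables G) (φ : G ≃* G') : InvolTables G' where
  fQ i := φ (D.fQ i)
  fA i := φ (D.fA i)
  q0 := by rw [D.q0, map_one]
  a0 := by rw [D.a0, map_one]
  qmul i hi j hj := by rw [← map_mul, D.qmul i hi j hj]
  amul i hi j hj := by rw [← map_mul, D.amul i hi j hj]
  aqmul a ha q hq := by rw [← map_mul, ← map_mul, D.aqmul a ha q hq]
  qinj i hi j hj e := D.qinj i hi j hj (φ.injective e)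
  ainj i hi j hj e := D.ainj i hi j hj (φ.injective e)
  disj i hi j hj e := D.disj i hi j hj (φ.injective e)
  qcent i hi := by rw [← map_mul, ← map_mul, D.qcent i hi]
  acent i hi := by rw [← map_mul, ← map_mul, D.acent i hi]
  bound := le_trans (le_of_eq (Nat.card_congr (φ.symm.toEquiv.subtypeEquiv fun c => by
    simp only [Subgroup.mem_centralizer_singleton_iff, MulEquiv.toEquiv_eq_coe, EquivLike.coe_coe]
    rw [← φ.symm.injective.eq_iff, map_mul, map_mul, φ.symm_apply_apply]))) D.bound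
  conj x hx := by
    have h := φ.toMonoidHom.map_isConj (D.conj (φ.symm x) (by rw [MulEquiv.orderOf_eq]; exact hx))
    simpa using h

theorem InvolTables.structure' {G : Type*} [Group G] [Finite G] (D : InvolTables G) :
    (∀ x y : G, orderOf x = 2 → orderOf y = 2 → IsConj x y) ∧ ∃ t : G, orderOf t = 2 ∧
      ∃ (Q : Subgroup ↥(Subgroup.centralizer ({t} : Set G))) (_ : Q.Normal), Cfsg.IsExtraspecial 2 Q ∧
        Nat.card Q = 32 ∧ (∀ E : Subgroup Q, Cfsg.IsElementaryAbelian 2 E → Nat.card E ≤ 2 ^ 2) ∧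
        (∃ H : Subgroup ↥(Subgroup.centralizer ({t} : Set G)), Q.IsComplement' H) ∧
        Nonempty (↥(Subgroup.centralizer ({t} : Set G)) ⧸ Q ≃* ↥(alternatingGroup (Fin 5))) := by
  classical
  haveI : Fact (Nat.Prime 2) := ⟨Nat.prime_two⟩
  refine ⟨fun x y hx hy => (D.conj x hx).symm.trans (D.conj y hy), ?_⟩
  have hT := invT_ok
  simp only [Bool.and_eq_true, allBelowB_iff, Nat.blt, Nat.ble_eq, Nat.beq_eq] at hT
  obtain ⟨⟨hqT, haT⟩, haq⟩ := hT
  have qm : ∀ i < 32, ∀ j < 32, qT i j < 32 ∧ D.fQ i * D.fQ j = D.fQ (qT i j) := fun i hi j hj =>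
    ⟨hqT i hi j hj, D.qmul i hi j hj⟩
  have am : ∀ i < 60, ∀ j < 60, aT i j < 60 ∧ D.fA i * D.fA j = D.fA (aT i j) := fun i hi j hj =>
    ⟨haT i hi j hj, D.amul i hi j hj⟩
  set Qs := tabSub D.fQ qT (by norm_num) D.q0 qm
  set As := tabSub D.fA aT (by norm_num) D.a0 am
  have bQ := bij_tabSub (by norm_num) D.q0 qm D.qinj
  have bA := bij_tabSub (by norm_num) D.a0 am D.ainj
  set t := D.fQ 1
  set C := Subgroup.centralizer ({t} : Set G)
  have hQC : Qs ≤ C := by
    rintro g ⟨i, hi, rfl⟩
    exact Subgroup.mem_centralizer_singleton_iff.2 (D.qcent i hi)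
  have hAC : As ≤ C := by
    rintro g ⟨i, hi, rfl⟩
    exact Subgroup.mem_centralizer_singleton_iff.2 (D.acent i hi)
  have hcl : ∀ a ∈ As, ∀ n ∈ Qs, a * n * a⁻¹ ∈ Qs := by
    rintro a ⟨i, hi, rfl⟩ n ⟨j, hj, rfl⟩
    exact ⟨aqT i j, (haq i hi j hj).1, by rw [D.aqmul i hi j hj, mul_inv_cancel_right]⟩
  have hN : As ≤ Subgroup.normalizer (Qs : Set G) := fun a ha => Subgroup.mem_normalizer_iff.2 fun n =>
    ⟨hcl a ha n, fun h => by
      have := hcl a⁻¹ (inv_mem ha) _ h
      simpa [mul_assoc] using this⟩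
  have hdis : Qs ⊓ As = ⊥ := by
    rw [Subgroup.eq_bot_iff_forall]
    intro g hg
    obtain ⟨i, hi, rfl⟩ := (Subgroup.mem_inf.1 hg).1
    obtain ⟨j, hj, e⟩ := (Subgroup.mem_inf.1 hg).2
    rw [D.disj i hi j hj e, D.q0]
  have cq : Nat.card Qs = 32 := by rw [← Nat.card_congr (Equiv.ofBijective _ bQ), Nat.card_fin]
  have ca : Nat.card As = 60 := by rw [← Nat.card_congr (Equiv.ofBijective _ bA), Nat.card_fin]
  obtain ⟨hnorm, hcompl⟩ := centralizer_split hQC hAC hN hdis cq ca D.bound
  have ht : orderOf t = 2 := by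
    refine orderOf_eq_prime ?_ fun e => absurd (D.qinj 1 (by norm_num) 0 (by norm_num) (e.trans D.q0.symm)) one_ne_zero
    rw [pow_two, D.qmul 1 (by norm_num) 1 (by norm_num), invSmall_ok.1, D.q0]
  refine ⟨t, ht, Qs.subgroupOf C, hnorm, ?_⟩
  have hsq : Qs.subgroupOf C ≃* Qs := Subgroup.subgroupOfEquivOfLe hQC
  haveI : Finite (Qs.subgroupOf C) := inferInstance
  let e : Fin 32 → Qs.subgroupOf C := fun i => hsq.symm ⟨D.fQ i, i, i.2, rfl⟩
  have he : Function.Bijective e := hsq.symm.bijective.comp bQ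
  have hmul : ∀ i j : Fin 32, ∃ h : qT i j < 32, e i * e j = e ⟨qT i j, h⟩ := fun i j =>
    ⟨hqT i i.2 j j.2, by
      show hsq.symm _ * hsq.symm _ = hsq.symm _
      rw [← map_mul]
      exact congrArg hsq.symm (Subtype.ext (D.qmul i i.2 j j.2))⟩
  have h0 : e 0 = 1 := by
    show hsq.symm _ = 1
    rw [← map_one hsq.symm]
    exact congrArg hsq.symm (Subtype.ext D.q0)
  have hx := invExtra_ok
  simp only [List.all_eq_true, List.mem_range, Bool.and_eq_true, Bool.or_eq_true, List.any_eq_true, Bool.not_eq_true',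
    Nat.beq_eq, ← Bool.not_eq_true] at hx
  refine ⟨?_, ?_, ?_, ⟨As.subgroupOf C, hcompl⟩, ?_⟩
  · refine extraspecial_of_table e he qT hmul h0 invSmall_ok.1 (fun i hi => (hx i hi).1.1.1) (fun i hi => (hx i hi).1.1.2)
      (fun i hi => (hx i hi).1.2) (fun i hi h h' => ?_) ?_
    · rcases (hx i hi).2 with (h'' | h'') | h''
      exacts [absurd h'' h, absurd h'' h', h'']
    · have hn := invSmall_ok.2.2
      simp only [List.any_eq_true, List.mem_range, Bool.not_eq_true', ← Bool.not_eq_true, Nat.beq_eq] at hn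
      exact hn
  · rw [Nat.card_congr hsq.toEquiv, cq]
  · intro E hE
    refine elemAb_le_four ?_ E hE
    intro a b x ha hb hab ha2 hb2 hc hx2 hax hbx
    obtain ⟨a, rfl⟩ := he.2 a
    obtain ⟨b, rfl⟩ := he.2 b
    obtain ⟨x, rfl⟩ := he.2 x
    have hm : ∀ i j : Fin 32, e i * e j = e ⟨qT i j, (hmul i j).1⟩ := fun i j => (hmul i j).2
    have hval : ∀ i j : Fin 32, e i = e j → (i : ℕ) = j := fun i j h => congrArg Fin.val (he.1 h)
    rw [pow_two, hm, ← h0] at ha2 hb2 hx2
    rw [hm, hm] at hc hax hbx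
    have h := invEA_ok
    simp only [List.all_eq_true, List.mem_range, Bool.or_eq_true, Bool.not_eq_true', ← Bool.not_eq_true, Nat.beq_eq] at h
    have h1 := h a a.2 b b.2
    have na : ¬ (a : ℕ) = 0 := fun h' => ha (by rw [show a = 0 from Fin.ext h', h0])
    have nb : ¬ (b : ℕ) = 0 := fun h' => hb (by rw [show b = 0 from Fin.ext h', h0])
    have nab : ¬ (a : ℕ) = b := fun h' => hab (by rw [Fin.ext h'])
    have := h1.resolve_left (by
      simp only [not_or, not_not]
      exact ⟨⟨⟨⟨⟨na, nb⟩, nab⟩, hval _ _ ha2⟩, hval _ _ hb2⟩, hval _ _ hc⟩)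
    rcases this x x.2 with ((((((h' | h') | h') | h') | h') | h') | h')
    · exact absurd (hval _ _ hx2) h'
    · exact absurd (hval _ _ hax) h'
    · exact absurd (hval _ _ hbx) h'
    · exact Or.inl (by rw [show x = 0 from Fin.ext h', h0])
    · exact Or.inr (Or.inl (congrArg e (Fin.ext h')))
    · exact Or.inr (Or.inr (Or.inl (congrArg e (Fin.ext h'))))
    · exact Or.inr (Or.inr (Or.inr ((congrArg e (Fin.ext h')).trans (hm a b).symm)))
  · haveI := hnorm
    obtain ⟨θ⟩ := nonempty_quotient_equiv hcompl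
    let α : As.subgroupOf C ≃* As := Subgroup.subgroupOfEquivOfLe hAC
    have hp := invPA_ok
    simp only [List.all_eq_true, List.mem_range, Bool.and_eq_true, Bool.or_eq_true, List.any_eq_true,
      Bool.not_eq_true', ← Bool.not_eq_true, Nat.blt, Nat.ble_eq, Nat.beq_eq] at hp
    let eA : Fin 60 ≃ As := Equiv.ofBijective _ bA
    have hidx : ∀ g h : As, ((eA.symm (g * h) : Fin 60) : ℕ) = aT (eA.symm g) (eA.symm h) := fun g h => by
      have e2 : eA ⟨_, haT (eA.symm g) (eA.symm g).2 (eA.symm h) (eA.symm h).2⟩ = g * h := Subtype.ext (by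
        show D.fA _ = _
        rw [← D.amul _ (eA.symm g).2 _ (eA.symm h).2]
        exact congrArg₂ (fun u v : As => (u : G) * v) (eA.apply_symm_apply g) (eA.apply_symm_apply h))
      rw [← e2, Equiv.symm_apply_apply]
    have h1 : ((eA.symm 1 : Fin 60) : ℕ) = 0 := by
      rw [show (1 : As) = eA 0 from Subtype.ext D.a0.symm, Equiv.symm_apply_apply]; rfl
    let pf : As → Fin 5 → Fin 5 := fun g v => ⟨paT (eA.symm g) v, ((hp _ (eA.symm g).2).1 v v.2).1.1⟩
    have pmul : ∀ g h v, pf (g * h) v = pf g (pf h v) := fun g h v => Fin.ext (by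
      show paT _ _ = paT _ (paT _ _)
      rw [hidx]
      exact ((hp _ (eA.symm g).2).1 v v.2).2 _ (eA.symm h).2)
    have pone : ∀ v, pf 1 v = v := fun v => Fin.ext (by
      show paT _ _ = _
      rw [h1]
      exact ((hp 0 (by norm_num)).1 v v.2).1.2)
    let π : As →* Equiv.Perm (Fin 5) :=
      { toFun := fun g => ⟨pf g, pf g⁻¹, fun v => by rw [← pmul, inv_mul_cancel, pone],
          fun v => by rw [← pmul, mul_inv_cancel, pone]⟩
        map_one' := Equiv.ext pone
        map_mul' := fun g h => Equiv.ext (pmul g h) }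
    have hπ : Function.Injective π := (injective_iff_map_eq_one π).2 fun g hg => by
      rcases (hp _ (eA.symm g).2).2 with h | ⟨v, hv, hne⟩
      · refine eA.symm.injective (Fin.ext ?_)
        rw [h, h1]
      · exact absurd (congrArg (fun p : Equiv.Perm (Fin 5) => ((p ⟨v, hv⟩ : Fin 5) : ℕ)) hg) hne
    have hr : π.range = alternatingGroup (Fin 5) := by
      refine Equiv.Perm.eq_alternatingGroup_of_index_eq_two ?_
      have h2 := Subgroup.card_mul_index π.range
      rw [← Nat.card_congr (MonoidHom.ofInjective hπ).toEquiv, ca, Nat.card_perm, Nat.card_fin,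
        show Nat.factorial 5 = 120 by decide] at h2
      omega
    exact ⟨θ.trans (α.trans ((MonoidHom.ofInjective hπ).trans (MulEquiv.subgroupCongr hr)))⟩

variable {F : Type} [Field F] {ω : F}

/-- The tables in the third Janko group. -/
noncomputable def involTables [Fintype F] (hF : Fintype.card F = 4) (H : Hyp F ω) : InvolTables (J3 F ω) := by
  have hqf := (inv_facts H).1
  have haf := (inv_facts H).2
  have hq := invQ_ok
  have ha := invA_ok
  have hT := invT_ok
  simp only [Bool.and_eq_true, allBelowB_iff, Nat.beq_eq, Nat.blt, Nat.ble_eq] at hq ha hT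
  have hQ : ∀ i < 32, qaC i = qC i := fun i hi => by
    unfold qaC
    rw [show Nat.blt i 32 = true by simp only [Nat.blt, Nat.ble_eq]; omega, cond_true]
  have hA : ∀ i < 60, i ≠ 0 → qaC (i + 31) = aC i := fun i hi h => by
    unfold qaC
    rw [show Nat.blt (i + 31) 32 = false by rw [← Bool.not_eq_true]; simp only [Nat.blt, Nat.ble_eq]; omega, cond_false,
      Nat.sub_eq, Nat.add_sub_cancel]
  have key : ∀ n < 91, ∀ m < 91, ∀ A B, qaC n = A → qaC m = B →
      (QuotientGroup.mk (elT ω A) : J3 F ω) = QuotientGroup.mk (elT ω B) → n = m := fun n hn m hm A B e1 e2 e => by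
    subst e1 e2
    exact qa_inj hF H hn hm e
  refine
    { fQ := fun i => QuotientGroup.mk (elT ω (qC i))
      fA := fun i => QuotientGroup.mk (elT ω (aC i))
      q0 := by rw [hq.1, elT_one]; rfl
      a0 := by rw [ha.1, elT_one]; rfl
      qmul := fun i hi j hj => congrArg (QuotientGroup.mk : _ → J3 F ω)
        (elT_mul H (hqf i hi) (hqf j hj) ((hq.2 i hi).2 j hj))
      amul := fun i hi j hj => congrArg (QuotientGroup.mk : _ → J3 F ω)
        (elT_mul H (haf i hi) (haf j hj) ((ha.2 i hi).2 j hj))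
      aqmul := fun a h q h' => congrArg (QuotientGroup.mk : _ → J3 F ω)
        ((elT_mul H (haf a h) (hqf q h') (hT.2 a h q h').2).trans
          (elT_mul H (hqf _ (hT.2 a h q h').1) (haf a h) rfl).symm)
      qinj := fun i hi j hj e => key i (by omega) j (by omega) _ _ (hQ i hi) (hQ j hj) e
      ainj := ?_
      disj := ?_
      qcent := fun i hi => congrArg (QuotientGroup.mk : _ → J3 F ω)
        ((elT_mul H (hqf i hi) (hqf 1 (by norm_num)) (hq.2 i hi).1.2).trans
          (elT_mul H (hqf 1 (by norm_num)) (hqf i hi) rfl).symm)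
      acent := fun i hi => congrArg (QuotientGroup.mk : _ → J3 F ω)
        ((elT_mul H (haf i hi) (hqf 1 (by norm_num)) (ha.2 i hi).1.2).trans
          (elT_mul H (hqf 1 (by norm_num)) (haf i hi) rfl).symm)
      bound := ?_
      conj := fun x hx => isConj_invT hF H x hx }
  · intro i hi j hj e
    have h0 : qaC 0 = aC 0 := by rw [hQ 0 (by norm_num), hq.1, ha.1]
    rcases eq_or_ne i 0 with rfl | hi0
    · rcases eq_or_ne j 0 with rfl | hj0
      · rfl
      · have := key 0 (by norm_num) (j + 31) (by omega) _ _ h0 (hA j hj hj0) e; omega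
    · rcases eq_or_ne j 0 with rfl | hj0
      · have := key (i + 31) (by omega) 0 (by norm_num) _ _ (hA i hi hi0) h0 e; omega
      · have := key (i + 31) (by omega) (j + 31) (by omega) _ _ (hA i hi hi0) (hA j hj hj0) e; omega
  · intro i hi j hj e
    rcases eq_or_ne j 0 with rfl | hj0
    · exact key i (by omega) 0 (by norm_num) _ _ (hQ i hi) (by rw [hQ 0 (by norm_num), hq.1, ha.1]) e
    · have := key i (by omega) (j + 31) (by omega) _ _ (hQ i hi) (hA j hj hj0) e; omega
  · classical
    haveI : Finite (threeJ3 F ω) := Nat.finite_of_card_ne_zero (by rw [card_threeJ3 H]; norm_num)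
    set Z := Subgroup.center ↥(threeJ3 F ω)
    set t : threeJ3 F ω := invT ω
    set C := Subgroup.centralizer ({(QuotientGroup.mk t : J3 F ω)} : Set (J3 F ω))
    show Nat.card C ≤ 2432
    have hlift : ∀ c : C, ∃ g : threeJ3 F ω, (QuotientGroup.mk g : J3 F ω) = c ∧ g * t = t * g := fun c => by
      obtain ⟨g, hg⟩ := QuotientGroup.mk_surjective (c : J3 F ω)
      refine ⟨g, hg, ?_⟩
      have hz : (t * g)⁻¹ * (g * t) ∈ Z := by
        rw [← QuotientGroup.eq, QuotientGroup.mk_mul, QuotientGroup.mk_mul, hg]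
        exact (Subgroup.mem_centralizer_singleton_iff.1 c.2).symm
      generalize hzd : (t * g)⁻¹ * (g * t) = z at hz
      have e1 : g * t * g⁻¹ = t * z := by
        have hc : g * z = z * g := Subgroup.mem_center_iff.1 hz g
        rw [mul_inv_eq_iff_eq_mul, mul_assoc, ← hc, ← mul_assoc, ← hzd, mul_inv_cancel_left]
      have h2 : (t * z) * (t * z) = 1 := by
        rw [← e1, conj_mul, invT_sq H, mul_one, mul_inv_cancel]
      have hz2 : z * z = 1 := by
        rw [mul_assoc, ← mul_assoc z t z, ← Subgroup.mem_center_iff.1 hz t, mul_assoc, ← mul_assoc t t,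
          invT_sq H, one_mul] at h2
        exact h2
      have hz3 := center_cube hF H hz
      rw [pow_succ, pow_two, hz2, one_mul] at hz3
      rw [hz3, mul_one, mul_inv_eq_iff_eq_mul] at e1
      exact e1
    choose g hg hgc using hlift
    let C3 := Subgroup.centralizer ({t} : Set ↥(threeJ3 F ω))
    let f : Z × C → C3 := fun p => ⟨p.1 * g p.2, mul_mem
      (Subgroup.mem_centralizer_singleton_iff.2 (Subgroup.mem_center_iff.1 p.1.2 t).symm)
      (Subgroup.mem_centralizer_singleton_iff.2 (hgc p.2))⟩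
    have hf : Function.Injective f := by
      rintro ⟨z, c⟩ ⟨z', c'⟩ e
      have e' : (z : threeJ3 F ω) * g c = z' * g c' := congrArg Subtype.val e
      have hq := congrArg (QuotientGroup.mk : _ → J3 F ω) e'
      rw [QuotientGroup.mk_mul, QuotientGroup.mk_mul, (QuotientGroup.eq_one_iff _).2 z.2,
        (QuotientGroup.eq_one_iff _).2 z'.2, one_mul, one_mul, hg, hg] at hq
      obtain rfl := Subtype.ext hq
      exact Prod.ext (Subtype.ext (mul_right_cancel e')) rfl
    have := Nat.card_le_card_of_injective f hf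
    rw [Nat.card_prod, show Nat.card Z = 3 from card_center hF H] at this
    have h2 : Nat.card C3 ≤ 76 * 96 := card_centralizer_le hF H
    omega

end Cfsg.Lib.JThree
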