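import Mathlib

/-!
# An element of prime order centralising a normal subgroup of suitable order
-/

set_option autoImplicit false

namespace Cfsg.Lib.JThree

open MulAction

/-- An element of prime order fixes every element of a group of prime power order too small to be moved by it. -/
theorem fix_small {Q : Type*} [Group Q] [Finite Q] {q r : ℕ} (hq : q.Prime) {n : ℕ} (hn : Nat.card Q = q ^ n)
    (hr : ∀ i ≤ n, 0 < i → ¬ q ^ i ≡ 1 [MOD r]) (hrp : r.Prime) (hne : q ≠ r) (e : MulAut Q) (he : e ^ r = 1)
    (x : Q) : e x = x := by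
  haveI := Fact.mk hrp
  let C : Subgroup Q :=
    { carrier := {y | e y = y}
      one_mem' := map_one e
      mul_mem' := fun {a b} ha hb => by simp only [Set.mem_setOf_eq] at *; rw [map_mul, ha, hb]
      inv_mem' := fun {a} ha => by simp only [Set.mem_setOf_eq] at *; rw [map_inv, ha] }
  obtain ⟨j, hj, hC⟩ := (Nat.dvd_prime_pow hq).1 (hn ▸ C.card_subgroup_dvd_card)
  let P : Subgroup (MulAut Q) := Subgroup.zpowers e
  have hP : IsPGroup r P := by
    intro g
    refine ⟨1, ?_⟩
    obtain ⟨k, hk⟩ := Subgroup.mem_zpowers_iff.1 g.2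
    refine Subtype.ext ?_
    rw [pow_one, Subgroup.coe_pow, ← hk, ← zpow_natCast, ← zpow_mul, mul_comm, zpow_mul, zpow_natCast, he, one_zpow]
    rfl
  have hfix : fixedPoints P Q = (C : Set Q) := by
    ext y
    constructor
    · intro hy
      exact hy ⟨e, Subgroup.mem_zpowers e⟩
    · intro hy g
      obtain ⟨k, hk⟩ := Subgroup.mem_zpowers_iff.1 g.2
      show (g : MulAut Q) y = y
      rw [← hk]
      have hs : e ∈ stabilizer (MulAut Q) y := hy
      exact Subgroup.zpow_mem _ hs k
  have hm := hP.card_modEq_card_fixedPoints Q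
  rw [hn, show Nat.card (fixedPoints P Q) = Nat.card C from Nat.card_congr (Equiv.setCongr hfix), hC] at hm
  by_contra hx
  have hjn : j ≠ n := fun hjn => hx (by
    have htop : C = ⊤ := Subgroup.eq_top_of_card_eq C (by rw [hC, hn, hjn])
    have : x ∈ C := htop ▸ Subgroup.mem_top x
    exact this)
  have hcop : Nat.Coprime r (q ^ j) := Nat.Coprime.pow_right _ ((Nat.coprime_primes hrp hq).2 (Ne.symm hne))
  refine hr (n - j) (by omega) (by omega) (Nat.ModEq.cancel_left_of_coprime (c := q ^ j) hcop.gcd_eq_one ?_)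
  rw [← pow_add, Nat.add_sub_cancel' hj, mul_one]
  exact hm

/-- An element of prime order centralises a normal subgroup whose Sylow subgroups are too small to be moved. -/
theorem centralizes_normal {G : Type*} [Group G] [Finite G] (N : Subgroup G) [N.Normal] {r : ℕ} (hrp : r.Prime)
    (hdvd : ¬ r ∣ Nat.card N)
    (hsmall : ∀ q n : ℕ, q.Prime → q ^ n ∣ Nat.card N → ∀ i ≤ n, 0 < i → ¬ q ^ i ≡ 1 [MOD r])
    {c : G} (hc : c ^ r = 1) : ∀ x ∈ N, c * x = x * c := by
  classical
  haveI := Fact.mk hrp
  let e : MulAut N := MulAut.conjNormal c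
  have he : e ^ r = 1 := by rw [← map_pow, hc, map_one]
  have hfixN : ∀ (q : ℕ), q.Prime → ∃ S : Subgroup N, Nat.card S = q ^ (Nat.card N).factorization q ∧
      ∀ y ∈ S, e y = y := by
    intro q hq
    haveI := Fact.mk hq
    let P : Subgroup (MulAut N) := Subgroup.zpowers e
    have hP : IsPGroup r P := by
      intro g
      refine ⟨1, ?_⟩
      obtain ⟨k, hk⟩ := Subgroup.mem_zpowers_iff.1 g.2
      refine Subtype.ext ?_
      rw [pow_one, Subgroup.coe_pow, ← hk, ← zpow_natCast, ← zpow_mul, mul_comm, zpow_mul, zpow_natCast, he, one_zpow]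
      rfl
    have hnd : ¬ r ∣ Nat.card (Sylow q N) := fun h => hdvd (h.trans
      ((Sylow.card_eq_index_normalizer (Classical.arbitrary (Sylow q N))) ▸ Subgroup.index_dvd_card _))
    obtain ⟨S, hS⟩ := hP.nonempty_fixed_point_of_prime_not_dvd_card (Sylow q N) hnd
    refine ⟨S, Sylow.card_eq_multiplicity S, fun y hy => ?_⟩
    have hinv : ∀ z ∈ (S : Subgroup N), e z ∈ (S : Subgroup N) := fun z hz => by
      have hP' := hS ⟨e, Subgroup.mem_zpowers e⟩
      have : e • z ∈ ((⟨e, Subgroup.mem_zpowers e⟩ : P) • S : Sylow q N).toSubgroup :=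
        Subgroup.smul_mem_pointwise_smul z e _ hz
      rw [hP'] at this
      exact this
    have hinv' : ∀ z ∈ (S : Subgroup N), e⁻¹ z ∈ (S : Subgroup N) := fun z hz => by
      have : e⁻¹ = e ^ (r - 1) := inv_eq_of_mul_eq_one_right (by rw [← pow_succ', Nat.sub_add_cancel hrp.one_le, he])
      rw [this]
      clear this
      induction (r - 1) with
      | zero => simpa using hz
      | succ k ih => rw [pow_succ', MulAut.mul_apply]; exact hinv _ ih
    let eS : MulAut (S : Subgroup N) :=
      { toFun := fun z => ⟨e z, hinv z z.2⟩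
        invFun := fun z => ⟨e⁻¹ z, hinv' z z.2⟩
        left_inv := fun z => Subtype.ext (e.symm_apply_apply _)
        right_inv := fun z => Subtype.ext (e.apply_symm_apply _)
        map_mul' := fun a b => Subtype.ext (map_mul e _ _) }
    have hpw : ∀ (k : ℕ) (z : (S : Subgroup N)), (((eS ^ k) z : (S : Subgroup N)) : N) = (e ^ k) z := by
      intro k
      induction k with
      | zero => intro z; rfl
      | succ k ih => intro z; rw [pow_succ', pow_succ', MulAut.mul_apply, MulAut.mul_apply, ← ih z]; rfl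
    have h1 : eS ^ r = 1 := MulEquiv.ext fun z => Subtype.ext (by rw [hpw, he]; rfl)
    by_cases hqr : q = r
    · subst hqr
      have hc1 : Nat.card (S : Subgroup N) = 1 := by
        rw [Sylow.card_eq_multiplicity S, Nat.factorization_eq_zero_of_not_dvd hdvd, pow_zero]
      haveI := (Nat.card_eq_one_iff_unique.1 hc1).1
      exact congrArg (fun z : (S : Subgroup N) => (z : N)) (Subsingleton.elim (eS ⟨y, hy⟩) ⟨y, hy⟩)
    exact congrArg Subtype.val (fix_small hq (Sylow.card_eq_multiplicity S)
      (hsmall q _ hq (Nat.ordProj_dvd _ q)) hrp hqr eS h1 ⟨y, hy⟩)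
  let C : Subgroup N :=
    { carrier := {y | e y = y}
      one_mem' := map_one e
      mul_mem' := fun {a b} ha hb => by simp only [Set.mem_setOf_eq] at *; rw [map_mul, ha, hb]
      inv_mem' := fun {a} ha => by simp only [Set.mem_setOf_eq] at *; rw [map_inv, ha] }
  have hC : Nat.card N ∣ Nat.card C := by
    refine (Nat.factorization_le_iff_dvd Nat.card_pos.ne' Nat.card_pos.ne').1 fun q => ?_
    by_cases hq : q.Prime
    · obtain ⟨S, hS, hfix⟩ := hfixN q hq
      exact (hq.pow_dvd_iff_le_factorization Nat.card_pos.ne').1 (hS ▸ Subgroup.card_dvd_of_le (hfix : S ≤ C))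
    · rw [Nat.factorization_eq_zero_of_not_prime _ hq]; exact Nat.zero_le _
  have htop : C = ⊤ := Subgroup.eq_top_of_card_eq C (Nat.dvd_antisymm C.card_subgroup_dvd_card hC)
  intro x hx
  have hm : (⟨x, hx⟩ : N) ∈ C := htop ▸ Subgroup.mem_top _
  have e1 := congrArg (fun y : N => (y : G)) (show e ⟨x, hx⟩ = ⟨x, hx⟩ from hm)
  simp only [e, MulAut.conjNormal_apply] at e1
  exact mul_inv_eq_iff_eq_mul.1 e1

end Cfsg.Lib.JThree
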