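import Cfsg.Agent.Lib.JThree.Order
import Cfsg.Agent.Lib.JThree.SimpleAux

/-!
# Centre and simplicity
-/

set_option autoImplicit false
set_option maxRecDepth 100000
set_option linter.style.haveILetI false

namespace Cfsg.Lib.JThree

open Cfsg.Spor Cfsg.Lib.Concrete Cfsg.Lib.PermAut

variable {F : Type} [Field F] {ω : F}

theorem Hyp.ne_zero (H : Hyp F ω) : ω ≠ 0 := fun e => by simpa [e] using H.omega

theorem Hyp.ne_one (H : Hyp F ω) : ω ≠ 1 := fun e => by
  have := H.omega
  rw [e] at this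
  exact one_ne_zero (show (1 : F) = 0 by linear_combination this - H.two)

theorem Hyp.cube (H : Hyp F ω) : ω ^ 3 = 1 := by linear_combination (ω - 1) * H.omega

theorem omegaPow_inj (H : Hyp F ω) {a b : ZMod 3} (h : omegaPow F ω a = omegaPow F ω b) : a = b := by
  haveI := Fact.mk Nat.prime_three
  have ho : orderOf ω = 3 := orderOf_eq_prime H.cube H.ne_one
  exact ZMod.val_injective 3 (pow_injOn_Iio_orderOf (by rw [ho]; exact a.val_lt) (by rw [ho]; exact b.val_lt) h)

theorem fam_el (H : Hyp F ω) (f : Fin 5) (Z : F9) (hZ : 3 ≤ (f : ℕ) → Z ≠ 0) : ∃ g ∈ threeJ3 F ω,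
    (g : Matrix F9 F9 F) = Matrix.of fun w z => evalE ω (famE f Z w z) := by
  obtain ⟨g, hg, e⟩ := fam_unit H f Z hZ
  exact ⟨g, hg, by rw [e, toM_fam H.omega H.two f Z hZ]⟩

/-- A central element is a scalar. -/
theorem center_scalar (H : Hyp F ω) {g : threeJ3 F ω} (hg : g ∈ Subgroup.center ↥(threeJ3 F ω)) :
    ∃ c : F, c ≠ 0 ∧ ((g : GL F9 F) : Matrix F9 F9 F) = c • 1 := by
  classical
  set M := ((g : GL F9 F) : Matrix F9 F9 F)
  have hcomm : ∀ k ∈ threeJ3 F ω, M * (k : Matrix F9 F9 F) = (k : Matrix F9 F9 F) * M := fun k hk =>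
    (congrArg (fun x : threeJ3 F ω => ((x : GL F9 F) : Matrix F9 F9 F)) (Subgroup.mem_center_iff.1 hg ⟨k, hk⟩)).symm
  have hA : ∀ Z : F9, ∀ w z, M w z * omegaPow F ω (Z.1 * z.1 + Z.2 * z.2) = omegaPow F ω (Z.1 * w.1 + Z.2 * w.2) * M w z := by
    intro Z w z
    obtain ⟨k, hk, e⟩ := fam_el H 0 Z fun h => by simp at h
    have e' : (k : Matrix F9 F9 F) = Matrix.diagonal fun u : F9 => omegaPow F ω (Z.1 * u.1 + Z.2 * u.2) := by
      rw [e]; ext u v
      simp only [Matrix.of_apply, Fin.val_zero, famE, evalE_ite, Matrix.diagonal_apply]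
      split <;> rename_i h <;> simp_all [evalE]
    have := congrFun (congrFun (hcomm k hk) w) z
    rwa [e', Matrix.mul_diagonal, Matrix.diagonal_mul] at this
  have hdiag : ∀ w z, w ≠ z → M w z = 0 := by
    intro w z hne
    by_contra h0
    have hsep : ∀ w z : F9, w ≠ z → ∃ Z : F9, Z.1 * z.1 + Z.2 * z.2 ≠ Z.1 * w.1 + Z.2 * w.2 := by decide +kernel
    obtain ⟨Z, hZ⟩ := hsep w z hne
    exact hZ (omegaPow_inj H (mul_left_cancel₀ h0 ((hA Z w z).trans (mul_comm _ _))))
  have hconst : ∀ z : F9, M z z = M 0 0 := by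
    intro Z
    obtain ⟨k, hk, e⟩ := fam_el H 2 Z fun h => absurd h (by decide)
    have hkz : (k : Matrix F9 F9 F) Z 0 = 1 := by
      rw [e]; simp [show ((2 : Fin 5) : ℕ) = 2 from rfl, famE, evalE_zero]
    have h1 := congrFun (congrFun (hcomm k hk) Z) 0
    rw [Matrix.mul_apply, Matrix.mul_apply, Finset.sum_eq_single Z (fun b _ hb => by rw [hdiag _ _ (Ne.symm hb), zero_mul])
      (by simp), Finset.sum_eq_single (0 : F9) (fun b _ hb => by rw [hdiag _ _ hb, mul_zero]) (by simp), hkz, mul_one,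
      one_mul] at h1
    exact h1
  have hM : M = M 0 0 • 1 := by
    ext w z
    by_cases h : w = z
    · subst h; simp [hconst w]
    · simp [hdiag _ _ h, h]
  refine ⟨M 0 0, fun h0 => ?_, hM⟩
  rw [h0, zero_smul] at hM
  have hu : M * ((g : GL F9 F)⁻¹ : GL F9 F).val = 1 := (g : GL F9 F).mul_inv
  rw [hM, zero_mul] at hu
  exact zero_ne_one hu

theorem toM_scal : toM ω scal = ω • (1 : Matrix F9 F9 F) := by
  have h : ∀ i j : F9, ((loP scal).testBit (9 * iz i + iz j), (hiP scal).testBit (9 * iz i + iz j)) =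
      (false, decide (i = j)) := by decide +kernel
  ext i j
  have e := h i j
  simp only [Prod.mk.injEq] at e
  simp only [toM, Matrix.of_apply, e.1, e.2, Matrix.smul_apply, Matrix.one_apply]
  by_cases hij : i = j <;> simp [hij, valF, bitF]

theorem card_center [Fintype F] (hF : Fintype.card F = 4) (H : Hyp F ω) :
    Nat.card (Subgroup.center ↥(threeJ3 F ω)) = 3 := by
  classical
  have hu : Nat.card Fˣ = 3 := by rw [Nat.card_eq_fintype_card, Fintype.card_units, hF]
  let S := {c : F // c ≠ 0}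
  have hS : Nat.card S = 3 := by rw [← hu]; exact Nat.card_congr unitsEquivNeZero.symm
  refine le_antisymm ?_ ?_
  · refine le_trans ?_ hS.le
    let f : Subgroup.center ↥(threeJ3 F ω) → S := fun g =>
      ⟨(center_scalar H g.2).choose, (center_scalar H g.2).choose_spec.1⟩
    refine Nat.card_le_card_of_injective f fun a b e => ?_
    have ea := (center_scalar H a.2).choose_spec.2
    have eb := (center_scalar H b.2).choose_spec.2
    have e' : (center_scalar H a.2).choose = (center_scalar H b.2).choose := congrArg Subtype.val e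
    rw [e'] at ea
    exact Subtype.ext (Subtype.ext (Units.ext (ea.trans eb.symm)))
  · obtain ⟨g, hg, eg⟩ := (el_has H).2.2.2.2
    rw [toM_scal] at eg
    have hc : (⟨g, hg⟩ : threeJ3 F ω) ∈ Subgroup.center ↥(threeJ3 F ω) := by
      refine Subgroup.mem_center_iff.2 fun k => Subtype.ext (Units.ext ?_)
      simp only [Subgroup.coe_mul, Units.val_mul, eg, Matrix.mul_smul, Matrix.smul_mul, mul_one, one_mul]
    have h3 : (⟨g, hg⟩ : threeJ3 F ω) ^ 3 = 1 := by
      refine Subtype.ext (Units.ext ?_)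
      simp only [Subgroup.coe_pow, Units.val_pow_eq_pow_val, eg, smul_pow, one_pow, H.cube, one_smul]
      rfl
    have h1 : (⟨g, hg⟩ : threeJ3 F ω) ≠ 1 := fun e => H.ne_one (by
      have := congrArg (fun x : threeJ3 F ω => ((x : GL F9 F) : Matrix F9 F9 F) 0 0) e
      simpa [eg] using this)
    haveI := Fact.mk Nat.prime_three
    have ho : orderOf (⟨⟨g, hg⟩, hc⟩ : Subgroup.center ↥(threeJ3 F ω)) = 3 := by
      rw [Subgroup.orderOf_mk]; exact orderOf_eq_prime h3 h1
    exact Nat.le_of_dvd Nat.card_pos (dvd_trans (dvd_of_eq ho.symm) (orderOf_dvd_natCard _))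

theorem card_J3 [Fintype F] (hF : Fintype.card F = 4) (H : Hyp F ω) : Nat.card (J3 F ω) = 50232960 := by
  have h := Subgroup.card_eq_card_quotient_mul_card_subgroup (Subgroup.center ↥(threeJ3 F ω))
  rw [card_threeJ3 H, card_center hF H] at h
  show Nat.card (↥(threeJ3 F ω) ⧸ Subgroup.center ↥(threeJ3 F ω)) = _
  omega

/-- The cover is generated by its elements of order seventeen. -/
theorem gen_seventeen (H : Hyp F ω) : Subgroup.closure {g : threeJ3 F ω | g ^ 17 = 1} = ⊤ := by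
  obtain ⟨h0, h1, -⟩ := list_has H
  obtain ⟨p0, p1, e0, e1, l0, l1⟩ := spl_ok
  simp only [List.all_eq_true, Nat.beq_eq] at p0 p1
  set K := Subgroup.closure {g : threeJ3 F ω | g ^ 17 = 1}
  have mem17 : ∀ M, Has ω (threeJ3 F ω) M → powC M 17 = oneM → ∃ g : threeJ3 F ω, g ∈ K ∧
      ((g : GL F9 F) : Matrix F9 F9 F) = toM ω M := fun M ⟨g, hg, e⟩ hp =>
    ⟨⟨g, hg⟩, Subgroup.subset_closure (Subtype.ext (Units.ext (by
      rw [Subgroup.coe_pow, Units.val_pow_eq_pow_val, e, ← toM_powC H, hp, toM_one]; rfl))), e⟩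
  have key : ∀ (L : List ℕ) (G : ℕ), L.length = 2 → mmul (L.getD 0 0) (L.getD 1 0) = G →
      (∀ M ∈ L, Has ω (threeJ3 F ω) M) → (∀ M ∈ L, powC M 17 = oneM) →
      ∀ g : threeJ3 F ω, ((g : GL F9 F) : Matrix F9 F9 F) = toM ω G → g ∈ K := by
    intro L G hl hG hh hp g hg
    obtain ⟨u, v, rfl⟩ := List.length_eq_two.1 hl
    obtain ⟨gu, hu, eu⟩ := mem17 u (hh u (by simp)) (hp u (by simp))
    obtain ⟨gv, hv, ev⟩ := mem17 v (hh v (by simp)) (hp v (by simp))
    have : g = gu * gv := Subtype.ext (Units.ext (by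
      rw [Subgroup.coe_mul, Units.val_mul, hg, eu, ev, ← toM_mmul H.two H.omega, ← hG]; rfl))
    rw [this]; exact mul_mem hu hv
  refine top_le_iff.1 fun g _ => ?_
  have hle : Γ0 H ≤ K.map (threeJ3 F ω).subtype := by
    refine (Subgroup.closure_le _).2 ?_
    have hg : ∀ i < 2, gEl H i ∈ threeJ3 F ω := fun i hi => by
      rw [gEl, dif_pos hi]; exact (gens_mem H i hi).choose_spec.1
    rintro x (rfl | rfl)
    · exact ⟨⟨_, hg 0 (by norm_num)⟩, key spl0 genA l0 e0 h0 p0 _ (gEl_val H (by norm_num)), rfl⟩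
    · exact ⟨⟨_, hg 1 (by norm_num)⟩, key spl1 genB l1 e1 h1 p1 _ (gEl_val H (by norm_num)), rfl⟩
  obtain ⟨y, hy, e⟩ := hle (show (g : GL F9 F) ∈ Γ0 H by rw [Γ0_eq H]; exact g.2)
  exact (Subtype.ext e : y = g) ▸ hy

theorem not_modEq_seventeen : ∀ q n i : ℕ, q ^ n ∣ 50232960 → q.Prime → i ≤ n → 0 < i → q ≠ 17 →
    ¬ q ^ i ≡ 1 [MOD 17] := by
  intro q n i hd hq hin hi0 hne
  have hq5 : q ∈ ({2, 3, 5, 19} : Finset ℕ) := by
    have hqd : q ∣ 2 ^ 7 * (3 ^ 5 * (5 * (17 * 19))) :=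
      (dvd_pow_self q (by omega : n ≠ 0)).trans (by norm_num; exact hd)
    rcases hq.dvd_mul.1 hqd with h | h
    · simp [(Nat.prime_dvd_prime_iff_eq hq Nat.prime_two).1 (hq.dvd_of_dvd_pow h)]
    rcases hq.dvd_mul.1 h with h | h
    · simp [(Nat.prime_dvd_prime_iff_eq hq Nat.prime_three).1 (hq.dvd_of_dvd_pow h)]
    rcases hq.dvd_mul.1 h with h | h
    · simp [(Nat.prime_dvd_prime_iff_eq hq Nat.prime_five).1 h]
    rcases hq.dvd_mul.1 h with h | h
    · exact absurd ((Nat.prime_dvd_prime_iff_eq hq (by norm_num)).1 h) hne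
    · simp [(Nat.prime_dvd_prime_iff_eq hq (by norm_num)).1 h]
  have hn : n ≤ 7 := by
    by_contra hn
    have h8 : q ^ 8 ∣ 50232960 := (pow_dvd_pow q (by omega)).trans hd
    simp only [Finset.mem_insert, Finset.mem_singleton] at hq5
    rcases hq5 with rfl | rfl | rfl | rfl <;> norm_num at h8
  simp only [Finset.mem_insert, Finset.mem_singleton] at hq5
  unfold Nat.ModEq
  have : i ≤ 7 := by omega
  rcases hq5 with rfl | rfl | rfl | rfl
  · interval_cases i <;> norm_num
  · interval_cases i <;> norm_num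
  · interval_cases i <;> norm_num
  · have hn1 : n ≤ 1 := by
      by_contra h
      have h2 : 19 ^ 2 ∣ 50232960 := (pow_dvd_pow 19 (by omega)).trans hd
      norm_num at h2
    obtain rfl : i = 1 := by omega
    norm_num

theorem J3_gen17 (H : Hyp F ω) : Subgroup.closure {x : J3 F ω | x ^ 17 = 1} = ⊤ := by
  refine top_le_iff.1 fun x _ => ?_
  obtain ⟨g, rfl⟩ := QuotientGroup.mk_surjective x
  have hle : Subgroup.closure {g : threeJ3 F ω | g ^ 17 = 1} ≤
      (Subgroup.closure {x : J3 F ω | x ^ 17 = 1}).comap (QuotientGroup.mk' _) := by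
    refine (Subgroup.closure_le _).2 fun y hy => Subgroup.subset_closure ?_
    show (QuotientGroup.mk' _ y) ^ 17 = 1
    rw [← map_pow, hy, map_one]
  exact hle (gen_seventeen H ▸ Subgroup.mem_top g)

theorem center_J3 [Fintype F] (hF : Fintype.card F = 4) (H : Hyp F ω) : Subgroup.center (J3 F ω) = ⊥ := by
  refine (Subgroup.eq_bot_iff_forall _).2 fun z hz => ?_
  obtain ⟨g, rfl⟩ := QuotientGroup.mk_surjective z
  refine (QuotientGroup.eq_one_iff g).2 ?_
  set Z := Subgroup.center ↥(threeJ3 F ω)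
  have hz3 : ∀ u ∈ Z, u ^ 3 = 1 := fun u hu => by
    have h0 : (⟨u, hu⟩ : Z) ^ Nat.card Z = 1 := pow_card_eq_one'
    rw [show Nat.card Z = 3 from card_center hF H] at h0
    have := h0
    simpa using congrArg (fun w : Z => (w : ↥(threeJ3 F ω))) this
  have hmem : ∀ y, g * y * g⁻¹ * y⁻¹ ∈ Z := fun y => by
    rw [← QuotientGroup.eq_one_iff]
    have e := Subgroup.mem_center_iff.1 hz (y : J3 F ω)
    simp only [QuotientGroup.mk_mul, QuotientGroup.mk_inv]
    rw [← e]
    exact (congrArg (· * ((y : J3 F ω))⁻¹) (mul_inv_cancel_right _ _)).trans (mul_inv_cancel _)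
  have hcent : ∀ y ∈ {y : threeJ3 F ω | y ^ 17 = 1}, y ∈ Subgroup.centralizer {g} := by
    intro y hy
    refine Subgroup.mem_centralizer_singleton_iff.2 ?_
    have e : g * y * g⁻¹ = (g * y * g⁻¹ * y⁻¹) * y := by group
    have hc : Commute (g * y * g⁻¹ * y⁻¹) y := (Subgroup.mem_center_iff.1 (hmem y) y).symm
    have h17 : (g * y * g⁻¹ * y⁻¹) ^ 17 = 1 := by
      have := congrArg (· ^ 17) e
      simp only [hc.mul_pow, conj_pow, show y ^ 17 = 1 from hy, mul_one, mul_inv_cancel] at this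
      exact this.symm
    have h1 := pow_gcd_eq_one.2 ⟨hz3 _ (hmem y), h17⟩
    rw [show Nat.gcd 3 17 = 1 from rfl, pow_one, mul_inv_eq_one, mul_inv_eq_iff_eq_mul] at h1
    exact h1.symm
  have htop : (⊤ : Subgroup (threeJ3 F ω)) ≤ Subgroup.centralizer {g} :=
    gen_seventeen H ▸ (Subgroup.closure_le _).2 hcent
  exact Subgroup.mem_center_iff.2 fun y => Subgroup.mem_centralizer_singleton_iff.1 (htop (Subgroup.mem_top y))

theorem simple_J3 [Fintype F] (hF : Fintype.card F = 4) (H : Hyp F ω) : IsSimpleGroup (J3 F ω) := by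
  haveI : Finite (J3 F ω) := Nat.finite_of_card_ne_zero (by rw [card_J3 hF H]; norm_num)
  haveI : Nontrivial (J3 F ω) := Finite.one_lt_card_iff_nontrivial.1 (by rw [card_J3 hF H]; norm_num)
  haveI := Fact.mk (show Nat.Prime 17 by norm_num)
  refine IsSimpleGroup.mk fun N hN => ?_
  have hd : Nat.card N ∣ 50232960 := card_J3 hF H ▸ N.card_subgroup_dvd_card
  by_cases h17 : 17 ∣ Nat.card N
  · right
    have hidx : ¬ 17 ∣ N.index := fun h => by
      have := mul_dvd_mul h17 h
      rw [N.card_mul_index, card_J3 hF H] at this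
      norm_num at this
    rw [eq_top_iff, ← J3_gen17 H, Subgroup.closure_le]
    intro x hx
    rw [SetLike.mem_coe, ← QuotientGroup.eq_one_iff]
    have e1 : (x : J3 F ω ⧸ N) ^ 17 = 1 := by rw [← QuotientGroup.mk_pow, hx]; rfl
    have e2 : (x : J3 F ω ⧸ N) ^ N.index = 1 := pow_card_eq_one'
    have := pow_gcd_eq_one.2 ⟨e1, e2⟩
    rwa [((by norm_num : Nat.Prime 17).coprime_iff_not_dvd.2 hidx).gcd_eq_one, pow_one] at this
  · left
    have hsmall : ∀ q n : ℕ, q.Prime → q ^ n ∣ Nat.card N → ∀ i ≤ n, 0 < i → ¬ q ^ i ≡ 1 [MOD 17] := by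
      intro q n hq hdv i hin hi0
      refine not_modEq_seventeen q n i (hdv.trans hd) hq hin hi0 fun e => h17 ?_
      exact e ▸ (dvd_pow_self q (by omega : n ≠ 0)).trans hdv
    have hle : (⊤ : Subgroup (J3 F ω)) ≤ Subgroup.centralizer (N : Set (J3 F ω)) := by
      rw [← J3_gen17 H, Subgroup.closure_le]
      exact fun c hc => Subgroup.mem_centralizer_iff.2 fun x hx =>
        (centralizes_normal N (by norm_num) h17 hsmall hc x hx).symm
    refine eq_bot_iff.2 fun x hx => center_J3 hF H ▸ Subgroup.mem_center_iff.2 fun y => ?_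
    exact ((Subgroup.mem_centralizer_iff.1 (hle (Subgroup.mem_top y))) x hx).symm

end Cfsg.Lib.JThree
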