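import Cfsg.Agent.Lib.JThree.Defs

/-!
Checks of products with the representatives.
-/

set_option autoImplicit false
set_option maxRecDepth 100000

namespace Cfsg.Lib.JThree

open Cfsg.Lib.Concrete Cfsg.Lib.PermAut

theorem edgesB0 : edgesB 1 0 1539 = true := by decide +kernel

end Cfsg.Lib.JThree
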