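import Cfsg.Agent.Lib.JThree.SubDefs

/-!
Checks of single elements.
-/

set_option autoImplicit false
set_option maxRecDepth 100000

namespace Cfsg.Lib.JThree

open Cfsg.Lib.Concrete Cfsg.Lib.PermAut

theorem wits_ok : (witB elN19 elN19W && witB elN17 elN17W && witB elN5 elN5W && witB fusEl fusElW && witB scal scalW &&
    witsB spl0 spl0W && witsB spl1 spl1W && witsB pTwoGens pTwoW && witsB pThreeGens pThreeW &&
    witsB twoGens twoW && witsB threeGens threeW) = true := by decide +kernel

theorem pows_ok : powC elN19 19 = oneM ∧ elN19 ≠ oneM ∧ powC elN17 17 = oneM ∧ elN17 ≠ oneM ∧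
    powC elN5 5 = oneM ∧ elN5 ≠ oneM := by decide +kernel

theorem spl_ok : (spl0.all fun M => Nat.beq (powC M 17) oneM) = true ∧ (spl1.all fun M => Nat.beq (powC M 17) oneM) = true ∧
    mmul (spl0.getD 0 0) (spl0.getD 1 0) = genA ∧ mmul (spl1.getD 0 0) (spl1.getD 1 0) = genB ∧
    spl0.length = 2 ∧ spl1.length = 2 := by
  decide +kernel

theorem scal_ok : scal ≠ oneM ∧ powC scal 3 = oneM ∧
    ((List.range 81).all fun k => Nat.beq (Nat.land (Nat.shiftRight (hiP scal) k) 1)
      (bif Nat.beq (k % 10) 0 then 1 else 0) && Nat.beq (Nat.land (Nat.shiftRight (loP scal) k) 1) 0) = true := by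
  decide +kernel

end Cfsg.Lib.JThree
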