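import Cfsg.Agent.Lib.JThree.Defs

/-!
Checks of the families.
-/

set_option autoImplicit false
set_option maxRecDepth 100000

namespace Cfsg.Lib.JThree

open Cfsg.Lib.Concrete Cfsg.Lib.PermAut

theorem words_ok : ((wordA ++ wordB).all fun k => Nat.blt k 45) = true ∧
    wordC (fun k => tget 162 famCodes k) wordA = genA ∧ wordC (fun k => tget 162 famCodes k) wordB = genB := by
  decide +kernel

theorem fam_ok : ((List.range 45).all fun k => force (famWit.getD k (0, 0, 0)).1 fun y =>
    force (famWit.getD k (0, 0, 0)).2.1 fun a => force (famWit.getD k (0, 0, 0)).2.2 fun c =>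
      Nat.blt y 6156 && Nat.blt a 85 && Nat.blt c 288 &&
      Nat.beq (tget 162 famCodes k) (triC y a c) &&
      Nat.beq (mmul (tget 162 famCodes k) (tget 162 famInv k)) oneM &&
      Nat.beq (mmul (tget 162 famInv k) (tget 162 famCodes k)) oneM) = true := by decide +kernel

end Cfsg.Lib.JThree
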