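import Cfsg.Agent.Lib.JThree.Defs

/-!
Checks inside the subgroup.
-/

set_option autoImplicit false
set_option maxRecDepth 100000

namespace Cfsg.Lib.JThree

open Cfsg.Lib.Concrete Cfsg.Lib.PermAut

theorem tree_ok : treeB = true := by decide +kernel

theorem base_ok : repC 0 = oneM ∧ tC 0 = oneM ∧ sC 0 = oneM ∧ mmul genA genA = oneM := by decide +kernel

theorem hsrc_ok : ((List.range 2).all fun k => force (hSrc.getD k (0, 0)).1 fun i => force (hSrc.getD k (0, 0)).2 fun x =>
    Nat.blt i 2 && Nat.blt x 6156 && Nat.blt (cTab i x) 6156 &&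
      Nat.beq (mmul (repC (cTab i x)) (hC k)) (mmul (gC i) (repC x))) = true := by decide +kernel

theorem skw_ok : ((List.range 2).all fun k => ((skWords.getD k []).all fun i => Nat.blt i 2) &&
    Nat.beq (wordC hC (skWords.getD k [])) (kC k)) = true := by decide +kernel

theorem tTree_ok : ((List.range 85).all fun y => Nat.beq y 0 ||
    (Nat.blt (tPar.getD y (0, 0)).1 2 && Nat.blt (tPar.getD y (0, 0)).2 y &&
      Nat.beq (tC y) (mmul (hC (tPar.getD y (0, 0)).1) (tC (tPar.getD y (0, 0)).2)))) = true := by decide +kernel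

theorem sTree_ok : ((List.range 288).all fun y => Nat.beq y 0 ||
    (Nat.blt (sPar.getD y (0, 0)).1 2 && Nat.blt (sPar.getD y (0, 0)).2 y &&
      Nat.beq (sC y) (mmul (kC (sPar.getD y (0, 0)).1) (sC (sPar.getD y (0, 0)).2)))) = true := by decide +kernel

theorem sMul_ok : (all2 (fun x y => Nat.blt y 288 && Nat.beq (mmul (kC 0) (sC x)) (sC y)) (List.range 288) sMul0 &&
    all2 (fun x y => Nat.blt y 288 && Nat.beq (mmul (kC 1) (sC x)) (sC y)) (List.range 288) sMul1) = true := by
  decide +kernel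

theorem tMul_ok : (all2 (fun x (y : ℕ × ℕ) => Nat.blt y.1 85 && Nat.blt y.2 288 &&
      Nat.beq (mmul (hC 0) (tC x)) (mmul (tC y.1) (sC y.2))) (List.range 85) tMul0 &&
    all2 (fun x (y : ℕ × ℕ) => Nat.blt y.1 85 && Nat.blt y.2 288 &&
      Nat.beq (mmul (hC 1) (tC x)) (mmul (tC y.1) (sC y.2))) (List.range 85) tMul1) = true := by decide +kernel

end Cfsg.Lib.JThree
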