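import Cfsg.Prelude.Def_Spor_J3
import Cfsg.Agent.Lib.Concrete.StemCert
import Cfsg.Agent.Lib.PermAut.Basic

/-!
# Nine by nine matrices over the field with four elements as pairs of bit planes
-/

set_option autoImplicit false

namespace Cfsg.Lib.JThree

open Cfsg.Spor Cfsg.Lib.Concrete Cfsg.Lib.PermAut

/-- Bit positions `9 i` for `i < n`. -/
def stride : ℕ → ℕ
  | 0 => 0
  | n + 1 => 1 + 512 * stride n

/-- Nine strided bits. -/
def str9 : ℕ := 4731607904558235517441

/-- The low plane of a code. -/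
def loP (M : ℕ) : ℕ := Nat.land M (Nat.sub (Nat.pow 2 81) 1)

/-- The high plane of a code. -/
def hiP (M : ℕ) : ℕ := Nat.shiftRight M 81

/-- The product of two planes over two elements, over the first indices. -/
noncomputable def dotP (A B n : ℕ) : ℕ :=
  Nat.rec 0 (fun k acc => Nat.xor acc
    (Nat.mul (Nat.land (Nat.shiftRight A k) str9) (Nat.land (Nat.shiftRight B (Nat.mul 9 k)) 511))) n

/-- The product of two codes. -/
noncomputable def mmul (A B : ℕ) : ℕ :=
  let m1 := dotP (loP A) (loP B) 9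
  let m2 := dotP (hiP A) (hiP B) 9
  let m3 := dotP (Nat.xor (loP A) (hiP A)) (Nat.xor (loP B) (hiP B)) 9
  Nat.lor (Nat.xor m1 m2) (Nat.shiftLeft (Nat.xor m1 m3) 81)

theorem testBit_stride_mul : ∀ {n x y : ℕ}, x &&& stride n = x → y < 512 → ∀ i < n, ∀ j < 9,
    (x * y).testBit (9 * i + j) = (x.testBit (9 * i) && y.testBit j)
  | 0, _, _, _, _, i, hi, _, _ => by omega
  | n + 1, x, y, hx, hy, i, hi, j, hj => by
    have hs : stride (n + 1) = 2 ^ 9 * stride n + 1 := by simp [stride]; ring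
    have hdiv : (x / 512) &&& stride n = x / 512 := by
      have e := congrArg (· / 2 ^ 9) hx
      simp only [Nat.and_div_two_pow] at e
      rwa [hs, Nat.mul_add_div (by norm_num), Nat.div_eq_of_lt (by norm_num : 1 < 2 ^ 9), Nat.add_zero] at e
    have hmod : x % 512 ≤ 1 := by
      have e := congrArg (· % 2 ^ 9) hx
      simp only [Nat.and_mod_two_pow] at e
      rw [hs, Nat.mul_add_mod, Nat.one_mod_eq_one.2 (by norm_num)] at e
      rw [show (512 : ℕ) = 2 ^ 9 by norm_num, ← e]
      exact Nat.and_le_right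
    have hsmall : x % 512 * y < 2 ^ 9 := by
      rcases Nat.le_one_iff_eq_zero_or_eq_one.1 hmod with e | e <;> rw [e] <;> norm_num
      exact hy
    have hxy : x * y = 2 ^ 9 * (x / 512 * y) + x % 512 * y := by
      conv_lhs => rw [← Nat.div_add_mod x 512]
      ring
    rw [hxy, Nat.testBit_two_pow_mul_add _ hsmall]
    have hx' : x = 2 ^ 9 * (x / 512) + x % 512 := (Nat.div_add_mod x 512).symm
    conv_rhs => rw [hx', Nat.testBit_two_pow_mul_add _ (Nat.mod_lt x (by norm_num) : x % 512 < 2 ^ 9)]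
    rcases i with _ | i
    · rw [if_pos (by omega), if_pos (by omega), Nat.mul_zero, Nat.zero_add]
      rcases Nat.le_one_iff_eq_zero_or_eq_one.1 hmod with e | e <;> rw [e] <;> simp
    · rw [if_neg (by omega), if_neg (by omega), show 9 * (i + 1) + j - 9 = 9 * i + j by omega,
        show 9 * (i + 1) - 9 = 9 * i by omega]
      exact testBit_stride_mul hdiv hy i (by omega) j hj

theorem str9_eq : str9 = stride 9 := by decide

theorem str9_bit : ∀ i : Fin 9, str9.testBit (9 * (i : ℕ)) = true := by decide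

theorem testBit_outer (A B k i j : ℕ) (hi : i < 9) (hj : j < 9) :
    (Nat.mul (Nat.land (Nat.shiftRight A k) str9) (Nat.land (Nat.shiftRight B (Nat.mul 9 k)) 511)).testBit (9 * i + j) =
      (A.testBit (9 * i + k) && B.testBit (9 * k + j)) := by
  show ((A >>> k &&& str9) * (B >>> (9 * k) &&& 511)).testBit (9 * i + j) = _
  rw [testBit_stride_mul (n := 9) (by rw [← str9_eq, Nat.and_assoc, Nat.and_self])
    (Nat.lt_succ_of_le Nat.and_le_right) i hi j hj]
  rw [Nat.testBit_and, Nat.testBit_and, Nat.testBit_shiftRight, Nat.testBit_shiftRight, str9_bit ⟨i, hi⟩,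
    show (511 : ℕ) = 2 ^ 9 - 1 by norm_num, Nat.testBit_two_pow_sub_one]
  simp [hj, Nat.add_comm]

variable {F : Type} [Field F]

/-- A bit as a scalar. -/
def bitF (b : Bool) : F := bif b then 1 else 0

theorem bitF_and (a b : Bool) : (bitF (a && b) : F) = bitF a * bitF b := by cases a <;> cases b <;> simp [bitF]

theorem bitF_xor (h2 : (2 : F) = 0) (a b : Bool) : (bitF (Bool.xor a b) : F) = bitF a + bitF b := by
  cases a <;> cases b <;> simp [bitF]
  linear_combination -h2

theorem dotP_bit (h2 : (2 : F) = 0) (A B i j : ℕ) (hi : i < 9) (hj : j < 9) : ∀ n,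
    (bitF ((dotP A B n).testBit (9 * i + j)) : F) =
      ∑ k ∈ Finset.range n, bitF (A.testBit (9 * i + k)) * bitF (B.testBit (9 * k + j))
  | 0 => by
    show (bitF ((0 : ℕ).testBit _) : F) = _
    simp [bitF]
  | n + 1 => by
    rw [Finset.sum_range_succ, ← dotP_bit h2 A B i j hi hj n, ← bitF_and, ← testBit_outer A B n i j hi hj,
      ← bitF_xor h2]
    exact congrArg bitF (Nat.testBit_xor ..)

/-- The number of an index. -/
def iz (z : F9) : ℕ := 3 * z.1.val + z.2.val

theorem iz_lt (z : F9) : iz z < 9 := by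
  have := z.1.val_lt; have := z.2.val_lt
  unfold iz; omega

theorem sum_iz {R : Type*} [AddCommMonoid R] (f : ℕ → R) : ∑ z : F9, f (iz z) = ∑ k ∈ Finset.range 9, f k := by
  rw [Fintype.sum_prod_type]
  show (∑ x : Fin 3, ∑ y : Fin 3, f (3 * (x : ℕ) + (y : ℕ))) = _
  simp [Fin.sum_univ_succ, Finset.sum_range_succ]
  abel

/-- The scalar of two bits. -/
def valF (ω : F) (a b : Bool) : F := bitF a + ω * bitF b

/-- The matrix of a code. -/
def toM (ω : F) (M : ℕ) : Matrix F9 F9 F :=
  Matrix.of fun i j => valF ω ((loP M).testBit (9 * iz i + iz j)) ((hiP M).testBit (9 * iz i + iz j))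

theorem hi_pos {P Q k : ℕ} (hk : k < 81) :
    (loP (Nat.lor P (Nat.shiftLeft Q 81))).testBit k = P.testBit k := by
  show ((P ||| Q <<< 81) &&& (2 ^ 81 - 1)).testBit k = _
  rw [Nat.testBit_and, Nat.testBit_two_pow_sub_one, Nat.testBit_or, Nat.testBit_shiftLeft]
  simp [hk, show ¬ 81 ≤ k by omega]

theorem dotP_lt (A B : ℕ) : ∀ n, dotP A B n < 2 ^ 81
  | 0 => by show 0 < 2 ^ 81; norm_num
  | n + 1 => by
    show dotP A B n ^^^ ((A >>> n &&& str9) * (B >>> (9 * n) &&& 511)) < _
    refine Nat.xor_lt_two_pow (dotP_lt A B n) (lt_of_le_of_lt (Nat.mul_le_mul Nat.and_le_right Nat.and_le_right) ?_)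
    rw [str9]; norm_num

/-- Products of codes are products of matrices. -/
theorem toM_mmul {ω : F} (h2 : (2 : F) = 0) (hω : ω ^ 2 + ω + 1 = 0) (A B : ℕ) :
    toM ω (mmul A B) = toM ω A * toM ω B := by
  ext i j
  have hi := iz_lt i
  have hj := iz_lt j
  have hk : 9 * iz i + iz j < 81 := by omega
  simp only [Matrix.mul_apply, toM, Matrix.of_apply]
  rw [sum_iz (fun k => valF ω ((loP A).testBit (9 * iz i + k)) ((hiP A).testBit (9 * iz i + k)) *
    valF ω ((loP B).testBit (9 * k + iz j)) ((hiP B).testBit (9 * k + iz j)))]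
  set m1 := dotP (loP A) (loP B) 9
  set m2 := dotP (hiP A) (hiP B) 9
  set m3 := dotP (Nat.xor (loP A) (hiP A)) (Nat.xor (loP B) (hiP B)) 9
  have hl : (loP (mmul A B)).testBit (9 * iz i + iz j) = Bool.xor (m1.testBit (9 * iz i + iz j)) (m2.testBit (9 * iz i + iz j)) := by
    show (loP (Nat.lor (Nat.xor m1 m2) (Nat.shiftLeft (Nat.xor m1 m3) 81))).testBit _ = _
    rw [hi_pos hk]; exact Nat.testBit_xor ..
  have hh : (hiP (mmul A B)).testBit (9 * iz i + iz j) = Bool.xor (m1.testBit (9 * iz i + iz j)) (m3.testBit (9 * iz i + iz j)) := by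
    show ((((m1 ^^^ m2) ||| (m1 ^^^ m3) <<< 81)) >>> 81).testBit _ = _
    rw [Nat.testBit_shiftRight, Nat.testBit_or, Nat.testBit_shiftLeft]
    have : (m1 ^^^ m2).testBit (81 + (9 * iz i + iz j)) = false := Nat.testBit_lt_two_pow
      (lt_of_lt_of_le (Nat.xor_lt_two_pow (dotP_lt ..) (dotP_lt ..)) (Nat.pow_le_pow_right (by norm_num) (by omega)))
    simp [this]
  rw [hl, hh, valF, bitF_xor h2, bitF_xor h2, dotP_bit h2 _ _ _ _ hi hj, dotP_bit h2 _ _ _ _ hi hj,
    dotP_bit h2 _ _ _ _ hi hj, ← Finset.sum_add_distrib, ← Finset.sum_add_distrib, Finset.mul_sum,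
    ← Finset.sum_add_distrib]
  refine Finset.sum_congr rfl fun k _ => ?_
  simp only [valF, show ∀ x y : ℕ, ∀ p, (Nat.xor x y).testBit p = Bool.xor (x.testBit p) (y.testBit p) from
    fun x y p => Nat.testBit_xor .., bitF_xor h2]
  linear_combination ω * bitF ((loP A).testBit (9 * iz i + k)) * bitF ((loP B).testBit (9 * k + iz j)) * h2 +
    ω * bitF ((hiP A).testBit (9 * iz i + k)) * bitF ((hiP B).testBit (9 * k + iz j)) * h2 +
    bitF ((hiP A).testBit (9 * iz i + k)) * bitF ((hiP B).testBit (9 * k + iz j)) * h2 -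
    bitF ((hiP A).testBit (9 * iz i + k)) * bitF ((hiP B).testBit (9 * k + iz j)) * hω

theorem two_eq_zero [Fintype F] (hF : Fintype.card F = 4) : (2 : F) = 0 := by
  have h := Nat.cast_card_eq_zero F
  rw [hF] at h
  have h4 : (2 : F) * 2 = 0 := by
    rw [← h]; norm_num
  exact mul_self_eq_zero.1 h4

end Cfsg.Lib.JThree
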