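import Cfsg.Agent.Lib.JThree.Core
import Cfsg.Agent.Lib.JThree.CosData
import Cfsg.Agent.Lib.JThree.Data
import Cfsg.Agent.Lib.PermAut.Sub

/-!
# Checks on the codes of the triple cover of the third Janko group
-/

set_option autoImplicit false

namespace Cfsg.Lib.JThree

open Cfsg.Lib.Concrete Cfsg.Lib.PermAut

/-- A representative. -/
def repC (x : ℕ) : ℕ := tget 162 (repChunks.getD (x / 100) 0) (x % 100)

/-- A transversal element. -/
def tC (k : ℕ) : ℕ := tget 162 tTab k

/-- An element of the point stabiliser. -/
def sC (k : ℕ) : ℕ := tget 162 sTab k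

/-- A generator of the cover. -/
def gC (i : ℕ) : ℕ := if Nat.beq i 0 then genA else genB

/-- A generator of the subgroup. -/
def hC (i : ℕ) : ℕ := hGens.getD i oneM

/-- A generator of the point stabiliser. -/
def kC (i : ℕ) : ℕ := skGens.getD i oneM

/-- The image of a coset. -/
def cTab (i x : ℕ) : ℕ := if Nat.beq i 0 then tget 13 cosTab0 x else tget 13 cosTab1 x

/-- The witness of a product. -/
def cWit (i x : ℕ) : ℕ := if Nat.beq i 0 then tget 15 cosWit0 x else tget 15 cosWit1 x

/-- The parent of a coset, with the generator. -/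
def cPar (y : ℕ) : ℕ := tget 14 cosPar y

/-- The element of a triple. -/
noncomputable def triC (y a c : ℕ) : ℕ := mmul (repC y) (mmul (tC a) (sC c))

/-- One product with a representative. -/
noncomputable def edgeB (i x : ℕ) : Bool :=
  force (cTab i x) fun y => Nat.blt y 6156 &&
    (bif !Nat.beq y 0 && Nat.beq (cPar y) (Nat.add (Nat.mul 2 x) i) then Nat.beq (repC y) (mmul (gC i) (repC x))
    else bif Nat.beq i 0 && Nat.blt y x then Nat.beq (cTab 0 y) x
    else force (cWit i x) fun w => Nat.blt w 24480 &&
      force (mmul (gC i) (repC x)) fun L => force (triC y (w / 288) (w % 288)) fun R => Nat.beq L R)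

/-- A range of products. -/
noncomputable def edgesB (i lo len : ℕ) : Bool := allBelowB len fun k => force (Nat.add lo k) fun x => edgeB i x

/-- The tree of cosets is well founded. -/
noncomputable def treeB : Bool :=
  allBelowB 6156 fun y => Nat.beq y 0 ||
    (Nat.blt (cPar y / 2) y && Nat.beq (cTab (cPar y % 2) (cPar y / 2)) y)

/-- The product of a word. -/
noncomputable def wordC (f : ℕ → ℕ) (w : List ℕ) : ℕ := List.rec oneM (fun i _ ih => mmul (f i) ih) w

end Cfsg.Lib.JThree
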