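import Cfsg.Agent.Lib.JThree.CheckA0
import Cfsg.Agent.Lib.JThree.CheckA1
import Cfsg.Agent.Lib.JThree.CheckA2
import Cfsg.Agent.Lib.JThree.CheckA3
import Cfsg.Agent.Lib.JThree.CheckB0
import Cfsg.Agent.Lib.JThree.CheckB1
import Cfsg.Agent.Lib.JThree.CheckB2
import Cfsg.Agent.Lib.JThree.CheckB3

/-!
# All products with the representatives hold
-/

set_option autoImplicit false

namespace Cfsg.Lib.JThree

open Cfsg.Lib.PermAut

theorem edge_of_range {i lo len x : ℕ} (h : edgesB i lo len = true) (h1 : lo ≤ x) (h2 : x < lo + len) :
    edgeB i x = true := by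
  simp only [edgesB, allBelowB_iff, force_eq] at h
  have := h (x - lo) (by omega)
  rwa [show Nat.add lo (x - lo) = x by simp only [Nat.add_eq]; omega] at this

theorem edge_ok {i x : ℕ} (hi : i < 2) (hx : x < 6156) : edgeB i x = true := by
  interval_cases i
  · by_cases h0 : x < 1539
    · exact edge_of_range edgesA0 (Nat.zero_le _) (by omega)
    by_cases h1 : x < 3078
    · exact edge_of_range edgesA1 (by omega) (by omega)
    by_cases h2 : x < 4617
    · exact edge_of_range edgesA2 (by omega) (by omega)
    exact edge_of_range edgesA3 (by omega) (by omega)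
  · by_cases h0 : x < 1539
    · exact edge_of_range edgesB0 (Nat.zero_le _) (by omega)
    by_cases h1 : x < 3078
    · exact edge_of_range edgesB1 (by omega) (by omega)
    by_cases h2 : x < 4617
    · exact edge_of_range edgesB2 (by omega) (by omega)
    exact edge_of_range edgesB3 (by omega) (by omega)

end Cfsg.Lib.JThree
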