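import Cfsg.Agent.Lib.JThree.Defs

/-!
# The five families of matrices as codes
-/

set_option autoImplicit false
set_option maxRecDepth 100000

namespace Cfsg.Lib.JThree

open Cfsg.Spor Cfsg.Lib.Concrete

/-- An entry as an exponent, or nothing for zero. -/
def famE : ℕ → F9 → F9 → F9 → Option (ZMod 3)
  | 0, Z, w, z => if w = z then some (Z.1 * z.1 + Z.2 * z.2) else none
  | 1, Z, w, z => if w = z then some ((Z.1 - z.1) ^ 2 + (Z.2 - z.2) ^ 2) else none
  | 2, Z, w, z => if w = z + Z then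
      some (if z = 0 then 0 else if F9.div Z z = F9.I - F9.one then 1
        else if F9.div Z z = -F9.I - F9.one then 2 else 0) else none
  | 3, Z, w, z => if w = F9.mul Z z then some 0 else none
  | _, Z, w, z => if z = 0 then (if w = 0 then some 0 else none)
      else if w = -F9.div Z z ∨ w = F9.mul F9.I (F9.div Z z) ∨ w = -F9.mul F9.I (F9.div Z z) then some 0 else none

/-- The bits of an entry. -/
def encE : Option (ZMod 3) → Bool × Bool
  | none => (false, false)
  | some n => if n = 0 then (true, false) else if n = 1 then (false, true) else (true, true)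

/-- The number of a member of a family. -/
def famN (f : ℕ) (Z : F9) : ℕ := 9 * f + iz Z

/-- The codes of a family agree with the entries. -/
def famB (f : Fin 5) (Z w z : F9) : Bool :=
  (decide (3 ≤ (f : ℕ)) && decide (Z = 0)) ||
  decide (((loP (tget 162 famCodes (famN f Z))).testBit (9 * iz w + iz z),
    (hiP (tget 162 famCodes (famN f Z))).testBit (9 * iz w + iz z)) = encE (famE f Z w z))

theorem famB_ok : ∀ f : Fin 5, ∀ Z w z : F9, famB f Z w z = true := by decide +kernel

theorem famN_lt {f : ℕ} (hf : f < 5) (Z : F9) : famN f Z < 45 := by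
  have := iz_lt Z
  unfold famN; omega

variable {F : Type} [Field F] {ω : F}

/-- The scalar of an entry. -/
def evalE (ω : F) : Option (ZMod 3) → F
  | none => 0
  | some n => omegaPow F ω n

theorem valF_enc (hω : ω ^ 2 + ω + 1 = 0) (h2 : (2 : F) = 0) (o : Option (ZMod 3)) :
    valF ω (encE o).1 (encE o).2 = evalE ω o := by
  rcases o with _ | n
  · simp [encE, evalE, valF, bitF]
  have hn : n = 0 ∨ n = 1 ∨ n = 2 := by revert n; decide
  rcases hn with rfl | rfl | rfl
  · simp [encE, evalE, valF, bitF, omegaPow]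
  · simp [encE, evalE, valF, bitF, omegaPow, show (1 : ZMod 3).val = 1 from rfl]
  · simp [encE, evalE, valF, bitF, omegaPow, show ¬ (2 : ZMod 3) = 0 by decide, show ¬ (2 : ZMod 3) = 1 by decide,
      show (2 : ZMod 3).val = 2 from rfl]
    linear_combination (1 + ω) * h2 - hω

theorem toM_fam (hω : ω ^ 2 + ω + 1 = 0) (h2 : (2 : F) = 0) (f : Fin 5) (Z : F9) (hZ : 3 ≤ (f : ℕ) → Z ≠ 0) :
    toM ω (tget 162 famCodes (famN f Z)) = Matrix.of fun w z => evalE ω (famE f Z w z) := by
  ext w z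
  have h := famB_ok f Z w z
  simp only [famB, Bool.or_eq_true, Bool.and_eq_true, decide_eq_true_eq] at h
  rcases h with ⟨h3, h0⟩ | h
  · exact absurd h0 (hZ h3)
  simp only [toM, Matrix.of_apply]
  rw [← valF_enc hω h2, ← h]

theorem evalE_ite {P : Prop} [Decidable P] (a b : Option (ZMod 3)) :
    evalE ω (if P then a else b) = if P then evalE ω a else evalE ω b := apply_ite _ _ _ _

theorem evalE_zero : evalE ω (some 0) = 1 := by simp [evalE, omegaPow]

theorem evalE_none : evalE ω none = 0 := rfl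

/-- The generating matrices have codes. -/
theorem exists_fam (hω : ω ^ 2 + ω + 1 = 0) (h2 : (2 : F) = 0) {M : Matrix F9 F9 F} (hM : M ∈ j3Gens F ω) :
    ∃ (f : Fin 5) (Z : F9), (3 ≤ (f : ℕ) → Z ≠ 0) ∧ M = toM ω (tget 162 famCodes (famN f Z)) := by
  rcases hM with ((((⟨Z, rfl⟩ | ⟨Z, rfl⟩) | ⟨Z, rfl⟩) | ⟨Z, hZ, rfl⟩) | ⟨Z, hZ, rfl⟩)
  · refine ⟨0, Z, fun h => by simp at h, ?_⟩
    rw [toM_fam hω h2 0 Z fun h => by simp at h]
    ext w z
    simp only [j3A, Matrix.diagonal_apply, Matrix.of_apply, Fin.val_zero, famE, evalE_ite]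
    split <;> rename_i h <;> simp_all [evalE]
  · refine ⟨1, Z, fun h => by simp at h, ?_⟩
    rw [toM_fam hω h2 1 Z fun h => by simp at h]
    ext w z
    simp only [j3E, Matrix.diagonal_apply, Matrix.of_apply, Fin.val_one, famE, evalE_ite]
    split <;> rename_i h <;> simp_all [evalE]
  · refine ⟨2, Z, fun h => absurd h (by decide), ?_⟩
    rw [toM_fam hω h2 2 Z fun h => absurd h (by decide)]
    ext w z
    simp only [j3D, Matrix.of_apply, show ((2 : Fin 5) : ℕ) = 2 from rfl, famE, evalE_ite, evalE_none]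
    refine if_congr Iff.rfl ?_ rfl
    simp only [j3Lam, evalE, omegaPow]
    split_ifs <;> simp [show (2 : ZMod 3).val = 2 from rfl, show (1 : ZMod 3).val = 1 from rfl]
  · refine ⟨3, Z, fun _ => hZ, ?_⟩
    rw [toM_fam hω h2 3 Z fun _ => hZ]
    ext w z
    simp only [j3B, Matrix.of_apply, show ((3 : Fin 5) : ℕ) = 3 from rfl, famE, evalE_ite, evalE_none, evalE_zero]
  · refine ⟨4, Z, fun _ => hZ, ?_⟩
    rw [toM_fam hω h2 4 Z fun _ => hZ]
    ext w z
    simp only [j3C, Matrix.of_apply, show ((4 : Fin 5) : ℕ) = 4 from rfl, famE, evalE_ite, evalE_none, evalE_zero]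

/-- A member of a family lies in the generating set. -/
theorem fam_mem_gens (hω : ω ^ 2 + ω + 1 = 0) (h2 : (2 : F) = 0) (f : Fin 5) (Z : F9) (hZ : 3 ≤ (f : ℕ) → Z ≠ 0) :
    toM ω (tget 162 famCodes (famN f Z)) ∈ j3Gens F ω := by
  obtain rfl | rfl | rfl | rfl | rfl :=
    (by decide : ∀ g : Fin 5, g = 0 ∨ g = 1 ∨ g = 2 ∨ g = 3 ∨ g = 4) f
  · refine Or.inl (Or.inl (Or.inl (Or.inl ⟨Z, ?_⟩)))
    rw [toM_fam hω h2 0 Z hZ]
    ext w z
    simp only [j3A, Matrix.diagonal_apply, Matrix.of_apply, Fin.val_zero, famE, evalE_ite]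
    split <;> rename_i h <;> simp_all [evalE]
  · refine Or.inl (Or.inl (Or.inl (Or.inr ⟨Z, ?_⟩)))
    rw [toM_fam hω h2 1 Z hZ]
    ext w z
    simp only [j3E, Matrix.diagonal_apply, Matrix.of_apply, Fin.val_one, famE, evalE_ite]
    split <;> rename_i h <;> simp_all [evalE]
  · refine Or.inl (Or.inl (Or.inr ⟨Z, ?_⟩))
    rw [toM_fam hω h2 2 Z hZ]
    ext w z
    simp only [j3D, Matrix.of_apply, show ((2 : Fin 5) : ℕ) = 2 from rfl, famE, evalE_ite, evalE_none]
    refine if_congr Iff.rfl ?_ rfl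
    simp only [j3Lam, evalE, omegaPow]
    split_ifs <;> simp [show (2 : ZMod 3).val = 2 from rfl, show (1 : ZMod 3).val = 1 from rfl]
  · refine Or.inl (Or.inr ⟨Z, hZ (by decide), ?_⟩)
    rw [toM_fam hω h2 3 Z hZ]
    ext w z
    simp only [j3B, Matrix.of_apply, show ((3 : Fin 5) : ℕ) = 3 from rfl, famE, evalE_ite, evalE_none, evalE_zero]
  · refine Or.inr ⟨Z, hZ (by decide), ?_⟩
    rw [toM_fam hω h2 4 Z hZ]
    ext w z
    simp only [j3C, Matrix.of_apply, show ((4 : Fin 5) : ℕ) = 4 from rfl, famE, evalE_ite, evalE_none, evalE_zero]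

end Cfsg.Lib.JThree
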