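import Cfsg.Agent.Lib.JThree.InvolCheck

/-!
# Checks on a Sylow 2-subgroup of the involution centraliser
-/

set_option autoImplicit false
set_option maxRecDepth 100000

namespace Cfsg.Lib.JThree

open Cfsg.Lib.Concrete Cfsg.Lib.PermAut

/-- The elements of a four-group in the complement. -/
def vI (v : ℕ) : ℕ := tget 6 (1 * 64 + 58 * 4096 + 59 * 262144) v

/-- The product in the Sylow subgroup. -/
def sT (i j : ℕ) : ℕ := qT (i % 32) (aqT (vI (i / 32)) (j % 32)) + 32 * Nat.xor (i / 32) (j / 32)

theorem sylV_ok : ((List.range 4).all fun u => Nat.blt (vI u) 60 &&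
    (List.range 4).all fun v => Nat.beq (aT (vI u) (vI v)) (vI (Nat.xor u v)) && (Nat.beq u v || !Nat.beq (vI u) (vI v))) = true := by
  decide +kernel

/-- The involutions of the Sylow subgroup, with the identity. -/
def sylInv : List ℕ := (List.range 128).filter fun i => Nat.beq (sT i i) 0

theorem sylCentre_ok : ((List.range 128).all fun i => Nat.blt (sT i i) 128 &&
    (Nat.beq i 0 || Nat.beq i 1 || (List.range 128).any fun j => !Nat.beq (sT i j) (sT j i))) = true := by
  decide +kernel

theorem sylGen_ok : ((List.range 128).all fun i =>
    sylInv.any fun j => sylInv.any fun k => Nat.beq (sT j k) i) = true := by decide +kernel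

theorem sylOuter_ok : ((List.range 60).all fun a => Nat.beq a 0 || (List.range 32).all fun q =>
    (List.range 32).any fun i => !Nat.beq (qT q (aqT a i)) (qT i q)) = true := by decide +kernel

theorem invAGen_ok : ((List.range 60).all fun a => (List.range 60).any fun i =>
    Nat.beq (aT i i) 0 && (List.range 60).any fun j => Nat.beq (aT j j) 0 && Nat.beq (aT i j) a) = true := by
  decide +kernel

end Cfsg.Lib.JThree
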