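import Cfsg.Agent.Lib.JThree.InvolShape
import Cfsg.Agent.Lib.JThree.SylCheck
import Cfsg.Agent.Lib.J2.FusionCriterion

/-!
# The 2-fusion system of the third Janko group is simple
-/

set_option autoImplicit false
set_option maxRecDepth 100000
set_option linter.style.haveILetI false

open scoped Pointwise

namespace Cfsg.Lib.JThree

open Cfsg.Spor Cfsg.Lib.Concrete Cfsg.Lib.PermAut

attribute [local irreducible] tget

variable {G : Type*} [Group G]

/-- An element of the Sylow subgroup. -/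
def InvolTables.fS (D : InvolTables G) (i : ℕ) : G := D.fQ (i % 32) * D.fA (vI (i / 32))

theorem InvolTables.tables (D : InvolTables G) :
    (∀ i < 32, ∀ j < 32, qT i j < 32 ∧ D.fQ i * D.fQ j = D.fQ (qT i j)) ∧
    (∀ i < 60, ∀ j < 60, aT i j < 60 ∧ D.fA i * D.fA j = D.fA (aT i j)) ∧
    (∀ a < 60, ∀ q < 32, aqT a q < 32) := by
  have hT := invT_ok
  simp only [Bool.and_eq_true, allBelowB_iff, Nat.blt, Nat.ble_eq, Nat.beq_eq] at hT
  exact ⟨fun i hi j hj => ⟨hT.1.1 i hi j hj, D.qmul i hi j hj⟩, fun i hi j hj => ⟨hT.1.2 i hi j hj, D.amul i hi j hj⟩,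
    fun a ha q hq => (hT.2 a ha q hq).1⟩

theorem vI_facts : (∀ u < 4, vI u < 60) ∧ (∀ u < 4, ∀ v < 4, aT (vI u) (vI v) = vI (Nat.xor u v)) ∧
    (∀ u < 4, ∀ v < 4, vI u = vI v → u = v) := by
  have h := sylV_ok
  simp only [List.all_eq_true, List.mem_range, Bool.and_eq_true, Bool.or_eq_true, Bool.not_eq_true', Nat.blt,
    Nat.ble_eq, Nat.beq_eq, ← Bool.not_eq_true] at h
  exact ⟨fun u hu => (h u hu).1, fun u hu v hv => ((h u hu).2 v hv).1,
    fun u hu v hv e => ((h u hu).2 v hv).2.resolve_right fun h' => h' e⟩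

theorem InvolTables.smul' (D : InvolTables G) :
    ∀ i < 128, ∀ j < 128, sT i j < 128 ∧ D.fS i * D.fS j = D.fS (sT i j) := by
  intro i hi j hj
  obtain ⟨hq, -, haq⟩ := D.tables
  obtain ⟨hv, hvv, -⟩ := vI_facts
  have hu : i / 32 < 4 := by omega
  have hw : j / 32 < 4 := by omega
  have hm1 : i % 32 < 32 := Nat.mod_lt _ (by norm_num)
  have hm2 : j % 32 < 32 := Nat.mod_lt _ (by norm_num)
  have hx : Nat.xor (i / 32) (j / 32) < 4 := Nat.xor_lt_two_pow (n := 2) hu hw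
  have hr := haq _ (hv _ hu) _ hm2
  have hqq := hq _ hm1 _ hr
  refine ⟨by unfold sT; omega, ?_⟩
  have e1 : sT i j % 32 = qT (i % 32) (aqT (vI (i / 32)) (j % 32)) := by unfold sT; omega
  have e2 : sT i j / 32 = Nat.xor (i / 32) (j / 32) := by unfold sT; omega
  rw [InvolTables.fS, InvolTables.fS, InvolTables.fS, e1, e2, ← hvv _ hu _ hw, ← D.amul _ (hv _ hu) _ (hv _ hw),
    ← hqq.2]
  calc D.fQ (i % 32) * D.fA (vI (i / 32)) * (D.fQ (j % 32) * D.fA (vI (j / 32)))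
      = D.fQ (i % 32) * (D.fA (vI (i / 32)) * D.fQ (j % 32)) * D.fA (vI (j / 32)) := by simp only [mul_assoc]
    _ = D.fQ (i % 32) * (D.fQ (aqT (vI (i / 32)) (j % 32)) * D.fA (vI (i / 32))) * D.fA (vI (j / 32)) := by
        rw [D.aqmul _ (hv _ hu) _ hm2]
    _ = _ := by simp only [mul_assoc]

theorem InvolTables.fS_zero (D : InvolTables G) : D.fS 0 = 1 := by
  rw [InvolTables.fS, show vI (0 / 32) = 0 by decide +kernel, show 0 % 32 = 0 from rfl, D.q0, D.a0, one_mul]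

theorem InvolTables.fS_q (D : InvolTables G) {i : ℕ} (hi : i < 32) : D.fS i = D.fQ i := by
  rw [InvolTables.fS, Nat.mod_eq_of_lt hi, Nat.div_eq_of_lt hi, show vI 0 = 0 by decide +kernel, D.a0, mul_one]

variable [Finite G] (D : InvolTables G)

/-- The Sylow subgroup. -/
def InvolTables.syl : Subgroup G := tabSub D.fS sT (by norm_num) D.fS_zero D.smul'

/-- The normal subgroup of the centraliser. -/
def InvolTables.qSub : Subgroup G := tabSub D.fQ qT (by norm_num) D.q0 D.tables.1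

/-- The complement in the centraliser. -/
def InvolTables.aSub : Subgroup G := tabSub D.fA aT (by norm_num) D.a0 D.tables.2.1

theorem InvolTables.sinj : ∀ i < 128, ∀ j < 128, D.fS i = D.fS j → i = j := by
  intro i hi j hj e
  obtain ⟨hv, -, hvi⟩ := vI_facts
  have h1 : (D.fQ (j % 32))⁻¹ * D.fQ (i % 32) = D.fA (vI (j / 32)) * (D.fA (vI (i / 32)))⁻¹ := by
    rw [eq_mul_inv_iff_mul_eq, mul_assoc]
    exact inv_mul_eq_iff_eq_mul.2 e
  have hmq : (D.fQ (j % 32))⁻¹ * D.fQ (i % 32) ∈ D.qSub :=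
    mul_mem (inv_mem ⟨_, Nat.mod_lt _ (by norm_num), rfl⟩) ⟨_, Nat.mod_lt _ (by norm_num), rfl⟩
  have hma : D.fA (vI (j / 32)) * (D.fA (vI (i / 32)))⁻¹ ∈ D.aSub :=
    mul_mem ⟨_, hv _ (by omega), rfl⟩ (inv_mem ⟨_, hv _ (by omega), rfl⟩)
  obtain ⟨a, ha, ea⟩ := hmq
  obtain ⟨b, hb, eb⟩ := hma
  have hab : D.fQ a = D.fA b := by rw [← ea, h1, eb]
  have h0 := D.disj a ha b hb hab
  subst h0
  rw [D.q0] at ea
  rw [ea, eq_comm, mul_inv_eq_one] at h1
  have q := D.qinj _ (Nat.mod_lt _ (by norm_num)) _ (Nat.mod_lt _ (by norm_num)) (inv_mul_eq_one.1 ea).symm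
  have v := hvi _ (by omega) _ (by omega) (D.ainj _ (hv _ (by omega)) _ (hv _ (by omega)) h1)
  omega

theorem InvolTables.card_syl : Nat.card D.syl = 2 ^ 7 := by
  rw [InvolTables.syl, ← Nat.card_congr (Equiv.ofBijective _ (bij_tabSub (by norm_num) D.fS_zero D.smul' D.sinj)),
    Nat.card_fin]
  norm_num

theorem InvolTables.split : D.qSub ≤ Subgroup.centralizer {D.fQ 1} ∧
    (Subgroup.centralizer ({D.fQ 1} : Set G)) ≤ Subgroup.normalizer (D.qSub : Set G) ∧
    ∀ g ∈ Subgroup.centralizer ({D.fQ 1} : Set G), ∃ i < 32, ∃ a < 60, g = D.fQ i * D.fA a := by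
  set C := Subgroup.centralizer ({D.fQ 1} : Set G)
  have hQC : D.qSub ≤ C := by
    rintro g ⟨i, hi, rfl⟩
    exact Subgroup.mem_centralizer_singleton_iff.2 (D.qcent i hi)
  have hAC : D.aSub ≤ C := by
    rintro g ⟨i, hi, rfl⟩
    exact Subgroup.mem_centralizer_singleton_iff.2 (D.acent i hi)
  have hcl : ∀ a ∈ D.aSub, ∀ n ∈ D.qSub, a * n * a⁻¹ ∈ D.qSub := by
    rintro a ⟨i, hi, rfl⟩ n ⟨j, hj, rfl⟩
    exact ⟨aqT i j, D.tables.2.2 i hi j hj, by rw [D.aqmul i hi j hj, mul_inv_cancel_right]⟩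
  have hN : D.aSub ≤ Subgroup.normalizer (D.qSub : Set G) := fun a ha => Subgroup.mem_normalizer_iff.2 fun n =>
    ⟨hcl a ha n, fun h => by
      have := hcl a⁻¹ (inv_mem ha) _ h
      simpa [mul_assoc] using this⟩
  have hdis : D.qSub ⊓ D.aSub = ⊥ := by
    rw [Subgroup.eq_bot_iff_forall]
    intro g hg
    obtain ⟨i, hi, rfl⟩ := (Subgroup.mem_inf.1 hg).1
    obtain ⟨j, hj, e⟩ := (Subgroup.mem_inf.1 hg).2
    rw [D.disj i hi j hj e, D.q0]
  have cq : Nat.card D.qSub = 32 := by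
    rw [InvolTables.qSub, ← Nat.card_congr (Equiv.ofBijective _ (bij_tabSub (by norm_num) D.q0 D.tables.1 D.qinj)),
      Nat.card_fin]
  have ca : Nat.card D.aSub = 60 := by
    rw [InvolTables.aSub, ← Nat.card_congr (Equiv.ofBijective _ (bij_tabSub (by norm_num) D.a0 D.tables.2.1 D.ainj)),
      Nat.card_fin]
  obtain ⟨hn, hc⟩ := centralizer_split hQC hAC hN hdis cq ca D.bound
  refine ⟨hQC, (Subgroup.normal_subgroupOf_iff_le_normalizer hQC).1 hn, fun g hg => ?_⟩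
  obtain ⟨⟨n, a⟩, e⟩ := (hc : Subgroup.IsComplement _ _).surjective ⟨g, hg⟩
  obtain ⟨i, hi, ei⟩ := Subgroup.mem_subgroupOf.1 n.2
  obtain ⟨j, hj, ej⟩ := Subgroup.mem_subgroupOf.1 a.2
  have e' := congrArg Subtype.val e
  exact ⟨i, hi, j, hj, by rw [← ei, ← ej]; exact e'.symm⟩

theorem InvolTables.qSub_le_syl : D.qSub ≤ D.syl := by
  rintro g ⟨i, hi, rfl⟩
  exact ⟨i, by omega, (D.fS_q hi).symm⟩

theorem InvolTables.syl_le_cent : D.syl ≤ Subgroup.centralizer ({D.fQ 1} : Set G) := by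
  rintro g ⟨i, hi, rfl⟩
  exact mul_mem (Subgroup.mem_centralizer_singleton_iff.2 (D.qcent _ (Nat.mod_lt _ (by norm_num))))
    (Subgroup.mem_centralizer_singleton_iff.2 (D.acent _ (vI_facts.1 _ (by omega))))

theorem InvolTables.eq_of_central {f : G} (hf : f ∈ D.syl) (h1 : f ≠ 1) (hc : ∀ s ∈ D.syl, s * f = f * s) :
    f = D.fQ 1 := by
  obtain ⟨i, hi, rfl⟩ := hf
  have h := sylCentre_ok
  simp only [List.all_eq_true, List.mem_range, Bool.and_eq_true, Bool.or_eq_true, List.any_eq_true, Bool.not_eq_true',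
    ← Bool.not_eq_true, Nat.beq_eq] at h
  rcases (h i hi).2 with (rfl | rfl) | ⟨j, hj, hne⟩
  · exact absurd D.fS_zero h1
  · exact D.fS_q (by norm_num)
  · have e := hc _ ⟨j, hj, rfl⟩
    rw [(D.smul' j hj i hi).2, (D.smul' i hi j hj).2] at e
    exact absurd (D.sinj _ (D.smul' j hj i hi).1 _ (D.smul' i hi j hj).1 e).symm hne

theorem InvolTables.isSimple_fusion (S : Sylow 2 G) (hS : (S : Subgroup G) = D.syl) :
    (Cfsg.groupFusionSystem (S : Subgroup G)).IsSimple 2 := by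
  classical
  haveI : Fact (Nat.Prime 2) := ⟨Nat.prime_two⟩
  obtain ⟨hQC, hCN, hsplit⟩ := D.split
  have hP : IsPGroup 2 D.syl := IsPGroup.of_card (n := 7) D.card_syl
  have ht1 : D.fQ 1 ≠ 1 := fun e => absurd (D.qinj 1 (by norm_num) 0 (by norm_num) (e.trans D.q0.symm)) one_ne_zero
  have ht : orderOf (D.fQ 1) = 2 := by
    refine orderOf_eq_prime ?_ ht1
    rw [pow_two, D.qmul 1 (by norm_num) 1 (by norm_num), invSmall_ok.1, D.q0]
  refine Cfsg.Lib.J2.isSimple_two_of_centric S D.qSub ?_ ?_ (hS ▸ D.qSub_le_syl) (hS ▸ D.syl_le_cent.trans hCN) ?_ ?_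
  · intro h
    have h1 := D.card_syl
    rw [← hS, h, Subgroup.card_bot] at h1
    norm_num at h1
  · rw [hS]
    intro T hTS hne hT
    haveI : (T.subgroupOf D.syl).Normal := ⟨fun n hn g => by
      show ((g * n * g⁻¹ : D.syl) : G) ∈ T
      exact hT _ hn (g : G) (g * n * g⁻¹ : D.syl).2⟩
    have hne' : T.subgroupOf D.syl ≠ ⊥ := fun h => hne (eq_bot_iff.mpr fun x hx => by
      have h1 : (⟨x, hTS hx⟩ : D.syl) ∈ T.subgroupOf D.syl := hx
      rw [h, Subgroup.mem_bot] at h1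
      exact Subgroup.mem_bot.mpr (congrArg Subtype.val h1))
    obtain ⟨z, hzT, hzc, hzo⟩ := Cfsg.Lib.PGroup.exists_mem_center_orderOf_eq hP hne'
    have hz : (z : G) = D.fQ 1 := D.eq_of_central z.2 (fun h => by
        rw [show z = 1 from Subtype.ext h, orderOf_one] at hzo
        exact absurd hzo (by norm_num))
      (fun s hs => congrArg Subtype.val (Subgroup.mem_center_iff.mp hzc ⟨s, hs⟩))
    have hzT' : D.fQ 1 ∈ T := hz ▸ hzT
    have hinv : ∀ j ∈ sylInv, D.fS j ∈ T := by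
      intro j hj
      simp only [sylInv, List.mem_filter, List.mem_range, Nat.beq_eq] at hj
      rcases eq_or_ne (D.fS j) 1 with e | hne
      · rw [e]; exact one_mem T
      have ho : orderOf (D.fS j) = 2 := orderOf_eq_prime (by
        rw [pow_two, (D.smul' j hj.1 j hj.1).2, hj.2, D.fS_zero]) hne
      obtain ⟨g, hg⟩ := isConj_iff.1 (D.conj _ ho)
      rw [← hg]
      exact hT _ hzT' g (hg ▸ ⟨j, hj.1, rfl⟩)
    rintro s ⟨i, hi, rfl⟩
    have h := sylGen_ok
    simp only [List.all_eq_true, List.mem_range, List.any_eq_true, Nat.beq_eq] at h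
    obtain ⟨j, hj, k, hk, rfl⟩ := h i hi
    have hj' : j < 128 := List.mem_range.1 (List.mem_filter.1 hj).1
    have hk' : k < 128 := List.mem_range.1 (List.mem_filter.1 hk).1
    rw [← (D.smul' j hj' k hk').2]
    exact mul_mem (hinv j hj) (hinv k hk)
  · intro g hg
    have hgC : g ∈ Subgroup.centralizer ({D.fQ 1} : Set G) := Subgroup.mem_centralizer_singleton_iff.2
      (Subgroup.mem_centralizer_iff.1 hg _ ⟨1, by norm_num, rfl⟩).symm
    obtain ⟨q, hq, a, ha, rfl⟩ := hsplit g hgC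
    rcases eq_or_ne a 0 with rfl | ha0
    · rw [D.a0, mul_one]; exact ⟨q, hq, rfl⟩
    exfalso
    have h := sylOuter_ok
    simp only [List.all_eq_true, List.mem_range, Bool.or_eq_true, List.any_eq_true, Bool.not_eq_true',
      ← Bool.not_eq_true, Nat.beq_eq] at h
    obtain ⟨i, hi, hne⟩ := (h a ha).resolve_left ha0 q hq
    have e := Subgroup.mem_centralizer_iff.1 hg (D.fQ i) ⟨i, hi, rfl⟩
    rw [← mul_assoc, mul_assoc (D.fQ q) (D.fA a) (D.fQ i), D.aqmul a ha i hi, ← mul_assoc, mul_right_cancel_iff,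
      D.qmul i hi q hq, D.qmul q hq _ (D.tables.2.2 a ha i hi)] at e
    exact hne (D.qinj _ (D.tables.1 q hq _ (D.tables.2.2 a ha i hi)).1 _ (D.tables.1 i hi q hq).1 e.symm)
  · intro g hg
    rw [hS] at hg
    have hgt : g * D.fQ 1 * g⁻¹ = D.fQ 1 := by
      refine D.eq_of_central (hg _ ⟨1, by norm_num, (D.fS_q (by norm_num)).symm⟩)
        (fun h => ht1 (conj_eq_one_iff.mp h)) fun s hs => ?_
      let ψ : D.syl → D.syl := fun t => ⟨g * t * g⁻¹, hg _ t.2⟩
      have hψ : Function.Injective ψ := fun a b e => Subtype.ext (by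
        simpa [ψ] using congrArg Subtype.val e)
      obtain ⟨u, hu⟩ := (Finite.injective_iff_surjective.mp hψ) ⟨s, hs⟩
      have hts : g * (u : G) * g⁻¹ = s := congrArg Subtype.val hu
      have hcomm : (u : G) * D.fQ 1 = D.fQ 1 * u := Subgroup.mem_centralizer_singleton_iff.1 (D.syl_le_cent u.2)
      rw [← hts]
      calc g * (u : G) * g⁻¹ * (g * D.fQ 1 * g⁻¹) = g * ((u : G) * D.fQ 1) * g⁻¹ := by group
        _ = g * (D.fQ 1 * u) * g⁻¹ := by rw [hcomm]
        _ = g * D.fQ 1 * g⁻¹ * (g * u * g⁻¹) := by group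
    have hgC : g ∈ Subgroup.centralizer ({D.fQ 1} : Set G) :=
      Subgroup.mem_centralizer_singleton_iff.2 (mul_inv_eq_iff_eq_mul.1 hgt)
    obtain ⟨q, hq, a, ha, rfl⟩ := hsplit g hgC
    set K := Subgroup.closure {x : G | (∃ k : ℕ, x ^ 2 ^ k = 1) ∧ x ∈ Subgroup.normalizer (D.qSub : Set G)}
    refine mul_mem ?_ ?_
    · obtain ⟨k, hk⟩ := hP ⟨D.fQ q, D.qSub_le_syl ⟨q, hq, rfl⟩⟩
      exact Subgroup.subset_closure ⟨⟨k, by simpa using congrArg Subtype.val hk⟩,
        hCN (Subgroup.mem_centralizer_singleton_iff.2 (D.qcent q hq))⟩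
    · have h := invAGen_ok
      simp only [List.all_eq_true, List.mem_range, Bool.and_eq_true, List.any_eq_true, Nat.beq_eq] at h
      obtain ⟨i, hi, hii, j, hj, hjj, rfl⟩ := h a ha
      have hmem : ∀ x < 60, aT x x = 0 → D.fA x ∈ K := fun x hx e =>
        Subgroup.subset_closure ⟨⟨1, by rw [pow_one, pow_two, D.amul x hx x hx, e, D.a0]⟩,
          hCN (Subgroup.mem_centralizer_singleton_iff.2 (D.acent x hx))⟩
      rw [← D.amul i hi j hj]
      exact mul_mem (hmem i hi hii) (hmem j hj hjj)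

theorem isSimple_fusion_J3 {G : Type*} [Group G] [Finite G] (hG : Spor.IsoJ3 G) (S : Sylow 2 G) :
    (Cfsg.groupFusionSystem (S : Subgroup G)).IsSimple 2 := by
  classical
  haveI : Fact (Nat.Prime 2) := ⟨Nat.prime_two⟩
  obtain ⟨F, hf, hfin, ω, hF, hω, ⟨e⟩⟩ := hG
  have H := Hyp.of_card (F := F) hF hω
  let D := (involTables hF H).map e.symm
  have hfac : (Nat.card G).factorization 2 = 7 := by
    rw [Nat.card_congr e.toEquiv, card_J3 hF H, show (50232960 : ℕ) = 2 ^ 7 * 392445 by norm_num,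
      Nat.factorization_mul (by norm_num) (by norm_num), Finsupp.add_apply,
      Nat.Prime.factorization_pow Nat.prime_two, Finsupp.single_eq_same,
      Nat.factorization_eq_zero_of_not_dvd (by norm_num)]
  let P₀ : Sylow 2 G := Sylow.ofCard D.syl (by rw [D.card_syl, hfac])
  obtain ⟨g, hg⟩ := MulAction.exists_smul_eq G P₀ S
  refine (D.map (MulAut.conj g)).isSimple_fusion S ?_
  rw [← hg, Sylow.coe_subgroup_smul, Sylow.coe_ofCard, Subgroup.pointwise_smul_def]
  ext x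
  constructor
  · rintro ⟨y, ⟨i, hi, rfl⟩, rfl⟩
    exact ⟨i, hi, map_mul (MulAut.conj g) _ _⟩
  · rintro ⟨i, hi, rfl⟩
    exact ⟨D.fS i, ⟨i, hi, rfl⟩, map_mul (MulAut.conj g) _ _⟩

end Cfsg.Lib.JThree
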