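import Cfsg.Agent.Lib.JThree.Fam
import Cfsg.Agent.Lib.JThree.Edges
import Cfsg.Agent.Lib.JThree.CheckSub
import Cfsg.Agent.Lib.JThree.CheckFam

/-!
# The normal form of the elements of the triple cover of the third Janko group
-/

set_option autoImplicit false
set_option maxRecDepth 100000

namespace Cfsg.Lib.JThree

open Cfsg.Spor Cfsg.Lib.Concrete Cfsg.Lib.PermAut

/-- The field hypotheses. -/
structure Hyp (F : Type) [Field F] (ω : F) : Prop where
  two : (2 : F) = 0
  omega : ω ^ 2 + ω + 1 = 0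

theorem Hyp.of_card {F : Type} [Field F] [Fintype F] {ω : F} (hF : Fintype.card F = 4) (hω : ω ^ 2 + ω + 1 = 0) :
    Hyp F ω := ⟨two_eq_zero hF, hω⟩

variable {F : Type} [Field F] {ω : F}

/-- The code is the matrix of an element of the subgroup. -/
def Has (ω : F) (K : Subgroup (GL F9 F)) (M : ℕ) : Prop := ∃ g ∈ K, (g : Matrix F9 F9 F) = toM ω M

theorem Has.mul (H : Hyp F ω) {K : Subgroup (GL F9 F)} {A B : ℕ} (hA : Has ω K A) (hB : Has ω K B) :
    Has ω K (mmul A B) := by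
  obtain ⟨g, hg, eg⟩ := hA
  obtain ⟨h, hh, eh⟩ := hB
  exact ⟨g * h, mul_mem hg hh, by rw [Units.val_mul, eg, eh, toM_mmul H.two H.omega]⟩

theorem toM_one : toM ω oneM = 1 := by
  have h : ∀ i j : F9, ((loP oneM).testBit (9 * iz i + iz j), (hiP oneM).testBit (9 * iz i + iz j)) =
      (decide (i = j), false) := by decide +kernel
  ext i j
  have := h i j
  simp only [Prod.mk.injEq] at this
  simp only [toM, Matrix.of_apply, this.1, this.2, Matrix.one_apply]
  by_cases e : i = j <;> simp [e, valF, bitF]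

theorem Has.one {K : Subgroup (GL F9 F)} : Has ω K oneM := ⟨1, one_mem _, by rw [toM_one]; rfl⟩

theorem Has.word (H : Hyp F ω) {K : Subgroup (GL F9 F)} {f : ℕ → ℕ} :
    ∀ {w : List ℕ}, (∀ i ∈ w, Has ω K (f i)) → Has ω K (wordC f w)
  | [], _ => Has.one
  | i :: w, h => by
    show Has ω K (mmul (f i) (wordC f w))
    exact (h i (List.mem_cons_self ..)).mul H (Has.word H fun j hj => h j (List.mem_cons_of_mem _ hj))

theorem Has.mono {K K' : Subgroup (GL F9 F)} {M : ℕ} (h : K ≤ K') : Has ω K M → Has ω K' M :=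
  fun ⟨g, hg, e⟩ => ⟨g, h hg, e⟩

theorem fam_unit (H : Hyp F ω) (f : Fin 5) (Z : F9) (hZ : 3 ≤ (f : ℕ) → Z ≠ 0) :
    Has ω (threeJ3 F ω) (tget 162 famCodes (famN f Z)) := by
  have h := fam_ok
  simp only [List.all_eq_true, List.mem_range, force_eq, Bool.and_eq_true, Nat.beq_eq] at h
  obtain ⟨⟨⟨-, -⟩, e1⟩, e2⟩ := h _ (famN_lt f.2 Z)
  let g : GL F9 F :=
    ⟨toM ω (tget 162 famCodes (famN f Z)), toM ω (tget 162 famInv (famN f Z)),
      by rw [← toM_mmul H.two H.omega, e1, toM_one], by rw [← toM_mmul H.two H.omega, e2, toM_one]⟩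
  exact ⟨g, Subgroup.subset_closure (fam_mem_gens H.omega H.two f Z hZ), rfl⟩

theorem fam_code (H : Hyp F ω) {k : ℕ} (hk : k < 45) : Has ω (threeJ3 F ω) (tget 162 famCodes k) := by
  have hs : ∀ k : Fin 45, (∃ f : Fin 5, ∃ Z : F9, (3 ≤ (f : ℕ) → Z ≠ 0) ∧ famN f Z = k) ∨
      tget 162 famCodes k = oneM := by decide +kernel
  rcases hs ⟨k, hk⟩ with ⟨f, Z, hZ, e⟩ | e
  · rw [← show famN f Z = k from e]; exact fam_unit H f Z hZ
  · rw [show tget 162 famCodes k = oneM from e]; exact Has.one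

theorem gens_mem (H : Hyp F ω) : ∀ i < 2, Has ω (threeJ3 F ω) (gC i) := by
  obtain ⟨h1, h2, h3⟩ := words_ok
  simp only [List.all_eq_true, List.mem_append, Nat.blt, Nat.ble_eq] at h1
  intro i hi
  interval_cases i
  · exact (show gC 0 = genA from rfl) ▸ h2 ▸ Has.word H fun k hk => fam_code H (h1 k (Or.inl hk))
  · exact (show gC 1 = genB from rfl) ▸ h3 ▸ Has.word H fun k hk => fam_code H (h1 k (Or.inr hk))

variable (H : Hyp F ω)

/-- A generator as an element. -/
noncomputable def gEl (i : ℕ) : GL F9 F := if h : i < 2 then (gens_mem H i h).choose else 1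

theorem gEl_val {i : ℕ} (hi : i < 2) : ((gEl H i : GL F9 F) : Matrix F9 F9 F) = toM ω (gC i) := by
  rw [gEl, dif_pos hi]; exact (gens_mem H i hi).choose_spec.2

/-- The group generated by two of the elements. -/
noncomputable def Γ0 : Subgroup (GL F9 F) := Subgroup.closure {gEl H 0, gEl H 1}

theorem Γ0_le : Γ0 H ≤ threeJ3 F ω := by
  refine (Subgroup.closure_le _).2 ?_
  have h : ∀ i < 2, gEl H i ∈ threeJ3 F ω := fun i hi => by
    rw [gEl, dif_pos hi]; exact (gens_mem H i hi).choose_spec.1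
  rintro g (rfl | rfl) <;> exact h _ (by norm_num)

theorem g_has {i : ℕ} (hi : i < 2) : Has ω (Γ0 H) (gC i) :=
  ⟨gEl H i, Subgroup.subset_closure (by interval_cases i <;> simp), gEl_val H hi⟩

theorem rep_has : ∀ y < 6156, Has ω (Γ0 H) (repC y) := by
  have ht := tree_ok
  simp only [treeB, allBelowB_iff, Bool.or_eq_true, Bool.and_eq_true, Nat.beq_eq, Nat.blt, Nat.ble_eq] at ht
  intro y
  induction y using Nat.strong_induction_on with
  | _ y ih =>
    intro hy
    rcases ht y hy with rfl | ⟨hlt, htab⟩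
    · rw [base_ok.1]; exact Has.one
    rcases Nat.eq_zero_or_pos y with rfl | hpos
    · rw [base_ok.1]; exact Has.one
    have he := edge_ok (i := cPar y % 2) (x := cPar y / 2) (Nat.mod_lt _ (by norm_num)) (by omega)
    simp only [edgeB, force_eq, Bool.and_eq_true, htab] at he
    have hz : Nat.beq y 0 = false := by rw [← Bool.not_eq_true, Nat.beq_eq]; omega
    have hp : Nat.beq (cPar y) (Nat.add (Nat.mul 2 (cPar y / 2)) (cPar y % 2)) = true :=
      Nat.beq_eq ▸ (Nat.div_add_mod (cPar y) 2).symm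
    simp only [hz, hp, Bool.not_false, Bool.true_and, cond_true, Nat.beq_eq] at he
    rw [he.2]
    exact (g_has H (Nat.mod_lt _ (by norm_num))).mul H (ih _ hlt (by omega))

theorem hC_has {k : ℕ} (hk : k < 2) : Has ω (Γ0 H) (hC k) := by
  have h := hsrc_ok
  simp only [List.all_eq_true, List.mem_range, force_eq, Bool.and_eq_true, Nat.blt, Nat.ble_eq, Nat.beq_eq] at h
  obtain ⟨⟨⟨hi, hx⟩, hy⟩, e⟩ := h k hk
  obtain ⟨r, hr, er⟩ := rep_has H _ hy
  obtain ⟨g, hg, eg⟩ := (g_has H hi).mul H (rep_has H _ hx)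
  refine ⟨r⁻¹ * g, mul_mem (inv_mem hr) hg, ?_⟩
  rw [Units.val_mul, eg, ← e, toM_mmul H.two H.omega, ← er, ← mul_assoc, ← Units.val_mul, inv_mul_cancel,
    Units.val_one, one_mul]

/-- A generator of the subgroup as an element. -/
noncomputable def hEl (k : ℕ) : GL F9 F := if h : k < 2 then (hC_has H h).choose else 1

theorem hEl_val {k : ℕ} (hk : k < 2) : ((hEl H k : GL F9 F) : Matrix F9 F9 F) = toM ω (hC k) := by
  rw [hEl, dif_pos hk]; exact (hC_has H hk).choose_spec.2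

/-- The subgroup of index 6156. -/
noncomputable def Hs : Subgroup (GL F9 F) := Subgroup.closure {hEl H 0, hEl H 1}

theorem Hs_le : Hs H ≤ Γ0 H := by
  refine (Subgroup.closure_le _).2 ?_
  have h : ∀ i < 2, hEl H i ∈ Γ0 H := fun i hi => by
    rw [hEl, dif_pos hi]; exact (hC_has H hi).choose_spec.1
  rintro g (rfl | rfl) <;> exact h _ (by norm_num)

theorem h_has {k : ℕ} (hk : k < 2) : Has ω (Hs H) (hC k) :=
  ⟨hEl H k, Subgroup.subset_closure (by interval_cases k <;> simp), hEl_val H hk⟩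

theorem k_has {k : ℕ} (hk : k < 2) : Has ω (Hs H) (kC k) := by
  have h := skw_ok
  simp only [List.all_eq_true, List.mem_range, Bool.and_eq_true, Nat.blt, Nat.ble_eq, Nat.beq_eq] at h
  obtain ⟨hl, e⟩ := h k hk
  rw [← e]
  exact Has.word H fun i hi => h_has H (hl i hi)

/-- A generator of the point stabiliser as an element. -/
noncomputable def kEl (k : ℕ) : GL F9 F := if h : k < 2 then (k_has H h).choose else 1

theorem kEl_val {k : ℕ} (hk : k < 2) : ((kEl H k : GL F9 F) : Matrix F9 F9 F) = toM ω (kC k) := by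
  rw [kEl, dif_pos hk]; exact (k_has H hk).choose_spec.2

/-- The point stabiliser in the subgroup. -/
noncomputable def Ks : Subgroup (GL F9 F) := Subgroup.closure {kEl H 0, kEl H 1}

theorem Ks_le : Ks H ≤ Hs H := by
  refine (Subgroup.closure_le _).2 ?_
  have h : ∀ i < 2, kEl H i ∈ Hs H := fun i hi => by
    rw [kEl, dif_pos hi]; exact (k_has H hi).choose_spec.1
  rintro g (rfl | rfl) <;> exact h _ (by norm_num)

theorem s_has : ∀ c < 288, Has ω (Ks H) (sC c) := by
  have ht := sTree_ok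
  simp only [List.all_eq_true, List.mem_range, Bool.or_eq_true, Bool.and_eq_true, Nat.beq_eq, Nat.blt, Nat.ble_eq] at ht
  intro c
  induction c using Nat.strong_induction_on with
  | _ c ih =>
    intro hc
    rcases ht c hc with rfl | ⟨⟨hi, hlt⟩, e⟩
    · rw [base_ok.2.2.1]; exact Has.one
    rw [e]
    have hk : Has ω (Ks H) (kC (sPar.getD c (0, 0)).1) :=
      ⟨kEl H _, Subgroup.subset_closure (by rcases Nat.lt_succ_iff_lt_or_eq.1 hi with h | h <;>
        [(simp only [Nat.lt_one_iff.1 h]; simp); (simp only [h]; simp)]), kEl_val H hi⟩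
    exact hk.mul H (ih _ hlt (by omega))

theorem t_has : ∀ a < 85, Has ω (Hs H) (tC a) := by
  have ht := tTree_ok
  simp only [List.all_eq_true, List.mem_range, Bool.or_eq_true, Bool.and_eq_true, Nat.beq_eq, Nat.blt, Nat.ble_eq] at ht
  intro a
  induction a using Nat.strong_induction_on with
  | _ a ih =>
    intro ha
    rcases ht a ha with rfl | ⟨⟨hi, hlt⟩, e⟩
    · rw [base_ok.2.1]; exact Has.one
    rw [e]
    exact (h_has H hi).mul H (ih _ hlt (by omega))

theorem Ks_cover {g : GL F9 F} (hg : g ∈ Ks H) [Finite (GL F9 F)] :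
    ∃ c < 288, (g : Matrix F9 F9 F) = toM ω (sC c) := by
  have hg' : g ∈ Submonoid.closure {kEl H 0, kEl H 1} := by
    rw [← Subgroup.closure_toSubmonoid_of_finite]; exact hg
  refine Submonoid.closure_induction_left ⟨0, by norm_num, by rw [base_ok.2.2.1, toM_one]; rfl⟩ ?_ hg'
  rintro s hs y - ⟨c, hc, e⟩
  have h := sMul_ok
  simp only [Bool.and_eq_true] at h
  obtain ⟨i, hi, rfl, tl, htl⟩ : ∃ i < 2, s = kEl H i ∧ ∃ tl, all2 (fun x y => Nat.blt y 288 &&
      Nat.beq (mmul (kC i) (sC x)) (sC y)) (List.range 288) tl = true := by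
    rcases hs with rfl | rfl
    exacts [⟨0, by norm_num, rfl, _, h.1⟩, ⟨1, by norm_num, rfl, _, h.2⟩]
  obtain ⟨d, hd⟩ := all2_forall htl c (List.mem_range.2 hc)
  simp only [Bool.and_eq_true, Nat.blt, Nat.ble_eq, Nat.beq_eq] at hd
  exact ⟨d, hd.1, by rw [Units.val_mul, kEl_val H hi, e, ← toM_mmul H.two H.omega, hd.2]⟩

theorem Hs_cover {g : GL F9 F} (hg : g ∈ Hs H) [Finite (GL F9 F)] :
    ∃ a < 85, ∃ c < 288, (g : Matrix F9 F9 F) = toM ω (mmul (tC a) (sC c)) := by
  have hg' : g ∈ Submonoid.closure {hEl H 0, hEl H 1} := by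
    rw [← Subgroup.closure_toSubmonoid_of_finite]; exact hg
  refine Submonoid.closure_induction_left ⟨0, by norm_num, 0, by norm_num, by
    rw [toM_mmul H.two H.omega, base_ok.2.1, base_ok.2.2.1, toM_one, one_mul]; rfl⟩ ?_ hg'
  rintro s hs y - ⟨a, ha, c, hc, e⟩
  have h := tMul_ok
  simp only [Bool.and_eq_true] at h
  obtain ⟨i, hi, rfl, tl, htl⟩ : ∃ i < 2, s = hEl H i ∧ ∃ tl, all2 (fun x (y : ℕ × ℕ) => Nat.blt y.1 85 && Nat.blt y.2 288 &&
      Nat.beq (mmul (hC i) (tC x)) (mmul (tC y.1) (sC y.2))) (List.range 85) tl = true := by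
    rcases hs with rfl | rfl
    exacts [⟨0, by norm_num, rfl, _, h.1⟩, ⟨1, by norm_num, rfl, _, h.2⟩]
  obtain ⟨d, hd⟩ := all2_forall htl a (List.mem_range.2 ha)
  simp only [Bool.and_eq_true, Nat.blt, Nat.ble_eq, Nat.beq_eq] at hd
  obtain ⟨g1, hg1, e1⟩ := s_has H _ hd.1.2
  obtain ⟨g2, hg2, e2⟩ := s_has H c hc
  obtain ⟨c', hc', e'⟩ := Ks_cover H (mul_mem hg1 hg2)
  refine ⟨d.1, hd.1.1, c', hc', ?_⟩
  rw [Units.val_mul, e1, e2] at e'
  rw [Units.val_mul, hEl_val H hi, e, toM_mmul H.two H.omega, ← mul_assoc, ← toM_mmul H.two H.omega, hd.2,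
    toM_mmul H.two H.omega, mul_assoc, e', ← toM_mmul H.two H.omega]

theorem genA_sq : gEl H 0 * gEl H 0 = 1 := Units.ext (by
  rw [Units.val_mul, gEl_val H (by norm_num), ← toM_mmul H.two H.omega, show gC 0 = genA from rfl, base_ok.2.2.2,
    toM_one]; rfl)

theorem step {i x : ℕ} (hi : i < 2) (hx : x < 6156) {r : GL F9 F} (hr : (r : Matrix F9 F9 F) = toM ω (repC x)) :
    ∃ r' h : GL F9 F, cTab i x < 6156 ∧ (r' : Matrix F9 F9 F) = toM ω (repC (cTab i x)) ∧ h ∈ Hs H ∧
      gEl H i * r = r' * h := by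
  have direct : ∀ x < 6156, ¬ (i = 0 ∧ cTab i x < x) → ∀ r : GL F9 F, (r : Matrix F9 F9 F) = toM ω (repC x) →
      ∃ r' h : GL F9 F, cTab i x < 6156 ∧ (r' : Matrix F9 F9 F) = toM ω (repC (cTab i x)) ∧ h ∈ Hs H ∧
        gEl H i * r = r' * h := by
    intro x hx hrev r hr
    have he := edge_ok hi hx
    simp only [edgeB, force_eq, Bool.and_eq_true, Nat.blt, Nat.ble_eq] at he
    obtain ⟨hy, he⟩ := he
    obtain ⟨r', -, er'⟩ := rep_has H _ hy
    refine ⟨r', r'⁻¹ * (gEl H i * r), hy, er', ?_, (mul_inv_cancel_left ..).symm⟩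
    cases hb : (!Nat.beq (cTab i x) 0 && Nat.beq (cPar (cTab i x)) (Nat.add (Nat.mul 2 x) i))
    · rw [hb, cond_false] at he
      have hn' : (Nat.beq i 0 && Nat.ble (cTab i x + 1) x) = false := by
        rw [← Bool.not_eq_true, Bool.and_eq_true, Nat.beq_eq, Nat.ble_eq]; omega
      rw [show (Nat.beq i 0 && (cTab i x).succ.ble x) = false from hn', cond_false] at he
      simp only [Bool.and_eq_true, Nat.beq_eq, Nat.blt, Nat.ble_eq] at he
      obtain ⟨g1, hg1, e1⟩ := t_has H (cWit i x / 288) (Nat.div_lt_of_lt_mul (by omega))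
      obtain ⟨g2, hg2, e2⟩ := s_has H (cWit i x % 288) (Nat.mod_lt _ (by norm_num))
      have : gEl H i * r = r' * (g1 * g2) := Units.ext (by
        rw [Units.val_mul, Units.val_mul, Units.val_mul, gEl_val H hi, hr, er', e1, e2, ← toM_mmul H.two H.omega,
          he.2, triC, toM_mmul H.two H.omega, toM_mmul H.two H.omega])
      rw [this, inv_mul_cancel_left]
      exact mul_mem hg1 (Ks_le H hg2)
    · rw [hb, cond_true, Nat.beq_eq] at he
      have : gEl H i * r = r' := Units.ext (by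
        rw [Units.val_mul, gEl_val H hi, hr, er', he, toM_mmul H.two H.omega])
      rw [this, inv_mul_cancel]
      exact one_mem _
  by_cases hrev : i = 0 ∧ cTab i x < x
  · obtain ⟨rfl, hlt⟩ := hrev
    have he := edge_ok hi hx
    simp only [edgeB, force_eq, Bool.and_eq_true, Nat.blt, Nat.ble_eq] at he
    obtain ⟨hy, he⟩ := he
    obtain ⟨r2, -, er2⟩ := rep_has H _ hy
    cases hb : (!Nat.beq (cTab 0 x) 0 && Nat.beq (cPar (cTab 0 x)) (Nat.add (Nat.mul 2 x) 0))
    · rw [hb, cond_false, show (Nat.beq 0 0 && Nat.ble (cTab 0 x + 1) x) = true by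
        rw [Bool.and_eq_true, Nat.ble_eq]; exact ⟨rfl, hlt⟩, cond_true, Nat.beq_eq] at he
      obtain ⟨r', h, -, er', hh, e⟩ := direct _ hy (fun h => by rw [he] at h; omega) r2 er2
      rw [he] at er'
      have hrr : r' = r := Units.ext (er'.trans hr.symm)
      refine ⟨r2, h⁻¹, hy, er2, inv_mem hh, ?_⟩
      rw [eq_mul_inv_iff_mul_eq, mul_assoc, ← hrr, ← e, ← mul_assoc, genA_sq, one_mul]
    · exfalso
      simp only [Bool.and_eq_true, Bool.not_eq_true', Nat.beq_eq] at hb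
      have ht := tree_ok
      simp only [treeB, allBelowB_iff, Bool.or_eq_true, Bool.and_eq_true, Nat.beq_eq, Nat.blt, Nat.ble_eq] at ht
      have hne : ¬ cTab 0 x = 0 := fun e => by simp [e] at hb
      obtain ⟨h1, -⟩ := (ht _ hy).resolve_left hne
      have h2 : cPar (cTab 0 x) / 2 = x := by rw [hb.2]; simp only [Nat.add_eq, Nat.mul_eq]; omega
      omega
  · exact direct x hx hrev r hr

/-- The element of a normal form. -/
theorem normal_form [Finite (GL F9 F)] {g : GL F9 F} (hg : g ∈ Γ0 H) :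
    ∃ y < 6156, ∃ r h : GL F9 F, (r : Matrix F9 F9 F) = toM ω (repC y) ∧ h ∈ Hs H ∧ g = r * h := by
  have hg' : g ∈ Submonoid.closure {gEl H 0, gEl H 1} := by
    rw [← Subgroup.closure_toSubmonoid_of_finite]; exact hg
  refine Submonoid.closure_induction_left ⟨0, by norm_num, 1, 1, by rw [base_ok.1, toM_one]; rfl, one_mem _,
    (one_mul _).symm⟩ ?_ hg'
  rintro s hs y - ⟨x, hx, r, h, hr, hh, rfl⟩
  obtain ⟨i, hi, rfl⟩ : ∃ i < 2, s = gEl H i := by
    rcases hs with rfl | rfl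
    exacts [⟨0, by norm_num, rfl⟩, ⟨1, by norm_num, rfl⟩]
  obtain ⟨r', h', hy, er', hh', e⟩ := step H hi hx hr
  exact ⟨_, hy, r', h' * h, er', mul_mem hh' hh, by rw [← mul_assoc, e, mul_assoc]⟩

theorem tri_mem {y a c : ℕ} (hy : y < 6156) (ha : a < 85) (hc : c < 288) : Has ω (Γ0 H) (triC y a c) :=
  (rep_has H y hy).mul H (((t_has H a ha).mono (Hs_le H)).mul H ((s_has H c hc).mono ((Ks_le H).trans (Hs_le H))))

theorem Γ0_eq : Γ0 H = threeJ3 F ω := by
  refine le_antisymm (Γ0_le H) ((Subgroup.closure_le _).2 fun g hg => ?_)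
  obtain ⟨f, Z, -, e⟩ := exists_fam H.omega H.two hg
  have h := fam_ok
  simp only [List.all_eq_true, List.mem_range, force_eq, Bool.and_eq_true, Nat.beq_eq, Nat.blt, Nat.ble_eq] at h
  obtain ⟨⟨⟨⟨⟨hy, ha⟩, hc⟩, ee⟩, -⟩, -⟩ := h _ (famN_lt f.2 Z)
  obtain ⟨g', hg', eg'⟩ := tri_mem H hy ha hc
  rw [← ee, ← e] at eg'
  exact (Units.ext eg' : g' = g) ▸ hg'

include H in
theorem card_le [Finite (GL F9 F)] : Nat.card (threeJ3 F ω) ≤ 150698880 := by
  classical
  rw [← Γ0_eq H]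
  let f : Fin 6156 × Fin 85 × Fin 288 → Γ0 H := fun t =>
    ⟨(tri_mem H t.1.2 t.2.1.2 t.2.2.2).choose, (tri_mem H t.1.2 t.2.1.2 t.2.2.2).choose_spec.1⟩
  have hf : Function.Surjective f := by
    rintro ⟨g, hg⟩
    obtain ⟨y, hy, r, h, er, hh, rfl⟩ := normal_form H hg
    obtain ⟨a, ha, c, hc, eh⟩ := Hs_cover H hh
    refine ⟨(⟨y, hy⟩, ⟨a, ha⟩, ⟨c, hc⟩), Subtype.ext (Units.ext ?_)⟩
    show (((tri_mem H hy ha hc).choose : GL F9 F) : Matrix F9 F9 F) = _
    rw [(tri_mem H hy ha hc).choose_spec.2, triC, toM_mmul H.two H.omega, Units.val_mul, er, eh]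
  have := Nat.card_le_card_of_surjective f hf
  simpa [Nat.card_prod] using this

end Cfsg.Lib.JThree
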