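import Cfsg.Agent.Lib.JThree.SubDefs
import Cfsg.Agent.Lib.JThree.InvolData

/-!
# Checks on the involutions of the third Janko group
-/

set_option autoImplicit false
set_option maxRecDepth 100000

namespace Cfsg.Lib.JThree

open Cfsg.Lib.Concrete Cfsg.Lib.PermAut

/-- An element of the normal subgroup. -/
def qC (i : ℕ) : ℕ := tget 162 invQ i

/-- An element of the complement. -/
def aC (i : ℕ) : ℕ := tget 162 invA i

/-- A product in the normal subgroup. -/
def qT (i j : ℕ) : ℕ := tget 5 invQT (32 * i + j)

/-- A product in the complement. -/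
def aT (i j : ℕ) : ℕ := tget 6 invAT (60 * i + j)

/-- A conjugate in the normal subgroup. -/
def aqT (a q : ℕ) : ℕ := tget 5 invAQ (32 * a + q)

/-- The action of the complement on five points. -/
def paT (a v : ℕ) : ℕ := tget 3 invPA (5 * a + v)

/-- The code of an element of a normal form conjugates one code to the other. -/
noncomputable def conjB (w : ℕ × ℕ × ℕ) (A B : ℕ) : Bool :=
  force w.1 fun y => force w.2.1 fun a => force w.2.2 fun c => Nat.blt y 6156 && Nat.blt a 85 && Nat.blt c 288 &&
    force (triC y a c) fun g => Nat.beq (mmul g A) (mmul B g)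

theorem invQ_ok : (Nat.beq (qC 0) oneM && allBelowB 32 fun i =>
    witB (qC i) (invQW.getD i (0, 0, 0)) && Nat.beq (mmul (qC i) (qC 1)) (mmul (qC 1) (qC i)) &&
    allBelowB 32 fun j => Nat.beq (mmul (qC i) (qC j)) (qC (qT i j))) = true := by decide +kernel

theorem invA_ok : (Nat.beq (aC 0) oneM && allBelowB 60 fun i =>
    witB (aC i) (invAW.getD i (0, 0, 0)) && Nat.beq (mmul (aC i) (qC 1)) (mmul (qC 1) (aC i)) &&
    allBelowB 60 fun j => Nat.beq (mmul (aC i) (aC j)) (aC (aT i j))) = true := by decide +kernel

theorem invT_ok : ((allBelowB 32 fun i => allBelowB 32 fun j => Nat.blt (qT i j) 32) &&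
    (allBelowB 60 fun i => allBelowB 60 fun j => Nat.blt (aT i j) 60) &&
    allBelowB 60 fun a => allBelowB 32 fun q => Nat.blt (aqT a q) 32 &&
      Nat.beq (mmul (aC a) (qC q)) (mmul (qC (aqT a q)) (aC a))) = true := by decide +kernel

/-- The elements of both lists. -/
noncomputable def qaC (n : ℕ) : ℕ := bif Nat.blt n 32 then qC n else aC (Nat.sub n 31)

/-- Their multiples by the scalars. -/
noncomputable def qaS (n : ℕ) : ℕ := mmul (powC scal (n / 91)) (qaC (n % 91))

theorem invSep_ok : (nodupB ((List.range 273).map qaS) &&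
    (List.range 273).all fun n => Nat.blt (qaS n) (2 ^ 162)) = true := by
  decide +kernel

theorem invConj_ok : (conjB invConjA genA (qC 1) && conjB invConjSt invSt (qC 1) && allBelowB 128 fun i =>
    Nat.beq i 0 || !Nat.beq (mmul (tget 162 pTwoEls i) (tget 162 pTwoEls i)) oneM ||
      conjB (invConjP.getD i (0, 0, 0)) (tget 162 pTwoEls i) (qC 1)) = true := by decide +kernel

theorem sq_lt : ∀ i < 128, mmul (tget 162 pTwoEls i) (tget 162 pTwoEls i) < 2 ^ 162 := by
  have h : ((List.range 128).all fun i => Nat.blt (mmul (tget 162 pTwoEls i) (tget 162 pTwoEls i)) (2 ^ 162)) = true := by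
    decide +kernel
  simp only [List.all_eq_true, List.mem_range, Nat.blt, Nat.ble_eq] at h
  exact h

theorem invFix_ok : ((List.range 6156).filter fun x => Nat.beq (cTab 0 x) x).length = 76 := by decide +kernel

/-- A conjugate of the involution in the subgroup. -/
def oC (i : ℕ) : ℕ := tget 162 invOrb i

theorem invOrb_ok : (Nat.blt invStW.1 85 && Nat.blt invStW.2 288 &&
    Nat.beq invSt (mmul (tC invStW.1) (sC invStW.2)) && nodupB ((List.range 255).map oC) && allBelowB 255 fun i =>
      force (invOrbW.getD i (0, 0)).1 fun a => force (invOrbW.getD i (0, 0)).2 fun c => Nat.blt a 85 && Nat.blt c 288 &&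
        force (mmul (tC a) (sC c)) fun h => Nat.beq (mmul h invSt) (mmul (oC i) h)) = true := by decide +kernel

theorem invExtra_ok : ((List.range 32).all fun i =>
    (Nat.beq (qT i i) 0 || Nat.beq (qT i i) 1) && Nat.beq (qT i 1) (qT 1 i) &&
    ((List.range 32).all fun j => Nat.beq (qT i j) (qT j i) || Nat.beq (qT i j) (qT 1 (qT j i))) &&
    (Nat.beq i 0 || Nat.beq i 1 || (List.range 32).any fun j => !Nat.beq (qT i j) (qT j i))) = true := by decide +kernel

theorem invSmall_ok : qT 1 1 = 0 ∧ qT 2 2 < 32 ∧ ((List.range 32).any fun i => (List.range 32).any fun j =>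
    !Nat.beq (qT i j) (qT j i)) = true := by decide +kernel

theorem invEA_ok : ((List.range 32).all fun a => (List.range 32).all fun b =>
    Nat.beq a 0 || Nat.beq b 0 || Nat.beq a b || !Nat.beq (qT a a) 0 || !Nat.beq (qT b b) 0 ||
    !Nat.beq (qT a b) (qT b a) || (List.range 32).all fun x => !Nat.beq (qT x x) 0 || !Nat.beq (qT a x) (qT x a) ||
      !Nat.beq (qT b x) (qT x b) || Nat.beq x 0 || Nat.beq x a || Nat.beq x b || Nat.beq x (qT a b)) = true := by
  decide +kernel

theorem invPA_ok : ((List.range 60).all fun a =>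
    ((List.range 5).all fun v => Nat.blt (paT a v) 5 && (Nat.beq (paT 0 v) v) &&
      (List.range 60).all fun b => Nat.beq (paT (aT a b) v) (paT a (paT b v))) &&
    (Nat.beq a 0 || (List.range 5).any fun v => !Nat.beq (paT a v) v)) = true := by decide +kernel

end Cfsg.Lib.JThree
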