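import Cfsg.Agent.Lib.JThree.Simple
import Cfsg.Agent.Lib.JThree.InvolAux
import Cfsg.Agent.Lib.JThree.InvolCheck

/-!
# Involutions of the third Janko group
-/

set_option autoImplicit false
set_option maxRecDepth 100000
set_option linter.style.haveILetI false

namespace Cfsg.Lib.JThree

open Cfsg.Spor Cfsg.Lib.Concrete Cfsg.Lib.PermAut MulAction

attribute [local irreducible] mmul tget

variable {F : Type} [Field F] {ω : F}

/-- The element with a code, or one. -/
noncomputable def elT (ω : F) (M : ℕ) : threeJ3 F ω :=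
  open scoped Classical in if h : Has ω (threeJ3 F ω) M then ⟨h.choose, h.choose_spec.1⟩ else 1

/-- The matrix of an element of the cover. -/
abbrev valT (g : threeJ3 F ω) : Matrix F9 F9 F := ((g : GL F9 F) : Matrix F9 F9 F)

theorem valT_inj {g h : threeJ3 F ω} (e : valT g = valT h) : g = h := Subtype.ext (Units.ext e)

theorem elT_val {M : ℕ} (h : Has ω (threeJ3 F ω) M) : valT (elT ω M) = toM ω M := by
  classical
  unfold elT
  rw [dif_pos h]
  exact h.choose_spec.2

theorem valT_mul (g h : threeJ3 F ω) : valT (g * h) = valT g * valT h := by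
  show ((g * h : threeJ3 F ω) : GL F9 F).val = _
  rw [Subgroup.coe_mul, Units.val_mul]

theorem elT_mul (H : Hyp F ω) {A B C : ℕ} (hA : Has ω (threeJ3 F ω) A) (hB : Has ω (threeJ3 F ω) B)
    (e : mmul A B = C) : elT ω A * elT ω B = elT ω C :=
  valT_inj (by rw [valT_mul, elT_val hA, elT_val hB, elT_val (e ▸ hA.mul H hB), ← toM_mmul H.two H.omega, e])

theorem elT_one : elT ω oneM = (1 : threeJ3 F ω) := valT_inj (by rw [elT_val Has.one, toM_one]; rfl)

theorem inv_facts (H : Hyp F ω) : (∀ i < 32, Has ω (threeJ3 F ω) (qC i)) ∧ (∀ i < 60, Has ω (threeJ3 F ω) (aC i)) := by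
  have hq := invQ_ok
  have ha := invA_ok
  simp only [Bool.and_eq_true, allBelowB_iff] at hq ha
  exact ⟨fun i hi => Has.of_wit H (hq.2 i hi).1.1, fun i hi => Has.of_wit H (ha.2 i hi).1.1⟩

/-- The involution. -/
noncomputable def invT (ω : F) : threeJ3 F ω := elT ω (qC 1)

theorem invT_sq (H : Hyp F ω) : invT ω * invT ω = 1 := by
  have hq := invQ_ok
  simp only [Bool.and_eq_true, allBelowB_iff, Nat.beq_eq] at hq
  have hc := (hq.2 1 (by norm_num)).2 1 (by norm_num)
  rw [show qT 1 1 = 0 from invSmall_ok.1, hq.1] at hc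
  exact (elT_mul H ((inv_facts H).1 1 (by norm_num)) ((inv_facts H).1 1 (by norm_num)) hc).trans elT_one

theorem conj_of_conjB (H : Hyp F ω) {w : ℕ × ℕ × ℕ} {A B : ℕ} (h : conjB w A B = true) {x y : threeJ3 F ω}
    (hx : valT x = toM ω A) (hy : valT y = toM ω B) : IsConj x y := by
  simp only [conjB, force_eq, Bool.and_eq_true, Nat.blt, Nat.ble_eq, Nat.beq_eq] at h
  obtain ⟨⟨⟨hw, ha⟩, hc⟩, e⟩ := h
  obtain ⟨g, hg, eg⟩ := (tri_mem H hw ha hc).mono (Γ0_le H)
  refine isConj_iff.2 ⟨⟨g, hg⟩, mul_inv_eq_iff_eq_mul.2 (valT_inj ?_)⟩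
  rw [valT_mul, valT_mul, hx, hy, show valT (⟨g, hg⟩ : threeJ3 F ω) = _ from eg, ← toM_mmul H.two H.omega,
    ← toM_mmul H.two H.omega, e]

/-- The elements of a generated subgroup are in a closed list. -/
theorem small_cover [Finite (GL F9 F)] (H : Hyp F ω) {gens : List ℕ} {n els : ℕ} {par : List (ℕ × ℕ)}
    {mul : List (List ℕ)} (h : smallB gens n els par mul = true) (hn : 0 < n) {g : GL F9 F} (hg : g ∈ genC ω gens) :
    ∃ y < n, (g : Matrix F9 F9 F) = toM ω (tget 162 els y) := by
  simp only [smallB, Bool.and_eq_true, Nat.beq_eq, Nat.blt] at h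
  obtain ⟨⟨⟨h0, -⟩, hmul⟩, -⟩ := h
  have hg' : g ∈ Submonoid.closure {g : GL F9 F | ∃ M ∈ gens, (g : Matrix F9 F9 F) = toM ω M} := by
    rw [← Subgroup.closure_toSubmonoid_of_finite]; exact hg
  refine Submonoid.closure_induction_left (motive := fun (g : GL F9 F) _ => ∃ y < n, (g : Matrix F9 F9 F) = toM ω (tget 162 els y))
    ⟨0, hn, by rw [h0, toM_one]; rfl⟩ ?_ hg'
  rintro s ⟨M, hM, es⟩ y - ⟨a, ha, ea⟩
  obtain ⟨m, hm⟩ := all2_forall hmul M hM
  obtain ⟨z, hz⟩ := all2_forall hm a (List.mem_range.2 ha)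
  simp only [Bool.and_eq_true, Nat.beq_eq, Nat.ble_eq] at hz
  refine ⟨z, hz.1, ?_⟩
  rw [Units.val_mul, es, ea, ← toM_mmul H.two H.omega]
  exact congrArg (toM ω) hz.2

section

variable [Fintype F] (hF : Fintype.card F = 4) (H : Hyp F ω)

include hF H

theorem center_cube {z : threeJ3 F ω} (hz : z ∈ Subgroup.center ↥(threeJ3 F ω)) : z ^ 3 = 1 := by
  have h0 : (⟨z, hz⟩ : Subgroup.center ↥(threeJ3 F ω)) ^ Nat.card (Subgroup.center ↥(threeJ3 F ω)) = 1 :=
    pow_card_eq_one'
  rw [card_center hF H] at h0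
  simpa using congrArg (fun w : Subgroup.center ↥(threeJ3 F ω) => (w : ↥(threeJ3 F ω))) h0

/-- Elements with the same image differ by a scalar. -/
theorem mk_eq {x y : threeJ3 F ω} {A B : ℕ} (hx : valT x = toM ω A) (hy : valT y = toM ω B)
    (e : (QuotientGroup.mk x : J3 F ω) = QuotientGroup.mk y) :
    ∃ k < 3, toM ω A = toM ω (mmul (powC scal k) B) := by
  obtain ⟨c, hc0, hc⟩ := center_scalar H (QuotientGroup.eq.1 e.symm)
  have h3 : c ^ 3 = 1 := by
    have := FiniteField.pow_card_sub_one_eq_one c hc0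
    rwa [hF] at this
  have hk : ∃ k < 3, c = ω ^ k := by
    have hfac : (c - 1) * ((c - ω) * (c - ω ^ 2)) = 0 := by
      linear_combination h3 - (c ^ 2 - c) * H.omega + (c - 1) * (ω - 1) * H.omega
    rcases mul_eq_zero.1 hfac with h | h
    · exact ⟨0, by norm_num, by rw [pow_zero]; linear_combination h⟩
    rcases mul_eq_zero.1 h with h | h
    · exact ⟨1, by norm_num, by rw [pow_one]; linear_combination h⟩
    · exact ⟨2, by norm_num, by linear_combination h⟩
  obtain ⟨k, hk, rfl⟩ := hk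
  refine ⟨k, hk, ?_⟩
  have hxy : x = y * (y⁻¹ * x) := (mul_inv_cancel_left y x).symm
  rw [← hx, hxy, valT_mul, show valT (y⁻¹ * x) = _ from hc, hy, toM_mmul H.two H.omega, toM_powC H, toM_scal,
    smul_pow, one_pow, Matrix.mul_smul, mul_one, Matrix.smul_mul, one_mul]

theorem qa_inj {n m : ℕ} (hn : n < 91) (hm : m < 91) (e : (QuotientGroup.mk (elT ω (qaC n)) : J3 F ω) =
    QuotientGroup.mk (elT ω (qaC m))) : n = m := by
  have hh : ∀ n < 91, Has ω (threeJ3 F ω) (qaC n) := fun n hn => by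
    unfold qaC
    cases hb : Nat.blt n 32
    · rw [cond_false]; exact (inv_facts H).2 _ (by simp only [Nat.sub_eq]; omega)
    · rw [cond_true]
      simp only [Nat.blt, Nat.ble_eq] at hb
      exact (inv_facts H).1 _ (by omega)
  obtain ⟨k, hk, ek⟩ := mk_eq hF H (elT_val (hh n hn)) (elT_val (hh m hm)) e
  have hs := invSep_ok
  simp only [Bool.and_eq_true, List.all_eq_true, List.mem_range, Nat.blt, Nat.ble_eq] at hs
  have e0 : toM ω (qaS n) = toM ω (qaC n) := by
    rw [qaS, Nat.div_eq_of_lt hn, Nat.mod_eq_of_lt hn, toM_mmul H.two H.omega, toM_powC H, pow_zero, one_mul]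
  have e1 : qaS (91 * k + m) = mmul (powC scal k) (qaC m) := by
    rw [qaS, show (91 * k + m) / 91 = k by omega, show (91 * k + m) % 91 = m by omega]
  have := List.inj_on_of_nodup_map (nodup_of_nodupB hs.1) (List.mem_range.2 (by omega : n < 273))
    (List.mem_range.2 (by omega : 91 * k + m < 273))
    (toM_inj H (hs.2 n (by omega)) (hs.2 _ (by omega)) (by rw [e0, e1, ek]))
  omega

/-- A conjugate element has a centraliser of the same order. -/
theorem card_centralizer_conj {x y : threeJ3 F ω} (h : IsConj x y) :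
    Nat.card (Subgroup.centralizer ({x} : Set ↥(threeJ3 F ω))) =
      Nat.card (Subgroup.centralizer ({y} : Set ↥(threeJ3 F ω))) := by
  obtain ⟨g, rfl⟩ := isConj_iff.1 h
  refine Nat.card_congr ((MulAut.conj g).toEquiv.subtypeEquiv fun c => ?_)
  simp only [Subgroup.mem_centralizer_singleton_iff, MulEquiv.toEquiv_eq_coe, EquivLike.coe_coe]
  rw [show g * x * g⁻¹ = MulAut.conj g x from rfl, ← map_mul, ← map_mul, (MulAut.conj g).injective.eq_iff]

theorem card_centralizer_le :
    Nat.card (Subgroup.centralizer ({invT ω} : Set ↥(threeJ3 F ω))) ≤ 76 * 96 := by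
  classical
  haveI : Finite (threeJ3 F ω) := Nat.finite_of_card_ne_zero (by rw [card_threeJ3 H]; norm_num)
  have hle : Hs H ≤ threeJ3 F ω := (Hs_le H).trans (Γ0_le H)
  set K := (Hs H).subgroupOf (threeJ3 F ω)
  let φ : ℕ → threeJ3 F ω ⧸ K := fun x => QuotientGroup.mk (elT ω (repC x))
  have hrep : ∀ x < 6156, Has ω (threeJ3 F ω) (repC x) := fun x hx => (rep_has H x hx).mono (Γ0_le H)
  have hmk : ∀ (g : threeJ3 F ω) (x : ℕ), x < 6156 → ∀ r h : GL F9 F, (r : Matrix F9 F9 F) = toM ω (repC x) →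
      h ∈ Hs H → (g : GL F9 F) = r * h → (QuotientGroup.mk g : threeJ3 F ω ⧸ K) = φ x := by
    intro g x hx r h er hh e
    refine QuotientGroup.eq.2 (Subgroup.mem_subgroupOf.2 ?_)
    have : ((elT ω (repC x) : threeJ3 F ω) : GL F9 F) = r := Units.ext ((elT_val (hrep x hx)).trans er.symm)
    rw [Subgroup.coe_mul, Subgroup.coe_inv, this, e, mul_inv_rev, mul_assoc, inv_mul_cancel, mul_one]
    exact inv_mem hh
  have hsurj : Function.Surjective fun x : Fin 6156 => φ x := fun p => by
    obtain ⟨g, rfl⟩ := QuotientGroup.mk_surjective p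
    obtain ⟨y, hy, r, h, er, hh, e⟩ := normal_form H (show (g : GL F9 F) ∈ Γ0 H by rw [Γ0_eq H]; exact g.2)
    exact ⟨⟨y, hy⟩, (hmk g y hy r h er hh e).symm⟩
  have hKle : Nat.card (Hs H) ≤ 24480 := by
    let g : Fin 85 × Fin 288 → Hs H := fun t =>
      ⟨((t_has H t.1 t.1.2).mul H ((s_has H t.2 t.2.2).mono (Ks_le H))).choose,
        ((t_has H t.1 t.1.2).mul H ((s_has H t.2 t.2.2).mono (Ks_le H))).choose_spec.1⟩
    have := Nat.card_le_card_of_surjective g fun x => by
      obtain ⟨a, ha, c, hc, e⟩ := Hs_cover H x.2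
      exact ⟨(⟨a, ha⟩, ⟨c, hc⟩), Subtype.ext (Units.ext
        (((t_has H a ha).mul H ((s_has H c hc).mono (Ks_le H))).choose_spec.2.trans e.symm))⟩
    simpa [Nat.card_prod] using this
  have hidx : 6156 ≤ Nat.card (threeJ3 F ω ⧸ K) := by
    have h := K.card_mul_index
    rw [Nat.card_congr (Subgroup.subgroupOfEquivOfLe hle).toEquiv, card_threeJ3 H] at h
    by_contra hlt
    have := Nat.mul_le_mul hKle (le_of_lt (not_le.1 hlt))
    have h' : Nat.card (Hs H) * K.index = 150698880 := h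
    have h'' : Nat.card (Hs H) * K.index ≤ 24480 * 6155 :=
      Nat.mul_le_mul hKle (Nat.le_of_lt_succ (not_le.1 hlt))
    omega
  have hbij : Function.Bijective fun x : Fin 6156 => φ x :=
    hsurj.bijective_of_nat_card_le (by rw [Nat.card_fin]; exact hidx)
  -- the fixed points of the first generator
  have hA : gEl H 0 ∈ threeJ3 F ω := by rw [gEl, dif_pos (by norm_num)]; exact (gens_mem H 0 (by norm_num)).choose_spec.1
  set gA : threeJ3 F ω := ⟨gEl H 0, hA⟩
  have hfix : (fixedBy (threeJ3 F ω ⧸ K) gA).ncard ≤ 76 := by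
    let L := (List.range 6156).filter fun x => Nat.beq (cTab 0 x) x
    have hsub : fixedBy (threeJ3 F ω ⧸ K) gA ⊆ φ '' (L.toFinset : Set ℕ) := by
      intro p hp
      obtain ⟨x, rfl⟩ := hsurj p
      refine ⟨x, ?_, rfl⟩
      obtain ⟨r', h, hy, er', hh, e⟩ := step H (i := 0) (by norm_num) x.2
        (r := (elT ω (repC x) : threeJ3 F ω)) (elT_val (hrep x x.2))
      have h1 : φ x = φ (cTab 0 x) :=
        (show gA • φ x = φ x from hp).symm.trans (hmk (gA * elT ω (repC x)) _ hy r' h er' hh e)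
      have h2 : cTab 0 x = (x : ℕ) := congrArg Fin.val (hbij.1 (a₁ := ⟨_, hy⟩) (a₂ := x) h1.symm)
      simp [L, h2]
    refine (Set.ncard_le_ncard hsub (Set.toFinite _)).trans ((Set.ncard_image_le (Finset.finite_toSet _)).trans ?_)
    rw [Set.ncard_coe_finset]
    exact (List.toFinset_card_le _).trans_eq invFix_ok
  -- the involution in the subgroup
  have ho := invOrb_ok
  simp only [Bool.and_eq_true, allBelowB_iff, force_eq, Nat.blt, Nat.ble_eq, Nat.beq_eq] at ho
  obtain ⟨⟨⟨⟨ha, hc⟩, est⟩, hnd⟩, horb⟩ := ho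
  obtain ⟨st, hst, est'⟩ := (t_has H _ ha).mul H ((s_has H _ hc).mono (Ks_le H))
  rw [← est] at est'
  set s : threeJ3 F ω := ⟨st, hle hst⟩
  have hcA : IsConj gA s := by
    have hc := invConj_ok
    simp only [Bool.and_eq_true] at hc
    have e2 := elT_val ((inv_facts H).1 1 (by norm_num))
    exact (conj_of_conjB H hc.1.1 (x := gA) (gEl_val H (by norm_num)) e2).trans
      (conj_of_conjB H hc.1.2 (x := s) est' e2).symm
  have hsT : IsConj s (invT ω) := by
    have hc := invConj_ok
    simp only [Bool.and_eq_true] at hc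
    exact conj_of_conjB H hc.1.2 (x := s) est' (elT_val ((inv_facts H).1 1 (by norm_num)))
  rw [← card_centralizer_conj hF H hsT]
  set C := Subgroup.centralizer ({s} : Set ↥(threeJ3 F ω))
  let p0 : threeJ3 F ω ⧸ K := QuotientGroup.mk 1
  have hp0 : s • p0 = p0 := by
    refine QuotientGroup.eq.2 (Subgroup.mem_subgroupOf.2 ?_)
    simp only [smul_eq_mul, mul_one, Subgroup.coe_inv]
    exact inv_mem hst
  have horbit : (orbit C p0).ncard ≤ 76 := by
    obtain ⟨g, hg⟩ := isConj_iff.1 hcA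
    have hsub : orbit C p0 ⊆ fixedBy (threeJ3 F ω ⧸ K) s := by
      rintro _ ⟨c, rfl⟩
      show s • ((c : threeJ3 F ω) • p0) = (c : threeJ3 F ω) • p0
      rw [← mul_smul, show s * c = c * s from Subgroup.mem_centralizer_singleton_iff.1 c.2 |>.symm, mul_smul, hp0]
    refine (Set.ncard_le_ncard hsub (Set.toFinite _)).trans ?_
    rw [← hg, ← smul_fixedBy, Set.ncard_smul_set]
    exact hfix
  have hstab : Nat.card (stabilizer C p0) ≤ 96 := by
    have hh : ∀ i : Fin 255, ∃ h : Hs H, ((h : GL F9 F) : Matrix F9 F9 F) * toM ω invSt =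
        toM ω (oC i) * ((h : GL F9 F) : Matrix F9 F9 F) := fun i => by
      obtain ⟨⟨ha, hc⟩, e⟩ := horb i i.2
      obtain ⟨h, hh, eh⟩ := (t_has H _ ha).mul H ((s_has H _ hc).mono (Ks_le H))
      exact ⟨⟨h, hh⟩, by rw [eh, ← toM_mmul H.two H.omega, ← toM_mmul H.two H.omega, e]⟩
    choose h hh using hh
    have hmem : ∀ c : stabilizer C p0, (((c : C) : threeJ3 F ω) : GL F9 F) ∈ Hs H := fun c => by
      have e : ((c : C) : threeJ3 F ω) • p0 = p0 := c.2
      have := Subgroup.mem_subgroupOf.1 (QuotientGroup.eq.1 e)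
      simpa using this
    let f : Fin 255 × stabilizer C p0 → Hs H := fun t => h t.1 * ⟨_, hmem t.2⟩
    have hf : Function.Injective f := by
      rintro ⟨i, c⟩ ⟨j, d⟩ e
      have hcom : ∀ c : stabilizer C p0, ((((c : C) : threeJ3 F ω) : GL F9 F) : Matrix F9 F9 F) * toM ω invSt =
          toM ω invSt * ((((c : C) : threeJ3 F ω) : GL F9 F) : Matrix F9 F9 F) := fun c => by
        have := congrArg valT (Subgroup.mem_centralizer_singleton_iff.1 (c : C).2)
        rw [valT_mul, valT_mul, show valT s = _ from est'] at this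
        exact this
      have hu : ∀ (i : Fin 255) (c : stabilizer C p0), ((f (i, c) : GL F9 F) : Matrix F9 F9 F) * toM ω invSt =
          toM ω (oC i) * ((f (i, c) : GL F9 F) : Matrix F9 F9 F) := fun i c => by
        simp only [f, Subgroup.coe_mul, Units.val_mul]
        rw [mul_assoc, hcom, ← mul_assoc, hh, mul_assoc]
      have h1 := (hu i c).symm
      rw [show f (i, c) = f (j, d) from e, hu j d] at h1
      have h2 : toM ω (oC i) = toM ω (oC j) :=
        (Units.mul_left_inj (f (j, d) : GL F9 F)).1 h1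
      obtain rfl : i = j := Fin.ext (List.inj_on_of_nodup_map (nodup_of_nodupB hnd) (List.mem_range.2 i.2)
        (List.mem_range.2 j.2) (toM_inj H (tget_lt ..) (tget_lt ..) h2))
      have : (((c : C) : threeJ3 F ω) : GL F9 F) = (((d : C) : threeJ3 F ω) : GL F9 F) :=
        congrArg (fun z : Hs H => (z : GL F9 F)) (mul_left_cancel (a := h i) e)
      exact Prod.ext rfl (Subtype.ext (Subtype.ext (Subtype.ext this)))
    haveI : Finite (Hs H) := inferInstance
    have := (Nat.card_le_card_of_injective f hf).trans hKle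
    rw [Nat.card_prod, Nat.card_fin] at this
    omega
  have h := (stabilizer C p0).card_mul_index
  rw [index_stabilizer] at h
  rw [← h, mul_comm]
  exact Nat.mul_le_mul horbit hstab

/-- All involutions are conjugate to the chosen one. -/
theorem isConj_invT (x : J3 F ω) (hx : orderOf x = 2) : IsConj (QuotientGroup.mk (invT ω) : J3 F ω) x := by
  classical
  haveI : Finite (threeJ3 F ω) := Nat.finite_of_card_ne_zero (by rw [card_threeJ3 H]; norm_num)
  haveI : Fact (Nat.Prime 2) := ⟨Nat.prime_two⟩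
  obtain ⟨g, rfl⟩ := QuotientGroup.mk_surjective x
  have hg2 : g ^ 2 ∈ Subgroup.center ↥(threeJ3 F ω) := by
    rw [← QuotientGroup.eq_one_iff, QuotientGroup.mk_pow]
    exact orderOf_dvd_iff_pow_eq_one.1 (dvd_of_eq hx)
  set y := g ^ 3
  have hy2 : y ^ 2 = 1 := by
    rw [show y ^ 2 = (g ^ 2) ^ 3 by rw [← pow_mul, ← pow_mul]]
    exact center_cube hF H hg2
  have hqy : (QuotientGroup.mk g : J3 F ω) = QuotientGroup.mk y := by
    rw [show y = g ^ 2 * g from pow_succ g 2, QuotientGroup.mk_mul, (QuotientGroup.eq_one_iff _).2 hg2, one_mul]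
  have hy1 : y ≠ 1 := fun e => by
    rw [hqy, e, QuotientGroup.mk_one, orderOf_one] at hx
    omega
  have hle : genC ω pTwoGens ≤ threeJ3 F ω := genC_le (list_has H).2.2.1
  let P : Sylow 2 (threeJ3 F ω) := Sylow.ofCard ((genC ω pTwoGens).subgroupOf (threeJ3 F ω)) (by
    rw [Nat.card_congr (Subgroup.subgroupOfEquivOfLe hle).toEquiv, card_pTwo H, card_threeJ3 H,
      show (150698880 : ℕ) = 2 ^ 7 * 1177335 by norm_num, Nat.factorization_mul (by norm_num) (by norm_num),
      Finsupp.add_apply, Nat.Prime.factorization_pow Nat.prime_two, Finsupp.single_eq_same,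
      Nat.factorization_eq_zero_of_not_dvd (by norm_num : ¬ 2 ∣ 1177335)]
    norm_num)
  have hzp : IsPGroup 2 (Subgroup.zpowers y) :=
    IsPGroup.of_card (n := 1) (by rw [Nat.card_zpowers, orderOf_eq_prime hy2 hy1, pow_one])
  obtain ⟨Q, hQ⟩ := hzp.exists_le_sylow
  obtain ⟨k, hk⟩ := MulAction.exists_smul_eq (threeJ3 F ω) Q P
  have hmem : k * y * k⁻¹ ∈ (P : Subgroup (threeJ3 F ω)) := by
    rw [← hk]
    exact Subgroup.smul_mem_pointwise_smul y (MulAut.conj k) _ (hQ (Subgroup.mem_zpowers y))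
  have hm' : ((k * y * k⁻¹ : threeJ3 F ω) : GL F9 F) ∈ genC ω pTwoGens := Subgroup.mem_subgroupOf.1 hmem
  obtain ⟨i, hi, ei⟩ := small_cover H pTwo_ok (by norm_num) hm'
  have hc := invConj_ok
  simp only [Bool.and_eq_true, allBelowB_iff, Bool.or_eq_true, Bool.not_eq_true', Nat.beq_eq] at hc
  have h0 : i ≠ 0 := fun h => hy1 (by
    subst h
    have h00 := pTwo_ok
    simp only [smallB, Bool.and_eq_true, Nat.beq_eq] at h00
    have : k * y * k⁻¹ = 1 := valT_inj (by rw [show valT (k * y * k⁻¹) = _ from ei, h00.1.1.1, toM_one]; rfl)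
    exact conj_eq_one_iff.1 this)
  have hcj : conjB (invConjP.getD i (0, 0, 0)) (tget 162 pTwoEls i) (qC 1) = true := by
    rcases hc.2 i hi with (h | h) | h
    · exact absurd h h0
    · exfalso
      have hb : mmul (tget 162 pTwoEls i) (tget 162 pTwoEls i) ≠ oneM := fun e => by
        rw [e, Nat.beq_refl] at h
        exact Bool.noConfusion h
      have hlt : mmul (tget 162 pTwoEls i) (tget 162 pTwoEls i) < 2 ^ 162 := by
        have := sq_lt i hi
        exact this
      refine hb (toM_inj H hlt (by norm_num [oneM]) ?_)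
      rw [toM_mmul H.two H.omega, ← ei, toM_one]
      have e2 : (k * y * k⁻¹) * (k * y * k⁻¹) = 1 := by rw [← pow_two, conj_pow, hy2, mul_one, mul_inv_cancel]
      have := congrArg valT e2
      rwa [valT_mul] at this
    · exact h
  have h1 : IsConj y (k * y * k⁻¹) := isConj_iff.2 ⟨k, rfl⟩
  have h2 : IsConj (k * y * k⁻¹) (invT ω) :=
    conj_of_conjB H hcj ei (elT_val ((inv_facts H).1 1 (by norm_num)))
  rw [hqy]
  exact (MonoidHom.map_isConj (QuotientGroup.mk' _) (h1.trans h2)).symm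

end

end Cfsg.Lib.JThree
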