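import Cfsg.Agent.Lib.JThree.LineDefs

/-!
Checks of the first orbit on lines.
-/

set_option autoImplicit false
set_option maxRecDepth 100000

namespace Cfsg.Lib.JThree

open Cfsg.Lib.Concrete Cfsg.Lib.PermAut

theorem vec_ok : ((List.range 2).all fun i => (List.range 3).all fun q => (List.range 64).all fun x =>
    force (Nat.shiftLeft x (Nat.mul 6 q)) fun v => force (tget 18 (gVec i q) x) fun u =>
      Nat.beq (Nat.land (mmul (gC i) (embC v)) (Nat.lor str9 (Nat.shiftLeft str9 81))) (embC u)) = true := by
  decide +kernel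

theorem odd_ok : (Nat.beq (oddC oddOrbBase) 1 && Nat.blt oddOrbBase 23256 &&
    allBelowB 91 fun a => allBelowB 256 fun b => force (Nat.add (Nat.mul 256 a) b) fun j =>
      !Nat.blt j 23256 || (lineTreeB oddC oddOrbPar oddOrbDep oddOrbBase 23256 j && oddImgB 0 j && oddImgB 1 j &&
        (Nat.beq (Nat.add j 1) 23256 || Nat.blt (oddC j) (oddC (Nat.add j 1))) &&
        normB (oddC j) && !normB (smW (oddC j)) && !normB (smW (smW (oddC j))))) = true := by
  decide +kernel

end Cfsg.Lib.JThree
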