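import Cfsg.Agent.Lib.JThree.LineDefs

/-!
Checks of the tree on isotropic lines.
-/

set_option autoImplicit false
set_option maxRecDepth 100000

namespace Cfsg.Lib.JThree

open Cfsg.Lib.Concrete Cfsg.Lib.PermAut

theorem iso_ok : (Nat.blt isoOrbBase 43605 &&
    allBelowB 171 fun a => allBelowB 256 fun b => force (Nat.add (Nat.mul 256 a) b) fun j =>
      !Nat.blt j 43605 || lineTreeB isoC isoOrbPar isoOrbDep isoOrbBase 43605 j) = true := by
  decide +kernel

end Cfsg.Lib.JThree
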