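import Cfsg.Agent.Lib.JThree.LineDefs

/-!
Checks that each isotropic vector is listed.
-/

set_option autoImplicit false
set_option maxRecDepth 100000

namespace Cfsg.Lib.JThree

open Cfsg.Lib.PermAut

theorem isoSeg_ok3 : allBelowB 16 (fun s => isoSegB (Nat.add 48 s)) = true := by decide +kernel

end Cfsg.Lib.JThree
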