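import Cfsg.Agent.Lib.JThree.Defs
import Cfsg.Agent.Lib.JThree.LineData

/-!
# Vectors of the nine-dimensional space as pairs of nine bits
-/

set_option autoImplicit false

namespace Cfsg.Lib.JThree

open Cfsg.Lib.Concrete Cfsg.Lib.PermAut

/-- An entry of a table in chunks. -/
def cget (w : ℕ) (T : List ℕ) (j : ℕ) : ℕ := tget w (T.getD (Nat.div j 256) 0) (Nat.mod j 256)

/-- The table of a generator on a block of six bits. -/
def gVec (i q : ℕ) : ℕ :=
  bif Nat.beq i 0 then (bif Nat.beq q 0 then gVec00 else bif Nat.beq q 1 then gVec01 else gVec02)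
  else (bif Nat.beq q 0 then gVec10 else bif Nat.beq q 1 then gVec11 else gVec12)

/-- The image of a vector. -/
def gApp (i v : ℕ) : ℕ :=
  Nat.xor (tget 18 (gVec i 0) (Nat.land v 63))
    (Nat.xor (tget 18 (gVec i 1) (Nat.land (Nat.shiftRight v 6) 63)) (tget 18 (gVec i 2) (Nat.shiftRight v 12)))

/-- The multiple by the root. -/
def smW (v : ℕ) : ℕ :=
  Nat.lor (Nat.shiftRight v 9) (Nat.shiftLeft (Nat.xor (Nat.land v 511) (Nat.shiftRight v 9)) 9)

/-- The multiple by a power of the root. -/
noncomputable def smK (k v : ℕ) : ℕ := bif Nat.beq k 0 then v else bif Nat.beq k 1 then smW v else smW (smW v)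

/-- The first nonzero coordinate is one. -/
def normB (v : ℕ) : Bool :=
  let nz := Nat.lor (Nat.land v 511) (Nat.shiftRight v 9)
  !Nat.beq nz 0 && Nat.beq (Nat.land (Nat.xor nz (Nat.sub nz 1)) (Nat.shiftRight v 9)) 0

/-- The parities of nine bits. -/
def parity9 : ℕ := 0x96696996699696696996966996696996699696699669699696696996699696696996966996696996966969966996966996696996699696696996966996696996

/-- The support is even. -/
def isoB (v : ℕ) : Bool :=
  Nat.beq (Nat.land (Nat.shiftRight parity9 (Nat.lor (Nat.land v 511) (Nat.shiftRight v 9))) 1) 0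

/-- A vector as the first column of a code. -/
noncomputable def embC (v : ℕ) : ℕ :=
  Nat.rec 0 (fun i acc => Nat.lor acc (Nat.lor (Nat.shiftLeft (Nat.land (Nat.shiftRight v i) 1) (Nat.mul 9 i))
    (Nat.shiftLeft (Nat.land (Nat.shiftRight v (Nat.add 9 i)) 1) (Nat.add 81 (Nat.mul 9 i))))) 9

/-- The line of an index in the first orbit. -/
def oddC (j : ℕ) : ℕ := cget 18 oddOrbLines j

/-- The line of an index in the second orbit. -/
def isoC (j : ℕ) : ℕ := cget 18 isoOrbLines j

/-- One edge of a tree of lines. -/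
noncomputable def lineTreeB (S : ℕ → ℕ) (par dep : List ℕ) (base N j : ℕ) : Bool :=
  Nat.beq j base || force (cget 19 par j) fun e => force (Nat.div e 8) fun p =>
    Nat.blt p N && Nat.blt (cget 6 dep p) (cget 6 dep j) && Nat.blt (Nat.mod e 4) 3 &&
      Nat.beq (gApp (Nat.mod (Nat.div e 4) 2) (S p)) (smK (Nat.mod e 4) (S j))

/-- An image stays in the first orbit. -/
noncomputable def oddImgB (i j : ℕ) : Bool :=
  force (cget 17 (bif Nat.beq i 0 then oddOrbImg0 else oddOrbImg1) j) fun e => force (Nat.div e 4) fun p =>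
    Nat.blt p 23256 && Nat.blt (Nat.mod e 4) 3 && Nat.beq (gApp i (oddC j)) (smK (Nat.mod e 4) (oddC p))

/-- One vector is a multiple of a listed one. -/
noncomputable def isoStep (v p : ℕ) : ℕ :=
  bif Nat.beq p 0 then 0 else bif Nat.beq v 0 then p else bif isoB v then
    (bif normB v then (bif Nat.blt (Nat.sub p 1) 43605 && Nat.beq (isoC (Nat.sub p 1)) v then Nat.add p 1 else 0)
    else bif normB (smW v) || normB (smW (smW v)) then p else 0)
  else p

/-- A segment of vectors. -/
noncomputable def isoSegB (s : ℕ) : Bool :=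
  !Nat.beq (Nat.rec (Nat.add (isoStart.getD s 0) 1)
    (fun k p => Nat.rec (isoStep (Nat.add (Nat.mul 4096 s) k) 0)
      (fun m _ => isoStep (Nat.add (Nat.mul 4096 s) k) (Nat.add m 1)) p) 4096) 0

end Cfsg.Lib.JThree
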