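import Cfsg.Agent.Lib.JThree.Small
import Cfsg.Agent.Lib.JThree.LineCheckA
import Cfsg.Agent.Lib.JThree.LineCheckB
import Cfsg.Agent.Lib.JThree.LineCheckC0
import Cfsg.Agent.Lib.JThree.LineCheckC1
import Cfsg.Agent.Lib.JThree.LineCheckC2
import Cfsg.Agent.Lib.JThree.LineCheckC3

/-!
# Orbits of the triple cover of the third Janko group on lines
-/

set_option autoImplicit false
set_option maxRecDepth 100000
set_option linter.style.haveILetI false

namespace Cfsg.Lib.JThree

open Cfsg.Spor Cfsg.Lib.Concrete Cfsg.Lib.PermAut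
open scoped Matrix

attribute [local irreducible] mmul tget

variable {F : Type} [Field F] {ω : F}

/-- The vector of a code. -/
def toV (ω : F) (v : ℕ) : F9 → F := fun z => valF ω (v.testBit (iz z)) (v.testBit (9 + iz z))

theorem valF_xor (h2 : (2 : F) = 0) (a b c d : Bool) :
    valF ω (Bool.xor a c) (Bool.xor b d) = valF ω a b + valF ω c d := by
  simp only [valF, bitF_xor h2]; ring

theorem toV_xor (h2 : (2 : F) = 0) (a b : ℕ) : toV ω (Nat.xor a b) = toV ω a + toV ω b := by
  funext z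
  simp only [toV, Pi.add_apply, show ∀ p, (Nat.xor a b).testBit p = Bool.xor (a.testBit p) (b.testBit p) from
    fun p => Nat.testBit_xor .., valF_xor h2]

theorem bit_high {v n k : ℕ} (hv : v < 2 ^ n) (hk : n ≤ k) : v.testBit k = false :=
  Nat.testBit_lt_two_pow (lt_of_lt_of_le hv (Nat.pow_le_pow_right (by norm_num) hk))

theorem split_code {v : ℕ} (hv : v < 2 ^ 18) : v = Nat.xor (Nat.land v 63)
    (Nat.xor (Nat.shiftLeft (Nat.land (Nat.shiftRight v 6) 63) 6) (Nat.shiftLeft (Nat.shiftRight v 12) 12)) := by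
  refine Nat.eq_of_testBit_eq fun k => ?_
  show _ = (v &&& 63 ^^^ ((v >>> 6 &&& 63) <<< 6 ^^^ v >>> 12 <<< 12)).testBit k
  rw [Nat.testBit_xor, Nat.testBit_xor, Nat.testBit_shiftLeft, Nat.testBit_shiftLeft, Nat.testBit_and,
    Nat.testBit_and, Nat.testBit_shiftRight, Nat.testBit_shiftRight, show (63 : ℕ) = 2 ^ 6 - 1 by norm_num,
    Nat.testBit_two_pow_sub_one, Nat.testBit_two_pow_sub_one]
  rcases Nat.lt_or_ge k 6 with h | h
  · simp [h, show ¬ 6 ≤ k by omega, show ¬ 12 ≤ k by omega]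
  rcases Nat.lt_or_ge k 12 with h' | h'
  · simp [h, show ¬ k < 6 by omega, show ¬ 12 ≤ k by omega, show k - 6 < 6 by omega, Nat.add_sub_cancel' h]
  · simp [h, h', show ¬ k < 6 by omega, show ¬ k - 6 < 6 by omega, Nat.add_sub_cancel' h']

theorem embC_bit (v : ℕ) : ∀ i < 9, (embC v).testBit (9 * i) = v.testBit i ∧
    (embC v).testBit (81 + 9 * i) = v.testBit (9 + i) := by
  let E : ℕ → ℕ := fun n => Nat.rec 0 (fun i acc => Nat.lor acc (Nat.lor
    (Nat.shiftLeft (Nat.land (Nat.shiftRight v i) 1) (Nat.mul 9 i))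
    (Nat.shiftLeft (Nat.land (Nat.shiftRight v (Nat.add 9 i)) 1) (Nat.add 81 (Nat.mul 9 i))))) n
  have key : ∀ n ≤ 9, ∀ i < 9, ((E n).testBit (9 * i) = (decide (i < n) && v.testBit i)) ∧
      ((E n).testBit (81 + 9 * i) = (decide (i < n) && v.testBit (9 + i))) := by
    intro n hn
    induction n with
    | zero => intro i _; simp [E]
    | succ n ih =>
      intro i hi
      obtain ⟨h1, h2⟩ := ih (by omega) i hi
      have e : E (n + 1) = E n ||| ((v >>> n &&& 1) <<< (9 * n) ||| (v >>> (9 + n) &&& 1) <<< (81 + 9 * n)) := rfl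
      have b : ∀ x s p : ℕ, ((x &&& 1) <<< s).testBit p = (decide (p = s) && x.testBit 0) := by
        intro x s p
        rw [Nat.testBit_shiftLeft, Nat.testBit_and, show (1 : ℕ) = 2 ^ 1 - 1 by norm_num, Nat.testBit_two_pow_sub_one]
        by_cases hp : p = s
        · subst hp; simp
        · rcases Nat.lt_or_ge p s with h | h
          · simp [hp, show ¬ s ≤ p by omega]
          · simp [hp, show ¬ p - s < 1 by omega]
      rw [e, Nat.testBit_or, Nat.testBit_or, Nat.testBit_or, Nat.testBit_or, b, b, b, b, h1, h2,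
        Nat.testBit_shiftRight, Nat.testBit_shiftRight, Nat.add_zero, Nat.add_zero]
      constructor
      · by_cases hin : i = n
        · subst hin
          simp [show ¬ 9 * i = 81 + 9 * i by omega]
        · simp [show ¬ 9 * i = 9 * n by omega, show ¬ 9 * i = 81 + 9 * n by omega, show i < n + 1 ↔ i < n by omega, hin]
      · by_cases hin : i = n
        · subst hin
          simp [show ¬ 81 + 9 * i = 9 * i by omega]
        · simp [show ¬ 81 + 9 * i = 9 * n by omega, show ¬ 81 + 9 * i = 81 + 9 * n by omega,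
            show i < n + 1 ↔ i < n by omega, hin]
  intro i hi
  obtain ⟨h1, h2⟩ := key 9 le_rfl i hi
  exact ⟨h1.trans (by simp [hi]), h2.trans (by simp [hi])⟩

theorem toM_col (A : ℕ) (z : F9) :
    toM ω A z 0 = valF ω (A.testBit (9 * iz z)) (A.testBit (81 + 9 * iz z)) := by
  have := iz_lt z
  show valF ω ((A &&& (2 ^ 81 - 1)).testBit (9 * iz z + iz 0)) ((A >>> 81).testBit (9 * iz z + iz 0)) = _
  rw [show iz (0 : F9) = 0 from rfl, Nat.add_zero, Nat.testBit_and, Nat.testBit_shiftRight,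
    Nat.testBit_two_pow_sub_one]
  simp [show 9 * iz z < 81 by omega]

theorem toM_embC (v : ℕ) (z : F9) : toM ω (embC v) z 0 = toV ω v z := by
  obtain ⟨h1, h2⟩ := embC_bit v (iz z) (iz_lt z)
  rw [toM_col, h1, h2]; rfl

theorem mask_bit : ∀ i < 9, (Nat.lor str9 (Nat.shiftLeft str9 81)).testBit (9 * i) = true ∧
    (Nat.lor str9 (Nat.shiftLeft str9 81)).testBit (81 + 9 * i) = true := by decide +kernel

theorem toV_chunk (H : Hyp F ω) {i q x : ℕ} (hi : i < 2) (hq : q < 3) (hx : x < 64) :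
    toV ω (tget 18 (gVec i q) x) = toM ω (gC i) *ᵥ toV ω (Nat.shiftLeft x (Nat.mul 6 q)) := by
  have h := vec_ok
  simp only [List.all_eq_true, List.mem_range, force_eq, Nat.beq_eq] at h
  have e := h i hi q hq x hx
  funext z
  rw [← toM_embC, ← e, toM_col]
  obtain ⟨m1, m2⟩ := mask_bit (iz z) (iz_lt z)
  rw [show ∀ A B p, (Nat.land A B).testBit p = (A.testBit p && B.testBit p) from fun A B p => Nat.testBit_and ..,
    show ∀ A B p, (Nat.land A B).testBit p = (A.testBit p && B.testBit p) from fun A B p => Nat.testBit_and ..,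
    m1, m2, Bool.and_true, Bool.and_true, ← toM_col, toM_mmul H.two H.omega, Matrix.mul_apply]
  simp only [toM_embC, Matrix.mulVec, dotProduct]

theorem toV_gApp (H : Hyp F ω) {i v : ℕ} (hi : i < 2) (hv : v < 2 ^ 18) :
    toV ω (gApp i v) = toM ω (gC i) *ᵥ toV ω v := by
  have hlt : v >>> 12 < 64 := by
    rw [Nat.shiftRight_eq_div_pow, Nat.div_lt_iff_lt_mul (by norm_num)]; norm_num; norm_num at hv; exact hv
  conv_rhs => rw [split_code hv]
  rw [gApp, toV_xor H.two, toV_xor H.two, toV_xor H.two, toV_xor H.two, Matrix.mulVec_add, Matrix.mulVec_add,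
    toV_chunk H hi (q := 0) (x := Nat.land v 63) (by norm_num) (Nat.lt_succ_of_le Nat.and_le_right),
    toV_chunk H hi (q := 1) (x := Nat.land (Nat.shiftRight v 6) 63) (by norm_num) (Nat.lt_succ_of_le Nat.and_le_right),
    toV_chunk H hi (q := 2) (x := Nat.shiftRight v 12) (by norm_num) hlt]
  rfl

theorem tget_lt18 (t i : ℕ) : tget 18 t i < 2 ^ 18 := by
  unfold tget
  exact lt_of_le_of_lt Nat.and_le_right (by norm_num)

theorem gApp_lt (i v : ℕ) : gApp i v < 2 ^ 18 :=
  Nat.xor_lt_two_pow (tget_lt18 ..) (Nat.xor_lt_two_pow (tget_lt18 ..) (tget_lt18 ..))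

theorem smW_lt {v : ℕ} (hv : v < 2 ^ 18) : smW v < 2 ^ 18 := by
  show v >>> 9 ||| (v &&& 511 ^^^ v >>> 9) <<< 9 < 2 ^ 18
  have h1 : v >>> 9 < 2 ^ 9 := by
    rw [Nat.shiftRight_eq_div_pow, Nat.div_lt_iff_lt_mul (by norm_num)]; norm_num; norm_num at hv; exact hv
  have h2 : v &&& 511 ^^^ v >>> 9 < 2 ^ 9 := Nat.xor_lt_two_pow (Nat.lt_succ_of_le Nat.and_le_right) h1
  refine Nat.or_lt_two_pow (h1.trans (by norm_num)) ?_
  rw [Nat.shiftLeft_eq]
  calc _ < 2 ^ 9 * 2 ^ 9 := by gcongr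
    _ = _ := by norm_num

theorem toV_smW (H : Hyp F ω) {v : ℕ} (hv : v < 2 ^ 18) : toV ω (smW v) = ω • toV ω v := by
  funext z
  have hz := iz_lt z
  have e : smW v = v >>> 9 ||| (v &&& 511 ^^^ v >>> 9) <<< 9 := rfl
  simp only [toV, Pi.smul_apply, smul_eq_mul, e, Nat.testBit_or, Nat.testBit_shiftLeft, Nat.testBit_xor,
    Nat.testBit_and, Nat.testBit_shiftRight, show (511 : ℕ) = 2 ^ 9 - 1 by norm_num, Nat.testBit_two_pow_sub_one]
  simp only [show ¬ 9 ≤ iz z by omega, decide_false, Bool.false_and, Bool.or_false, le_add_iff_nonneg_right, Nat.zero_le,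
    decide_true, Bool.true_and, Nat.add_sub_cancel_left, hz, Bool.and_true, bit_high hv (show 18 ≤ 9 + (9 + iz z) by omega),
    Bool.false_or]
  cases v.testBit (iz z) <;> cases v.testBit (9 + iz z) <;> simp [valF, bitF]
  · linear_combination -H.omega + (1 + ω) * H.two
  · linear_combination -H.omega + H.two

theorem smK_lt {k v : ℕ} (hv : v < 2 ^ 18) : smK k v < 2 ^ 18 := by
  unfold smK
  cases Nat.beq k 0 <;> cases Nat.beq k 1 <;> simp only [cond_true, cond_false] <;>
    first | exact hv | exact smW_lt hv | exact smW_lt (smW_lt hv)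

theorem toV_smK (H : Hyp F ω) {k v : ℕ} (hk : k < 3) (hv : v < 2 ^ 18) : toV ω (smK k v) = ω ^ k • toV ω v := by
  interval_cases k
  · rw [pow_zero, one_smul]; rfl
  · rw [pow_one, ← toV_smW H hv]; rfl
  · rw [pow_two, ← smul_smul, ← toV_smW H hv, ← toV_smW H (smW_lt hv)]; rfl

theorem toV_inj (H : Hyp F ω) {a b : ℕ} (ha : a < 2 ^ 18) (hb : b < 2 ^ 18) (e : toV ω a = toV ω b) : a = b := by
  refine Nat.eq_of_testBit_eq fun k => ?_
  have hs : ∀ k : Fin 9, ∃ z : F9, iz z = k := by decide +kernel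
  by_cases h1 : k < 9
  · obtain ⟨z, hz⟩ := hs ⟨k, h1⟩
    have := (valF_inj H (congrFun e z)).1
    rwa [show iz z = k from hz] at this
  by_cases h2 : k < 18
  · obtain ⟨z, hz⟩ := hs ⟨k - 9, by omega⟩
    have := (valF_inj H (congrFun e z)).2
    rwa [show 9 + iz z = k by rw [show iz z = k - 9 from hz]; omega] at this
  rw [bit_high ha (by omega), bit_high hb (by omega)]

theorem toV_zero : toV ω 0 = 0 := by funext z; simp [toV, valF, bitF]

theorem toV_one : toV ω 1 = Pi.single (0 : F9) (1 : F) := by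
  have h : ∀ z : F9, (1 : ℕ).testBit (iz z) = decide (z = 0) ∧ (1 : ℕ).testBit (9 + iz z) = false := by
    decide +kernel
  funext z
  simp only [toV, (h z).1, (h z).2, Pi.single_apply]
  by_cases e : z = 0 <;> simp [e, valF, bitF]

theorem cget_lt (T : List ℕ) (j : ℕ) : cget 18 T j < 2 ^ 18 := tget_lt18 ..

theorem gEl_mem (H : Hyp F ω) {i : ℕ} (hi : i < 2) : gEl H i ∈ threeJ3 F ω := by
  rw [gEl, dif_pos hi]; exact (gens_mem H i hi).choose_spec.1

/-- The lines of a tree are images of the first one. -/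
theorem tree_orbit (H : Hyp F ω) {S : ℕ → ℕ} (hS : ∀ j, S j < 2 ^ 18) {par dep : List ℕ} {base N : ℕ}
    (h : ∀ j < N, lineTreeB S par dep base N j = true) :
    ∀ j < N, ∃ g ∈ threeJ3 F ω, ∃ c : F, c ≠ 0 ∧ (g : Matrix F9 F9 F) *ᵥ toV ω (S base) = c • toV ω (S j) := by
  suffices ∀ d, ∀ j < N, cget 6 dep j = d →
      ∃ g ∈ threeJ3 F ω, ∃ c : F, c ≠ 0 ∧ (g : Matrix F9 F9 F) *ᵥ toV ω (S base) = c • toV ω (S j) from
    fun j hj => this _ j hj rfl
  intro d
  induction d using Nat.strong_induction_on with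
  | _ d ih =>
    intro j hj hd
    have ht := h j hj
    simp only [lineTreeB, force_eq, Bool.or_eq_true, Bool.and_eq_true, Nat.beq_eq, Nat.blt, Nat.ble_eq] at ht
    rcases ht with rfl | ⟨⟨⟨hp, hdep⟩, hk⟩, e⟩
    · exact ⟨1, one_mem _, 1, one_ne_zero, by rw [Units.val_one, Matrix.one_mulVec, one_smul]⟩
    obtain ⟨g, hg, c, hc, eg⟩ := ih _ (by omega) _ hp rfl
    have hi : Nat.mod (Nat.div (cget 19 par j) 4) 2 < 2 := Nat.mod_lt _ (by norm_num)
    refine ⟨gEl H _ * g, mul_mem (gEl_mem H hi) hg, c * ω ^ Nat.mod (cget 19 par j) 4,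
      mul_ne_zero hc (pow_ne_zero _ fun e => by simpa [e] using H.omega), ?_⟩
    rw [Units.val_mul, ← Matrix.mulVec_mulVec, eg, Matrix.mulVec_smul, gEl_val H hi, ← toV_gApp H hi (hS _), e,
      toV_smK H (by omega) (hS j), smul_smul]

theorem odd_facts : oddC oddOrbBase = 1 ∧ oddOrbBase < 23256 ∧ ∀ j < 23256,
    lineTreeB oddC oddOrbPar oddOrbDep oddOrbBase 23256 j = true ∧ (∀ i < 2, oddImgB i j = true) ∧
    (j + 1 < 23256 → oddC j < oddC (j + 1)) ∧ normB (oddC j) = true ∧ normB (smW (oddC j)) = false ∧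
    normB (smW (smW (oddC j))) = false := by
  have h := odd_ok
  simp only [Bool.and_eq_true, allBelowB_iff, force_eq, Bool.or_eq_true, Bool.not_eq_true', Nat.beq_eq, Nat.blt,
    Nat.ble_eq] at h
  obtain ⟨⟨h0, hb⟩, h⟩ := h
  refine ⟨h0, hb, fun j hj => ?_⟩
  have hj' := (h (j / 256) (by omega) (j % 256) (Nat.mod_lt _ (by norm_num)))
  rw [show Nat.add (Nat.mul 256 (j / 256)) (j % 256) = j from Nat.div_add_mod j 256] at hj'
  have hj'' := hj'.resolve_left (by rw [← Bool.not_eq_true, Nat.ble_eq]; omega)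
  obtain ⟨⟨⟨⟨⟨⟨t, i0⟩, i1⟩, hs⟩, n0⟩, n1⟩, n2⟩ := hj''
  refine ⟨t, fun i hi => ?_, fun h' => ?_, n0, n1, n2⟩
  · interval_cases i
    exacts [i0, i1]
  · exact hs.resolve_left (by simp only [Nat.add_eq]; omega)

theorem odd_mono : ∀ {a b : ℕ}, a < b → b < 23256 → oddC a < oddC b := by
  intro a b hab hb
  induction b with
  | zero => omega
  | succ b ih =>
    have h := ((odd_facts).2.2 b (by omega)).2.2.1 hb
    rcases Nat.lt_succ_iff_lt_or_eq.1 hab with h' | h'
    · exact (ih h' (by omega)).trans h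
    · subst h'; exact h

section

variable [Fintype F] (hF : Fintype.card F = 4) (H : Hyp F ω)

include hF H

theorem pow_of_ne_zero {c : F} (hc : c ≠ 0) : ∃ k < 3, c = ω ^ k := by
  have h3 : c ^ 3 = 1 := by
    have := FiniteField.pow_card_sub_one_eq_one c hc
    rwa [hF] at this
  have hfac : (c - 1) * ((c - ω) * (c - ω ^ 2)) = 0 := by
    linear_combination h3 - (c ^ 2 - c) * H.omega + (c - 1) * (ω - 1) * H.omega
  rcases mul_eq_zero.1 hfac with h | h
  · exact ⟨0, by norm_num, by rw [pow_zero]; linear_combination h⟩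
  rcases mul_eq_zero.1 h with h | h
  · exact ⟨1, by norm_num, by rw [pow_one]; linear_combination h⟩
  · exact ⟨2, by norm_num, by linear_combination h⟩

theorem valF_surj (x : F) : ∃ a b : Bool, valF ω a b = x := by
  by_cases hx : x = 0
  · exact ⟨false, false, by simp [valF, bitF, hx]⟩
  obtain ⟨k, hk, rfl⟩ := pow_of_ne_zero hF H hx
  interval_cases k
  · exact ⟨true, false, by simp [valF, bitF]⟩
  · exact ⟨false, true, by simp [valF, bitF]⟩
  · exact ⟨true, true, by simp [valF, bitF]; linear_combination -H.omega + (1 + ω) * H.two⟩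

theorem toV_surj (x : F9 → F) : ∃ v < 2 ^ 18, toV ω v = x := by
  choose a b hab using fun z => valF_surj hF H (x z)
  let pt : ℕ → F9 := fun k => (((k / 3 : ℕ) : ZMod 3), ((k % 3 : ℕ) : ZMod 3))
  let bits : Fin 18 → Bool := fun k => if (k : ℕ) < 9 then a (pt k) else b (pt ((k : ℕ) - 9))
  refine ⟨Nat.ofBits bits, Nat.ofBits_lt_two_pow bits, funext fun z => ?_⟩
  have hpt : ∀ z : F9, (((iz z / 3 : ℕ) : ZMod 3), ((iz z % 3 : ℕ) : ZMod 3)) = z := by decide +kernel
  have hz := iz_lt z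
  rw [toV, Nat.testBit_ofBits_lt bits _ (by omega : iz z < 18), Nat.testBit_ofBits_lt bits _ (by omega : 9 + iz z < 18)]
  simp only [bits, hz, if_true, show ¬ 9 + iz z < 9 by omega, if_false, Nat.add_sub_cancel_left]
  rw [show pt (iz z) = z from hpt z]
  exact hab z

/-- The orbit of the first coordinate line. -/
theorem card_odd_orbit : {L : Submodule F (F9 → F) | ∃ g ∈ threeJ3 F ω,
    L = F ∙ ((g : Matrix F9 F9 F) *ᵥ (Pi.single (0 : F9) (1 : F) : F9 → F))}.ncard = 23256 := by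
  classical
  haveI : Finite (GL F9 F) := inferInstance
  obtain ⟨hb1, hb, hodd⟩ := odd_facts
  have hS : ∀ j, oddC j < 2 ^ 18 := fun j => cget_lt _ j
  have htree := tree_orbit H hS (fun j hj => (hodd j hj).1)
  have hclose : ∀ g ∈ threeJ3 F ω, ∃ j < 23256, ∃ c : F, c ≠ 0 ∧
      (g : Matrix F9 F9 F) *ᵥ toV ω 1 = c • toV ω (oddC j) := by
    intro g hg
    have hg' : g ∈ Submonoid.closure {gEl H 0, gEl H 1} := by
      rw [← Subgroup.closure_toSubmonoid_of_finite]; show g ∈ Γ0 H; rw [Γ0_eq H]; exact hg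
    refine Submonoid.closure_induction_left (motive := fun (g : GL F9 F) _ => ∃ j < 23256, ∃ c : F, c ≠ 0 ∧
      (g : Matrix F9 F9 F) *ᵥ toV ω 1 = c • toV ω (oddC j))
      ⟨_, hb, 1, one_ne_zero, by rw [Units.val_one, Matrix.one_mulVec, one_smul, hb1]⟩ ?_ hg'
    rintro s hs y - ⟨j, hj, c, hc, e⟩
    obtain ⟨i, hi, rfl⟩ : ∃ i < 2, s = gEl H i := by
      rcases hs with rfl | rfl
      exacts [⟨0, by norm_num, rfl⟩, ⟨1, by norm_num, rfl⟩]
    have hi' := (hodd j hj).2.1 i hi
    simp only [oddImgB, force_eq, Bool.and_eq_true, Nat.beq_eq, Nat.blt, Nat.ble_eq] at hi'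
    obtain ⟨⟨hp, hk⟩, ei⟩ := hi'
    refine ⟨_, hp, c * ω ^ Nat.mod (cget 17 (bif Nat.beq i 0 then oddOrbImg0 else oddOrbImg1) j) 4, mul_ne_zero hc (pow_ne_zero _ (show ω ≠ 0 from fun e => by simpa [e] using H.omega)), ?_⟩
    rw [Units.val_mul, ← Matrix.mulVec_mulVec, e, Matrix.mulVec_smul, gEl_val H hi, ← toV_gApp H hi (hS j), ei,
      toV_smK H (by omega) (hS _), smul_smul]
  have hset : {L : Submodule F (F9 → F) | ∃ g ∈ threeJ3 F ω,
      L = F ∙ ((g : Matrix F9 F9 F) *ᵥ (Pi.single (0 : F9) (1 : F) : F9 → F))} =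
      Set.range fun j : Fin 23256 => F ∙ toV ω (oddC j) := by
    ext L
    simp only [Set.mem_setOf_eq, Set.mem_range, ← toV_one (ω := ω)]
    constructor
    · rintro ⟨g, hg, rfl⟩
      obtain ⟨j, hj, c, hc, e⟩ := hclose g hg
      exact ⟨⟨j, hj⟩, by rw [e, Submodule.span_singleton_smul_eq (IsUnit.mk0 c hc)]⟩
    · rintro ⟨j, rfl⟩
      obtain ⟨g, hg, c, hc, e⟩ := htree j j.2
      rw [hb1] at e
      exact ⟨g, hg, by rw [e, Submodule.span_singleton_smul_eq (IsUnit.mk0 c hc)]⟩
  have hinj : Function.Injective fun j : Fin 23256 => F ∙ toV ω (oddC j) := by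
    intro a b e
    have hmem : toV ω (oddC a) ∈ F ∙ toV ω (oddC b) := by
      rw [show F ∙ toV ω (oddC b) = F ∙ toV ω (oddC a) from e.symm]; exact Submodule.mem_span_singleton_self _
    obtain ⟨c, hc⟩ := Submodule.mem_span_singleton.1 hmem
    obtain ⟨-, -, -, na, -, -⟩ := hodd a a.2
    obtain ⟨-, -, -, -, n1, n2⟩ := hodd b b.2
    have hne : c ≠ 0 := by
      rintro rfl
      rw [zero_smul, ← toV_zero (ω := ω)] at hc
      have h0 := toV_inj H (by norm_num) (hS a) hc
      rw [← h0] at na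
      simp [normB] at na
    obtain ⟨k, hk, rfl⟩ := pow_of_ne_zero hF H hne
    rw [← toV_smK H hk (hS b)] at hc
    have hcode := toV_inj H (smK_lt (hS b)) (hS a) hc
    have hk0 : k = 0 := by
      interval_cases k
      · rfl
      · rw [show smK 1 (oddC b) = smW (oddC b) from rfl] at hcode
        rw [hcode, na] at n1
        exact Bool.noConfusion n1
      · rw [show smK 2 (oddC b) = smW (smW (oddC b)) from rfl] at hcode
        rw [hcode, na] at n2
        exact Bool.noConfusion n2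
    subst hk0
    rw [show smK 0 (oddC b) = oddC b from rfl] at hcode
    rcases Nat.lt_trichotomy (a : ℕ) b with h | h | h
    · exact absurd hcode (ne_of_gt (odd_mono h b.2))
    · exact Fin.ext h
    · exact absurd hcode (ne_of_lt (odd_mono h a.2))
  rw [hset, Set.ncard_range_of_injective hinj, Nat.card_fin]

theorem isoB_iff {v : ℕ} (hv : v < 2 ^ 18) : isoB v = true ↔ ∑ z, (toV ω v z) ^ 3 = 0 := by
  classical
  have hsh : v >>> 9 < 512 := by
    rw [Nat.shiftRight_eq_div_pow, Nat.div_lt_iff_lt_mul (by norm_num)]; norm_num; norm_num at hv; exact hv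
  have hn : Nat.lor (Nat.land v 511) (Nat.shiftRight v 9) < 512 :=
    Nat.or_lt_two_pow (n := 9) (Nat.lt_succ_of_le Nat.and_le_right) hsh
  have hbit : ∀ z, (toV ω v z) ^ 3 = bitF ((Nat.lor (Nat.land v 511) (Nat.shiftRight v 9)).testBit (iz z)) := by
    intro z
    show _ = bitF ((v &&& 511 ||| v >>> 9).testBit (iz z))
    rw [Nat.testBit_or, Nat.testBit_and, Nat.testBit_shiftRight, show (511 : ℕ) = 2 ^ 9 - 1 by norm_num,
      Nat.testBit_two_pow_sub_one]
    simp only [toV, iz_lt z, decide_true, Bool.and_true]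
    cases v.testBit (iz z) <;> cases v.testBit (9 + iz z) <;> simp [valF, bitF]
    · linear_combination (ω - 1) * H.omega
    · linear_combination (ω + 2) * H.omega - H.two
  rw [Finset.sum_congr rfl fun z _ => hbit z]
  have hsum : ∀ n < 512, (Nat.beq (Nat.land (Nat.shiftRight parity9 n) 1) 0) =
      decide ((Finset.univ.filter fun z : F9 => n.testBit (iz z)).card % 2 = 0) := by decide +kernel
  have hb : ∀ n : ℕ, ∑ z : F9, (bitF (n.testBit (iz z)) : F) = ((Finset.univ.filter fun z : F9 => n.testBit (iz z)).card : F) := by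
    intro n
    rw [← Finset.sum_boole]
    refine Finset.sum_congr rfl fun z _ => ?_
    cases n.testBit (iz z) <;> simp [bitF]
  rw [hb, isoB, hsum _ hn, decide_eq_true_eq]
  haveI : CharP F 2 := CharTwo.of_one_ne_zero_of_two_eq_zero one_ne_zero H.two
  rw [CharP.cast_eq_zero_iff F 2]
  exact (Nat.dvd_iff_mod_eq_zero).symm

/-- Each isotropic vector is a multiple of an image of the first one. -/
theorem iso_orbit {x : F9 → F} (hx : x ≠ 0) (hs : ∑ z, (x z) ^ 3 = 0) : ∃ g ∈ threeJ3 F ω, ∃ c : F, c ≠ 0 ∧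
    (g : Matrix F9 F9 F) *ᵥ toV ω (isoC isoOrbBase) = c • x := by
  have hok := iso_ok
  simp only [Bool.and_eq_true, allBelowB_iff, force_eq, Bool.or_eq_true, Bool.not_eq_true', Nat.blt, Nat.ble_eq] at hok
  have hT : ∀ j < 43605, lineTreeB isoC isoOrbPar isoOrbDep isoOrbBase 43605 j = true := fun j hj => by
    have hj' := hok.2 (j / 256) (by omega) (j % 256) (Nat.mod_lt _ (by norm_num))
    rw [show Nat.add (Nat.mul 256 (j / 256)) (j % 256) = j from Nat.div_add_mod j 256] at hj'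
    exact hj'.resolve_left (by rw [← Bool.not_eq_true, Nat.ble_eq]; omega)
  have htree := tree_orbit H (S := isoC) (fun j => cget_lt _ j) hT
  have hstep : ∀ v < 2 ^ 18, ∃ p, isoStep v p ≠ 0 := by
    intro v hv
    have hseg : ∃ s < 64, ∃ k < 4096, v = Nat.add (Nat.mul 4096 s) k :=
      ⟨v / 4096, by omega, v % 4096, Nat.mod_lt _ (by norm_num), (Nat.div_add_mod v 4096).symm⟩
    obtain ⟨s, hs, k, hk, rfl⟩ := hseg
    have h : isoSegB s = true := by
      have h0 := isoSeg_ok0; have h1 := isoSeg_ok1; have h2 := isoSeg_ok2; have h3 := isoSeg_ok3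
      simp only [allBelowB_iff] at h0 h1 h2 h3
      rcases (show s < 16 ∨ (16 ≤ s ∧ s < 32) ∨ (32 ≤ s ∧ s < 48) ∨ 48 ≤ s by omega) with c | c | c | c
      · have := h0 s c
        rwa [show Nat.add 0 s = s from Nat.zero_add s] at this
      · have := h1 (s - 16) (by omega)
        rwa [show Nat.add 16 (s - 16) = s by simp only [Nat.add_eq]; omega] at this
      · have := h2 (s - 32) (by omega)
        rwa [show Nat.add 32 (s - 32) = s by simp only [Nat.add_eq]; omega] at this
      · have := h3 (s - 48) (by omega)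
        rwa [show Nat.add 48 (s - 48) = s by simp only [Nat.add_eq]; omega] at this
    have hz : ∀ v, isoStep v 0 = 0 := fun v => rfl
    have hsel : ∀ v p, (Nat.rec (motive := fun _ => ℕ) (isoStep v 0) (fun m _ => isoStep v (Nat.add m 1)) p) =
        isoStep v p := fun v p => by cases p <;> rfl
    simp only [isoSegB, hsel, Bool.not_eq_true', ← Bool.not_eq_true, Nat.beq_eq] at h
    let R : ℕ → ℕ := fun n => Nat.rec (Nat.add (isoStart.getD s 0) 1)
      (fun k p => isoStep (Nat.add (Nat.mul 4096 s) k) p) n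
    have hR : ∀ n, R (n + 1) = isoStep (Nat.add (Nat.mul 4096 s) n) (R n) := fun n => rfl
    have hall : ∀ n ≤ 4096, R n ≠ 0 := by
      intro n hn
      obtain ⟨d, hd⟩ := Nat.exists_eq_add_of_le hn
      induction d generalizing n with
      | zero => rw [show n = 4096 by omega]; exact h
      | succ d ih =>
        intro h0
        exact ih (n + 1) (by omega) (by omega) (by rw [hR, h0, hz])
    exact ⟨R k, by rw [← hR k]; exact hall (k + 1) (by omega)⟩
  have hfound : ∀ v < 2 ^ 18, v ≠ 0 → isoB v = true →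
      (normB v = true → ∃ j < 43605, isoC j = v) ∧
        (normB v = true ∨ normB (smW v) = true ∨ normB (smW (smW v)) = true) := by
    intro v hv hv0 hi
    obtain ⟨p, hp⟩ := hstep v hv
    cases hpz : Nat.beq p 0
    · have hvz : Nat.beq v 0 = false := by rw [← Bool.not_eq_true, Nat.beq_eq]; exact hv0
      simp only [isoStep, hpz, hvz, hi, cond_false, cond_true] at hp
      cases hn : normB v
      · rw [hn, cond_false] at hp
        refine ⟨fun h => absurd h Bool.false_ne_true, Or.inr ?_⟩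
        cases hq : (normB (smW v) || normB (smW (smW v)))
        · rw [hq, cond_false] at hp; exact absurd rfl hp
        · exact Bool.or_eq_true _ _ |>.mp hq
      · rw [hn, cond_true] at hp
        refine ⟨fun _ => ?_, Or.inl rfl⟩
        cases hq : (Nat.blt (Nat.sub p 1) 43605 && Nat.beq (isoC (Nat.sub p 1)) v)
        · rw [hq, cond_false] at hp; exact absurd rfl hp
        · simp only [Bool.and_eq_true, Nat.blt, Nat.ble_eq, Nat.beq_eq] at hq
          exact ⟨_, hq.1, hq.2⟩
    · simp only [isoStep, hpz, cond_true] at hp; exact absurd rfl hp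
  obtain ⟨v, hv, rfl⟩ := toV_surj hF H x
  have hv0 : v ≠ 0 := by rintro rfl; exact hx toV_zero
  have hi : isoB v = true := (isoB_iff hF H hv).2 hs
  have hω0 : ω ≠ 0 := fun e => by simpa [e] using H.omega
  -- a normalised multiple is listed
  obtain ⟨k, hk, hnk⟩ : ∃ k < 3, normB (smK k v) = true := by
    rcases (hfound v hv hv0 hi).2 with h | h | h
    exacts [⟨0, by norm_num, h⟩, ⟨1, by norm_num, h⟩, ⟨2, by norm_num, h⟩]
  have hik : isoB (smK k v) = true := by
    rw [isoB_iff hF H (smK_lt hv), toV_smK H hk hv]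
    simp only [Pi.smul_apply, smul_eq_mul, mul_pow, ← Finset.mul_sum, hs, mul_zero]
  have hk0 : smK k v ≠ 0 := fun e => by
    have h1 := toV_smK H hk hv
    rw [e, toV_zero, eq_comm, smul_eq_zero] at h1
    rcases h1 with h1 | h1
    · exact pow_ne_zero _ hω0 h1
    · exact hx h1
  obtain ⟨j, hj, ej⟩ := (hfound _ (smK_lt hv) hk0 hik).1 hnk
  obtain ⟨g, hg, c, hc, eg⟩ := htree j hj
  exact ⟨g, hg, c * ω ^ k, mul_ne_zero hc (pow_ne_zero _ hω0), by rw [eg, ej, toV_smK H hk hv, smul_smul]⟩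

/-- The isotropic lines form one orbit. -/
theorem iso_transitive (v w : F9 → F) (hv : v ≠ 0) (hw : w ≠ 0) (sv : ∑ z, (v z) ^ 3 = 0) (sw : ∑ z, (w z) ^ 3 = 0) :
    ∃ g ∈ threeJ3 F ω, ∃ c : F, c ≠ 0 ∧ (g : Matrix F9 F9 F) *ᵥ v = c • w := by
  obtain ⟨g, hg, c, hc, eg⟩ := iso_orbit hF H hv sv
  obtain ⟨h, hh, d, hd, eh⟩ := iso_orbit hF H hw sw
  refine ⟨h * g⁻¹, mul_mem hh (inv_mem hg), c⁻¹ * d, mul_ne_zero (inv_ne_zero hc) hd, ?_⟩
  have e1 : v = c⁻¹ • ((g : Matrix F9 F9 F) *ᵥ toV ω (isoC isoOrbBase)) := by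
    rw [eg, smul_smul, inv_mul_cancel₀ hc, one_smul]
  rw [e1, Matrix.mulVec_smul, Matrix.mulVec_mulVec, ← Units.val_mul, inv_mul_cancel_right, eh, smul_smul]

end

end Cfsg.Lib.JThree
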