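import Cfsg.Agent.Lib.JThree.Small
import Cfsg.Agent.Lib.JThree.CheckEl
import Cfsg.Agent.Lib.JThree.CheckSmall

/-!
# The order of the triple cover of the third Janko group
-/

set_option autoImplicit false
set_option maxRecDepth 100000

namespace Cfsg.Lib.JThree

open Cfsg.Spor Cfsg.Lib.Concrete Cfsg.Lib.PermAut

variable {F : Type} [Field F] {ω : F}

theorem el_has (H : Hyp F ω) : Has ω (threeJ3 F ω) elN19 ∧ Has ω (threeJ3 F ω) elN17 ∧ Has ω (threeJ3 F ω) elN5 ∧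
    Has ω (threeJ3 F ω) fusEl ∧ Has ω (threeJ3 F ω) scal := by
  have h := wits_ok
  simp only [Bool.and_eq_true] at h
  obtain ⟨⟨⟨⟨⟨⟨⟨⟨⟨⟨a, b⟩, c⟩, d⟩, e⟩, -⟩, -⟩, -⟩, -⟩, -⟩, -⟩ := h
  exact ⟨Has.of_wit H a, Has.of_wit H b, Has.of_wit H c, Has.of_wit H d, Has.of_wit H e⟩

theorem list_has (H : Hyp F ω) : (∀ M ∈ spl0, Has ω (threeJ3 F ω) M) ∧ (∀ M ∈ spl1, Has ω (threeJ3 F ω) M) ∧
    (∀ M ∈ pTwoGens, Has ω (threeJ3 F ω) M) ∧ (∀ M ∈ pThreeGens, Has ω (threeJ3 F ω) M) ∧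
    (∀ M ∈ twoGens, Has ω (threeJ3 F ω) M) ∧ (∀ M ∈ threeGens, Has ω (threeJ3 F ω) M) := by
  have h := wits_ok
  simp only [Bool.and_eq_true] at h
  obtain ⟨⟨⟨⟨⟨⟨-, a⟩, b⟩, c⟩, d⟩, e⟩, f⟩ := h
  exact ⟨Has.of_wits H a, Has.of_wits H b, Has.of_wits H c, Has.of_wits H d, Has.of_wits H e, Has.of_wits H f⟩

theorem card_pTwo [Finite (GL F9 F)] (H : Hyp F ω) : Nat.card (genC ω pTwoGens) = 128 :=
  card_small H pTwo_ok (by norm_num) (list_has H).2.2.1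

theorem card_pThree [Finite (GL F9 F)] (H : Hyp F ω) : Nat.card (genC ω pThreeGens) = 729 :=
  card_small H pThree_ok (by norm_num) (list_has H).2.2.2.1

theorem code_lt : elN19 < 2 ^ 162 ∧ elN17 < 2 ^ 162 ∧ elN5 < 2 ^ 162 ∧ scal < 2 ^ 162 := by decide +kernel

/-- The order. -/
theorem card_threeJ3 [Finite (GL F9 F)] (H : Hyp F ω) : Nat.card (threeJ3 F ω) = 150698880 := by
  obtain ⟨e19, e17, e5, -, -⟩ := el_has H
  obtain ⟨p19, n19, p17, n17, p5, n5⟩ := pows_ok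
  have h19 := prime_dvd H (by norm_num) e19 code_lt.1 p19 n19
  have h17 := prime_dvd H (by norm_num) e17 code_lt.2.1 p17 n17
  have h5 := prime_dvd H (by norm_num) e5 code_lt.2.2.1 p5 n5
  have h2 : 128 ∣ Nat.card (threeJ3 F ω) := card_pTwo H ▸ Subgroup.card_dvd_of_le (genC_le (list_has H).2.2.1)
  have h3 : 729 ∣ Nat.card (threeJ3 F ω) := card_pThree H ▸ Subgroup.card_dvd_of_le (genC_le (list_has H).2.2.2.1)
  have hd := Nat.lcm_dvd (Nat.lcm_dvd (Nat.lcm_dvd (Nat.lcm_dvd h2 h3) h5) h17) h19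
  rw [show Nat.lcm (Nat.lcm (Nat.lcm (Nat.lcm 128 729) 5) 17) 19 = 150698880 by decide +kernel] at hd
  exact le_antisymm (card_le H) (Nat.le_of_dvd Nat.card_pos hd)

end Cfsg.Lib.JThree
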