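import Cfsg.Agent.Lib.JThree.OuterTwist
import Cfsg.Agent.Lib.JThree.Order
import Cfsg.Prelude.Def_KGroupFacts

/-!
# The outer automorphism group of the third Janko group has order two
-/

set_option autoImplicit false
set_option maxRecDepth 100000
set_option linter.style.haveILetI false
set_option maxHeartbeats 400000

namespace Cfsg.Lib.JThree

open Cfsg.Spor Cfsg.Lib.Concrete Cfsg.Lib.PermAut
open scoped Matrix

attribute [local irreducible] mmul tget

variable {F : Type} [Field F] {ω : F}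

/-- A scalar matrix in the cover is central. -/
theorem mem_center_of_smul {g : threeJ3 F ω} {e : F} (h : valT g = e • (1 : Matrix F9 F9 F)) :
    g ∈ Subgroup.center ↥(threeJ3 F ω) :=
  Subgroup.mem_center_iff.2 fun k => valT_inj (by
    rw [valT_mul, valT_mul, h, Matrix.mul_smul, Matrix.smul_mul, mul_one, one_mul])

theorem mk_eq_of_smul {x y : threeJ3 F ω} {e : F} (h : valT x = e • valT y) :
    (QuotientGroup.mk x : J3 F ω) = QuotientGroup.mk y := by
  refine (QuotientGroup.eq.2 (mem_center_of_smul (e := e) ?_)).symm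
  rw [valT_mul, h, Matrix.mul_smul, ← valT_mul, inv_mul_cancel]
  rfl

theorem valT_one : valT (1 : threeJ3 F ω) = 1 := rfl

/-- The value of a word on lifts. -/
theorem word_val (H : Hyp F ω) {f : ℕ → threeJ3 F ω} {M : ℕ → ℕ} {N : ℕ}
    (hf : ∀ n < N, ∃ e : F, e ≠ 0 ∧ valT (f n) = e • toM ω (M n)) :
    ∀ w : List ℕ, (∀ n ∈ w, n < N) → ∃ e : F, e ≠ 0 ∧ valT (w.map f).prod = e • toM ω (wordC M w)
  | [], _ => ⟨1, one_ne_zero, by
      show (1 : Matrix F9 F9 F) = _ • toM ω oneM
      rw [one_smul, toM_one]⟩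
  | i :: w, h => by
    obtain ⟨e, he, e1⟩ := hf i (h i (List.mem_cons_self ..))
    obtain ⟨d, hd, e2⟩ := word_val H hf w fun n hn => h n (List.mem_cons_of_mem _ hn)
    refine ⟨e * d, mul_ne_zero he hd, ?_⟩
    show valT (f i * (w.map f).prod) = _ • toM ω (mmul (M i) (wordC M w))
    rw [valT_mul, e1, e2, Matrix.smul_mul, Matrix.mul_smul, smul_smul, toM_mmul H.two H.omega]

theorem map_word {G : Type*} [Monoid G] {φ : G →* G} {f f' : ℕ → G} {N : ℕ} (h : ∀ n < N, φ (f n) = f' n) :
    ∀ w : List ℕ, (∀ n ∈ w, n < N) → φ (w.map f).prod = (w.map f').prod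
  | [], _ => map_one φ
  | i :: w, hw => by
    show φ (f i * (w.map f).prod) = f' i * (w.map f').prod
    rw [map_mul, h i (hw i (List.mem_cons_self ..)), map_word h w fun n hn => hw n (List.mem_cons_of_mem _ hn)]

theorem sq_valF (H : Hyp F ω) (a b : Bool) : valF ω a b ^ 2 = valF ω (Bool.xor a b) b := by
  cases a <;> cases b <;> simp [valF, bitF]
  · linear_combination H.omega - (1 + ω) * H.two
  · linear_combination H.omega

/-- The three generators. -/
noncomputable def genT (ω : F) (n : ℕ) : threeJ3 F ω :=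
  bif Nat.beq n 0 then elT ω elN19 else bif Nat.beq n 1 then elT ω outH else elT ω (cC outX.1 outX.2)

section

variable [Fintype F] (hF : Fintype.card F = 4) (H : Hyp F ω)

include hF H

theorem out_facts : Has ω (threeJ3 F ω) outH ∧ Has ω (threeJ3 F ω) elN19 ∧
    Has ω (threeJ3 F ω) (cC outX.1 outX.2) ∧ valT (elT ω elN19) ^ 19 = 1 := by
  have h := outH_ok
  simp only [Bool.and_eq_true] at h
  refine ⟨Has.of_wit H h.1.1.1.1.1.1.1.1, (el_has H).1, Has.of_wit H h.1.1.1.1.2, ?_⟩
  rw [elT_val (el_has H).1, ← toM_powC H, pows_ok.1, toM_one]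

theorem genT_val : ∀ n < 3, ∃ e : F, e ≠ 0 ∧ valT (genT ω n) = e • toM ω (tripC 1 outX.1 outX.2 n) := by
  obtain ⟨hh, hc, hx, -⟩ := out_facts hF H
  intro n hn
  refine ⟨1, one_ne_zero, ?_⟩
  rw [one_smul]
  interval_cases n
  · show valT (elT ω elN19) = toM ω (powC elN19 1)
    rw [toM_powC H, pow_one, elT_val hc]
  · exact elT_val hh
  · exact elT_val hx

theorem conj_rel : elT ω outH * elT ω elN19 * (elT ω outH)⁻¹ = (elT ω elN19 : threeJ3 F ω) ^ 4 := by
  obtain ⟨hh, hc, -, -⟩ := out_facts hF H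
  have h := outH_ok
  simp only [Bool.and_eq_true, Nat.beq_eq] at h
  rw [mul_inv_eq_iff_eq_mul]
  refine valT_inj ?_
  have hp : valT ((elT ω elN19 : threeJ3 F ω) ^ 4) = toM ω (powC elN19 4) := by
    rw [toM_powC H, ← elT_val hc]
    simp [valT, SubmonoidClass.coe_pow]
  rw [valT_mul, valT_mul, hp, elT_val hh, elT_val hc, ← toM_mmul H.two H.omega, ← toM_mmul H.two H.omega,
    h.1.1.1.1.1.2]

theorem orders : orderOf (QuotientGroup.mk (elT ω elN19) : J3 F ω) = 19 ∧
    orderOf (QuotientGroup.mk (elT ω outH) : J3 F ω) = 9 := by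
  classical
  haveI : Fact (Nat.Prime 19) := ⟨by norm_num⟩
  haveI : Fact (Nat.Prime 3) := ⟨Nat.prime_three⟩
  obtain ⟨hh, hc, -, h19⟩ := out_facts hF H
  have hpw : ∀ (g : threeJ3 F ω) (n : ℕ), valT (g ^ n) = valT g ^ n := fun g n => by
    simp [valT, SubmonoidClass.coe_pow]
  refine ⟨orderOf_eq_prime ?_ ?_, ?_⟩
  · rw [← QuotientGroup.mk_pow, show (elT ω elN19 : threeJ3 F ω) ^ 19 = 1 from valT_inj (by rw [hpw, h19]; rfl),
      QuotientGroup.mk_one]
  · intro e
    have h3 : (elT ω elN19 : threeJ3 F ω) ^ 3 = 1 := center_cube hF H ((QuotientGroup.eq_one_iff _).1 e)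
    have h1 : (elT ω elN19 : threeJ3 F ω) ^ 19 = 1 := valT_inj (by rw [hpw, h19]; rfl)
    have := pow_gcd_eq_one.2 ⟨h3, h1⟩
    rw [show Nat.gcd 3 19 = 1 from rfl, pow_one] at this
    have e' := congrArg valT this
    rw [elT_val hc] at e'
    exact pows_ok.2.1 (toM_inj H code_lt.1 (by norm_num [oneM]) (e'.trans toM_one.symm))
  · have h := outH_ok
    simp only [Bool.and_eq_true, Nat.beq_eq, Bool.not_eq_true', scalB, Nat.blt, Nat.ble_eq] at h
    refine orderOf_eq_prime_pow (p := 3) (n := 1) ?_ ?_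
    · intro e
      rw [pow_one, ← QuotientGroup.mk_pow, QuotientGroup.eq_one_iff] at e
      obtain ⟨c, hc0, ec⟩ := center_scalar H e
      obtain ⟨k, hk, rfl⟩ := pow_of_ne_zero hF H hc0
      have e1 : toM ω (powC outH 3) = toM ω (powC scal k) := by
        rw [toM_powC H, toM_powC H, toM_scal, smul_pow, one_pow, ← elT_val hh, ← hpw]
        exact ec
      have hlt : powC scal k < 2 ^ 162 := by interval_cases k <;> decide +kernel
      have hb := h.1.1.1.1.1.1.2
      rw [← Bool.not_eq_true, List.any_eq_true] at hb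
      exact hb ⟨k, List.mem_range.2 hk, Nat.beq_eq.mpr (toM_inj H h.1.1.1.2 hlt e1)⟩
    · rw [show (3 : ℕ) ^ (1 + 1) = 9 by norm_num, ← QuotientGroup.mk_pow, show (elT ω outH : threeJ3 F ω) ^ 9 = 1 from
        valT_inj (by rw [hpw, elT_val hh, ← toM_powC H, h.1.1.1.1.1.1.1.2, toM_one]; rfl), QuotientGroup.mk_one]

/-- Powers of the element of order nineteen are its whole centraliser. -/
theorem centralizer_nineteen {y : J3 F ω} (hy : y * QuotientGroup.mk (elT ω elN19) =
    QuotientGroup.mk (elT ω elN19) * y) : ∃ i : ℕ, y = (QuotientGroup.mk (elT ω elN19) : J3 F ω) ^ i := by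
  classical
  haveI : Fact (Nat.Prime 19) := ⟨by norm_num⟩
  haveI : Finite (threeJ3 F ω) := Nat.finite_of_card_ne_zero (by rw [card_threeJ3 H]; norm_num)
  obtain ⟨o19, o9⟩ := orders hF H
  obtain ⟨-, hc, -, h19⟩ := out_facts hF H
  set a : threeJ3 F ω := elT ω elN19
  set c : J3 F ω := QuotientGroup.mk a
  set b : J3 F ω := QuotientGroup.mk (elT ω outH)
  have ha19 : a ^ 19 = 1 := valT_inj (by
    show ((a ^ 19 : threeJ3 F ω) : GL F9 F).val = _
    rw [SubmonoidClass.coe_pow, Units.val_pow_eq_pow_val]; exact h19)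
  have hbc : b * c * b⁻¹ = c ^ 4 := by
    show QuotientGroup.mk _ * QuotientGroup.mk _ * (QuotientGroup.mk _)⁻¹ = (QuotientGroup.mk _ : J3 F ω) ^ 4
    rw [← QuotientGroup.mk_inv, ← QuotientGroup.mk_mul, ← QuotientGroup.mk_mul, ← QuotientGroup.mk_pow, conj_rel hF H]
  set C := Subgroup.centralizer ({c} : Set (J3 F ω))
  -- the centraliser is small
  have hC : Nat.card C ≤ 171 := by
    set Z := Subgroup.center ↥(threeJ3 F ω)
    have hlift : ∀ u : C, ∃ g : threeJ3 F ω, (QuotientGroup.mk g : J3 F ω) = u ∧ g * a = a * g := fun u => by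
      obtain ⟨g, hg⟩ := QuotientGroup.mk_surjective (u : J3 F ω)
      refine ⟨g, hg, ?_⟩
      have hz : (a * g)⁻¹ * (g * a) ∈ Z := by
        rw [← QuotientGroup.eq, QuotientGroup.mk_mul, QuotientGroup.mk_mul, hg]
        exact (Subgroup.mem_centralizer_singleton_iff.1 u.2).symm
      generalize hzd : (a * g)⁻¹ * (g * a) = z at hz
      have e1 : g * a * g⁻¹ = a * z := by
        have hc : g * z = z * g := Subgroup.mem_center_iff.1 hz g
        rw [mul_inv_eq_iff_eq_mul, mul_assoc, ← hc, ← mul_assoc, ← hzd, mul_inv_cancel_left]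
      have h2 := congrArg (· ^ 19) e1
      simp only [conj_pow, ha19, mul_one, mul_inv_cancel,
        (show Commute a z from Subgroup.mem_center_iff.1 hz a).mul_pow, one_mul] at h2
      have h1 := pow_gcd_eq_one.2 ⟨center_cube hF H hz, h2.symm⟩
      rw [show Nat.gcd 3 19 = 1 from rfl, pow_one] at h1
      rw [h1, mul_one, mul_inv_eq_iff_eq_mul] at e1
      exact e1
    choose g hg hgc using hlift
    let C3 := Subgroup.centralizer ({a} : Set ↥(threeJ3 F ω))
    let f : Z × C → C3 := fun p => ⟨p.1 * g p.2, mul_mem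
      (Subgroup.mem_centralizer_singleton_iff.2 (Subgroup.mem_center_iff.1 p.1.2 a).symm)
      (Subgroup.mem_centralizer_singleton_iff.2 (hgc p.2))⟩
    have hf : Function.Injective f := by
      rintro ⟨z, u⟩ ⟨z', u'⟩ e
      have e' : (z : threeJ3 F ω) * g u = z' * g u' := congrArg Subtype.val e
      have hq := congrArg (QuotientGroup.mk : _ → J3 F ω) e'
      rw [QuotientGroup.mk_mul, QuotientGroup.mk_mul, (QuotientGroup.eq_one_iff _).2 z.2,
        (QuotientGroup.eq_one_iff _).2 z'.2, one_mul, one_mul, hg, hg] at hq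
      obtain rfl := Subtype.ext hq
      exact Prod.ext (Subtype.ext (mul_right_cancel e')) rfl
    have := Nat.card_le_card_of_injective f hf
    rw [Nat.card_prod, show Nat.card Z = 3 from card_center hF H] at this
    have h2 : Nat.card C3 ≤ 513 := card_centralizer_nineteen hF H (elT_val hc)
    omega
  -- the normaliser
  set P : Subgroup (J3 F ω) := Subgroup.zpowers c
  set N := Subgroup.normalizer (P : Set (J3 F ω))
  have hJ : Nat.card (J3 F ω) = 50232960 := card_J3 hF H
  haveI : Finite (J3 F ω) := Nat.finite_of_card_ne_zero (by rw [hJ]; norm_num)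
  have hcp : ∀ n : ℕ, c ^ n = c ^ (n % 19) := fun n => by rw [← o19, ← pow_mod_orderOf]
  have hNj : ∀ n : N, ∃ j : Fin 18, (n : J3 F ω) * c * (n : J3 F ω)⁻¹ = c ^ ((j : ℕ) + 1) := fun n => by
    have hm : (n : J3 F ω) * c * (n : J3 F ω)⁻¹ ∈ P :=
      (Subgroup.mem_normalizer_iff.1 n.2 c).1 (Subgroup.mem_zpowers c)
    obtain ⟨k, hk⟩ := (Submonoid.mem_powers_iff _ _).1 (mem_powers_iff_mem_zpowers.2 hm)
    have hk0 : k % 19 ≠ 0 := fun e => by
      have hk' : c ^ k = 1 := by rw [hcp, e, pow_zero]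
      have e1 : c = 1 := conj_eq_one_iff.1 (hk.symm.trans hk')
      rw [e1, orderOf_one] at o19
      omega
    exact ⟨⟨k % 19 - 1, by omega⟩, by rw [← hk, hcp k]; congr 1; simp only; omega⟩
  choose jN hjN using hNj
  have hNle : Nat.card N ≤ 18 * 171 := by
    let rep : Fin 18 → N := fun j => if h : ∃ n, jN n = j then h.choose else 1
    have hrep : ∀ n : N, jN (rep (jN n)) = jN n := fun n => by
      simp only [rep]
      have h : ∃ m, jN m = jN n := ⟨n, rfl⟩
      rw [dif_pos h]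
      exact h.choose_spec
    have hmem : ∀ n : N, ((rep (jN n))⁻¹ * n : J3 F ω) ∈ C := fun n => by
      have e1 := hjN (rep (jN n))
      rw [hrep, ← hjN n] at e1
      refine Subgroup.mem_centralizer_singleton_iff.2 ?_
      have := congrArg (fun v => ((rep (jN n) : N) : J3 F ω)⁻¹ * v * (n : J3 F ω)) e1
      simpa [mul_assoc] using this.symm
    let f : N → Fin 18 × C := fun n => (jN n, ⟨_, hmem n⟩)
    have hf : Function.Injective f := fun n n' e => by
      obtain ⟨e1, e2⟩ := Prod.mk.inj e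
      have e3 := congrArg Subtype.val e2
      simp only [e1] at e3
      exact Subtype.ext (mul_left_cancel e3)
    refine (Nat.card_le_card_of_injective f hf).trans ?_
    rw [Nat.card_prod, Nat.card_fin]
    omega
  have hbN : b ∈ N := by
    have hle : P.map (MulAut.conj b).toMonoidHom = P := by
      refine Subgroup.eq_of_le_of_card_ge ?_ (by rw [Subgroup.card_map_of_injective (MulAut.conj b).injective])
      rw [MonoidHom.map_zpowers, Subgroup.zpowers_le]
      show b * c * b⁻¹ ∈ P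
      rw [hbc]
      exact Subgroup.pow_mem _ (Subgroup.mem_zpowers c) 4
    refine Subgroup.mem_normalizer_iff.2 fun u => ?_
    constructor
    · intro hu; rw [← hle]; exact ⟨u, hu, rfl⟩
    · intro hu
      rw [← hle] at hu
      obtain ⟨v, hv, e⟩ := hu
      rwa [← (MulAut.conj b).injective e]
  have hdvd : 171 ∣ Nat.card N := by
    have h1 : 19 ∣ Nat.card N := by
      have := orderOf_dvd_natCard (⟨c, Subgroup.le_normalizer (Subgroup.mem_zpowers c)⟩ : N)
      rwa [Subgroup.orderOf_mk, o19] at this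
    have h2 : 9 ∣ Nat.card N := by
      have := orderOf_dvd_natCard (⟨b, hbN⟩ : N)
      rwa [Subgroup.orderOf_mk, o9] at this
    exact Nat.Coprime.mul_dvd_of_dvd_of_dvd (by norm_num : Nat.Coprime 19 9) h1 h2
  have hN : Nat.card N = 171 := by
    let S : Sylow 19 (J3 F ω) := Sylow.ofCard P (by
      rw [Nat.card_zpowers, o19, hJ, show (50232960 : ℕ) = 19 ^ 1 * 2643840 by norm_num,
        Nat.factorization_mul (by norm_num) (by norm_num), Finsupp.add_apply,
        Nat.Prime.factorization_pow (by norm_num : Nat.Prime 19), Finsupp.single_eq_same,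
        Nat.factorization_eq_zero_of_not_dvd (by norm_num)]
      norm_num)
    have hs := card_sylow_modEq_one 19 (J3 F ω)
    rw [Sylow.card_eq_index_normalizer S] at hs
    have hmul := N.card_mul_index
    rw [hJ] at hmul
    obtain ⟨m, hm⟩ := hdvd
    have hs' : N.index % 19 = 1 := hs
    rw [hm] at hmul hNle ⊢
    have hm18 : m ≤ 18 := by omega
    interval_cases m <;> omega
  -- every element of the normaliser
  have hconj : ∀ j : ℕ, b ^ j * c * (b ^ j)⁻¹ = c ^ (4 ^ j) := fun j => by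
    induction j with
    | zero => simp
    | succ j ih =>
      have : b ^ (j + 1) * c * (b ^ (j + 1))⁻¹ = b * (b ^ j * c * (b ^ j)⁻¹) * b⁻¹ := by rw [pow_succ']; group
      rw [this, ih, ← conj_pow, hbc, ← pow_mul, pow_succ']
  have hpinj : ∀ {p q : ℕ}, c ^ p = c ^ q → p % 19 = q % 19 := fun h => by
    have := pow_eq_pow_iff_modEq.1 h
    rw [o19] at this
    exact this
  let f : Fin 19 × Fin 9 → N := fun p =>
    ⟨c ^ (p.1 : ℕ) * b ^ (p.2 : ℕ), mul_mem (pow_mem (Subgroup.le_normalizer (Subgroup.mem_zpowers c)) _) (pow_mem hbN _)⟩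
  have hact : ∀ p, (f p : J3 F ω) * c * (f p : J3 F ω)⁻¹ = c ^ (4 ^ (p.2 : ℕ)) := fun p => by
    show c ^ (p.1 : ℕ) * b ^ (p.2 : ℕ) * c * (c ^ (p.1 : ℕ) * b ^ (p.2 : ℕ))⁻¹ = _
    rw [show c ^ (p.1 : ℕ) * b ^ (p.2 : ℕ) * c * (c ^ (p.1 : ℕ) * b ^ (p.2 : ℕ))⁻¹ =
      c ^ (p.1 : ℕ) * (b ^ (p.2 : ℕ) * c * (b ^ (p.2 : ℕ))⁻¹) * (c ^ (p.1 : ℕ))⁻¹ by group, hconj,
      ← pow_add, Nat.add_comm, pow_add, mul_inv_cancel_right]
  have h4 : ∀ j j' : Fin 9, 4 ^ (j : ℕ) % 19 = 4 ^ (j' : ℕ) % 19 → j = j' := by decide +kernel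
  have hf : Function.Injective f := fun p p' e => by
    have h2 : p.2 = p'.2 := h4 _ _ (hpinj ((hact p).symm.trans (e ▸ hact p')))
    have h1 := congrArg Subtype.val e
    simp only [f, h2, mul_right_cancel_iff] at h1
    have := hpinj h1
    rw [Nat.mod_eq_of_lt p.1.2, Nat.mod_eq_of_lt p'.1.2] at this
    exact Prod.ext (Fin.ext this) h2
  have hsurj : Function.Surjective f :=
    ((Nat.bijective_iff_injective_and_card f).2 ⟨hf, by rw [Nat.card_prod, Nat.card_fin, Nat.card_fin, hN]⟩).2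
  have hyN : y ∈ N := by
    refine Subgroup.mem_normalizer_iff.2 fun u => ?_
    have hcy : Commute y c := hy
    constructor
    · intro hu
      obtain ⟨n, rfl⟩ := Subgroup.mem_zpowers_iff.1 hu
      rw [(hcy.zpow_right n).eq, mul_inv_cancel_right]
      exact Subgroup.zpow_mem _ (Subgroup.mem_zpowers c) n
    · intro hu
      obtain ⟨n, hn⟩ := Subgroup.mem_zpowers_iff.1 hu
      have : u = c ^ n := by
        have h := congrArg (fun v => y⁻¹ * v * y) hn
        simpa [mul_assoc, (hcy.zpow_right n).inv_left.eq] using h.symm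
      rw [this]
      exact Subgroup.zpow_mem _ (Subgroup.mem_zpowers c) n
  obtain ⟨p, hp⟩ := hsurj ⟨y, hyN⟩
  have hy' : (f p : J3 F ω) = y := congrArg Subtype.val hp
  have h0 := hact p
  rw [hy', hy, mul_inv_cancel_right] at h0
  have := hpinj ((pow_one c).trans h0)
  have hj : p.2 = 0 := h4 _ _ (by simpa using this.symm)
  refine ⟨p.1, ?_⟩
  rw [← hy']
  show c ^ (p.1 : ℕ) * b ^ (p.2 : ℕ) = _
  rw [hj]
  simp

theorem three_gen : Subgroup.closure {g : J3 F ω | ∃ n < 3, g = QuotientGroup.mk (genT ω n)} = ⊤ := by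
  classical
  set K := Subgroup.closure {g : J3 F ω | ∃ n < 3, g = QuotientGroup.mk (genT ω n)}
  have hw := outWords_ok
  simp only [Bool.and_eq_true, List.any_eq_true, List.all_eq_true, List.mem_range, Nat.beq_eq, List.mem_append, Nat.blt,
    Nat.ble_eq] at hw
  obtain ⟨⟨⟨r, hr, eA⟩, ⟨s, hs, eB⟩⟩, hlt⟩ := hw
  have key : ∀ (w : List ℕ) (G : ℕ) (r : ℕ), (∀ n ∈ w, n < 3) →
      mmul (powC scal r) (wordC (tripC 1 outX.1 outX.2) w) = G →
      ∀ g : threeJ3 F ω, valT g = toM ω G → (QuotientGroup.mk g : J3 F ω) ∈ K := by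
    intro w G r hw hG g hg
    obtain ⟨e, he, ev⟩ := word_val H (genT_val hF H) w hw
    have hgw : (QuotientGroup.mk g : J3 F ω) = QuotientGroup.mk (w.map (genT ω)).prod := by
      refine mk_eq_of_smul (e := ω ^ r * e⁻¹) ?_
      rw [hg, ← hG, toM_scalMul H, ev, smul_smul, inv_mul_cancel_right₀ he]
    have hmap : ∀ (w : List ℕ), (∀ n ∈ w, n < 3) → (QuotientGroup.mk (w.map (genT ω)).prod : J3 F ω) ∈ K := by
      intro w
      induction w with
      | nil => intro; exact one_mem K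
      | cons i w ih =>
        intro h
        rw [List.map_cons, List.prod_cons, QuotientGroup.mk_mul]
        exact mul_mem (Subgroup.subset_closure ⟨i, h i (List.mem_cons_self ..), rfl⟩)
          (ih fun n hn => h n (List.mem_cons_of_mem _ hn))
    rw [hgw]
    exact hmap w hw
  refine top_le_iff.1 fun q _ => ?_
  obtain ⟨g, rfl⟩ := QuotientGroup.mk_surjective q
  have hle : Γ0 H ≤ (K.comap (QuotientGroup.mk' _)).map (threeJ3 F ω).subtype := by
    refine (Subgroup.closure_le _).2 ?_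
    rintro x (rfl | rfl)
    · have hv : valT (⟨gEl H 0, gEl_mem H (i := 0) (by norm_num)⟩ : threeJ3 F ω) = toM ω genA :=
        (gEl_val H (i := 0) (by norm_num)).trans (congrArg (toM ω) (show gC 0 = genA from rfl))
      exact ⟨⟨gEl H 0, gEl_mem H (i := 0) (by norm_num)⟩, key outWA genA r (fun n hn => hlt n (Or.inl hn)) eA _ hv, rfl⟩
    · have hv : valT (⟨gEl H 1, gEl_mem H (i := 1) (by norm_num)⟩ : threeJ3 F ω) = toM ω genB :=
        (gEl_val H (i := 1) (by norm_num)).trans (congrArg (toM ω) (show gC 1 = genB from rfl))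
      exact ⟨⟨gEl H 1, gEl_mem H (i := 1) (by norm_num)⟩, key outWB genB s (fun n hn => hlt n (Or.inr hn)) eB _ hv, rfl⟩
  obtain ⟨y, hy, e⟩ := hle (show (g : GL F9 F) ∈ Γ0 H by rw [Γ0_eq H]; exact g.2)
  exact (Subtype.ext e : y = g) ▸ hy

/-- The normalised automorphisms. -/
def NormAut (β : MulAut (J3 F ω)) : Prop :=
  ∃ t ∈ outGood, β (QuotientGroup.mk (genT ω 0)) = (QuotientGroup.mk (genT ω 0) : J3 F ω) ^ t.1 ∧
    β (QuotientGroup.mk (genT ω 1)) = QuotientGroup.mk (genT ω 1) ∧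
    ∃ (y : threeJ3 F ω) (e : F), e ≠ 0 ∧ (QuotientGroup.mk y : J3 F ω) = β (QuotientGroup.mk (genT ω 2)) ∧
      valT y = e • toM ω (cC t.2.1 t.2.2)

/-- Every automorphism is normalised by an inner one. -/
theorem exists_normAut (α : MulAut (J3 F ω)) : ∃ g : J3 F ω, NormAut (MulAut.conj g * α) := by
  classical
  haveI : Fact (Nat.Prime 19) := ⟨by norm_num⟩
  haveI : Finite (J3 F ω) := Nat.finite_of_card_ne_zero (by rw [card_J3 hF H]; norm_num)
  obtain ⟨o19, o9⟩ := orders hF H
  obtain ⟨hh, hc, hx, -⟩ := out_facts hF H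
  set c : J3 F ω := QuotientGroup.mk (genT ω 0)
  set b : J3 F ω := QuotientGroup.mk (genT ω 1)
  have o19 : orderOf c = 19 := o19
  have o9 : orderOf b = 9 := o9
  have hbc : b * c * b⁻¹ = c ^ 4 := by
    show QuotientGroup.mk _ * QuotientGroup.mk _ * (QuotientGroup.mk _)⁻¹ = (QuotientGroup.mk _ : J3 F ω) ^ 4
    rw [← QuotientGroup.mk_inv, ← QuotientGroup.mk_mul, ← QuotientGroup.mk_mul, ← QuotientGroup.mk_pow]
    exact congrArg _ (conj_rel hF H)
  have hc19 : c ^ 19 = 1 := by
    have := pow_orderOf_eq_one c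
    rwa [show orderOf c = 19 from o19] at this
  have hcm : ∀ n : ℕ, c ^ n = c ^ (n % 19) := fun n => (pow_eq_pow_mod n hc19)
  -- move the image of the first generator
  obtain ⟨g1, k, hk, hg1⟩ : ∃ g1 : J3 F ω, ∃ k : ℕ, (k = 1 ∨ k = 2) ∧ g1 * α c * g1⁻¹ = c ^ k := by
    have hp : ∀ u : J3 F ω, orderOf u = 19 → Nat.card (Subgroup.zpowers u) =
        19 ^ (Nat.card (J3 F ω)).factorization 19 := fun u hu => by
      rw [Nat.card_zpowers, hu, card_J3 hF H, show (50232960 : ℕ) = 19 ^ 1 * 2643840 by norm_num,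
        Nat.factorization_mul (by norm_num) (by norm_num), Finsupp.add_apply,
        Nat.Prime.factorization_pow (by norm_num : Nat.Prime 19), Finsupp.single_eq_same,
        Nat.factorization_eq_zero_of_not_dvd (by norm_num)]
      norm_num
    let S : Sylow 19 (J3 F ω) := Sylow.ofCard (Subgroup.zpowers c) (hp c o19)
    let T : Sylow 19 (J3 F ω) := Sylow.ofCard (Subgroup.zpowers (α c)) (hp _ (by rw [MulEquiv.orderOf_eq]; exact o19))
    obtain ⟨g, hg⟩ := MulAction.exists_smul_eq (J3 F ω) T S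
    have hm : g * α c * g⁻¹ ∈ Subgroup.zpowers c := by
      have h : MulAut.conj g • α c ∈ ((g • T : Sylow 19 (J3 F ω)) : Subgroup (J3 F ω)) :=
        Subgroup.smul_mem_pointwise_smul _ _ _ (Subgroup.mem_zpowers (α c))
      rw [hg] at h
      exact h
    obtain ⟨m, hm⟩ := (Submonoid.mem_powers_iff _ _).1 (mem_powers_iff_mem_zpowers.2 hm)
    have hm0 : m % 19 ≠ 0 := fun e => by
      have e1 : c ^ m = 1 := by rw [hcm, e, pow_zero]
      have e2 : α c = 1 := conj_eq_one_iff.1 (hm.symm.trans e1)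
      have := MulEquiv.map_eq_one_iff α |>.1 e2
      rw [this, orderOf_one] at o19
      omega
    have hsel : ∀ m : Fin 19, (m : ℕ) ≠ 0 → ∃ a : Fin 9, 4 ^ (a : ℕ) * (m : ℕ) % 19 = 1 ∨ 4 ^ (a : ℕ) * (m : ℕ) % 19 = 2 := by
      decide +kernel
    obtain ⟨a, ha⟩ := hsel ⟨m % 19, Nat.mod_lt _ (by norm_num)⟩ hm0
    have hconj : ∀ j : ℕ, b ^ j * c * (b ^ j)⁻¹ = c ^ (4 ^ j) := fun j => by
      induction j with
      | zero => simp
      | succ j ih =>
        have : b ^ (j + 1) * c * (b ^ (j + 1))⁻¹ = b * (b ^ j * c * (b ^ j)⁻¹) * b⁻¹ := by rw [pow_succ']; group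
        rw [this, ih, ← conj_pow, hbc, ← pow_mul, pow_succ']
    refine ⟨b ^ (a : ℕ) * g, 4 ^ (a : ℕ) * (m % 19) % 19, ha, ?_⟩
    rw [show b ^ (a : ℕ) * g * α c * (b ^ (a : ℕ) * g)⁻¹ = b ^ (a : ℕ) * (g * α c * g⁻¹) * (b ^ (a : ℕ))⁻¹ by group,
      ← hm, hcm m, ← conj_pow, hconj, ← pow_mul, ← hcm]
  set β1 : MulAut (J3 F ω) := MulAut.conj g1 * α
  have hβc : β1 c = c ^ k := hg1
  -- the image of the second generator
  have hyc : β1 b * c * (β1 b)⁻¹ = c ^ 4 := by
    have e1 := congrArg β1 hbc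
    rw [map_mul, map_mul, map_inv, map_pow, hβc, ← conj_pow, ← pow_mul] at e1
    rcases hk with rfl | rfl
    · simpa using e1
    · have e2 := congrArg (· ^ 10) e1
      simp only [conj_pow, ← pow_mul] at e2
      rw [hcm (2 * 10), hcm (2 * 4 * 10)] at e2
      simpa using e2
  have hcom : (b⁻¹ * β1 b) * c = c * (b⁻¹ * β1 b) := by
    have e1 : β1 b * c = b * c * b⁻¹ * β1 b := by
      rw [hbc, ← hyc, inv_mul_cancel_right]
    rw [mul_assoc, e1]; group
  obtain ⟨i, hi'⟩ := centralizer_nineteen hF H hcom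
  have hi : b⁻¹ * β1 b = c ^ i := hi'
  set g2 : J3 F ω := c ^ (14 * i) * g1
  set β : MulAut (J3 F ω) := MulAut.conj g2 * α
  have hβ : ∀ u, β u = c ^ (14 * i) * β1 u * (c ^ (14 * i))⁻¹ := fun u => by
    show g2 * α u * g2⁻¹ = c ^ (14 * i) * (g1 * α u * g1⁻¹) * (c ^ (14 * i))⁻¹
    simp only [g2]; group
  have hc' : β c = c ^ k := by rw [hβ, hβc, ← pow_add, Nat.add_comm, pow_add, mul_inv_cancel_right]
  have hb' : β b = b := by
    rw [hβ, show β1 b = b * c ^ i by rw [← hi, mul_inv_cancel_left]]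
    have e4 : c ^ (14 * i) * b = b * c ^ (5 * (14 * i)) := by
      have h5 : b⁻¹ * c * b = c ^ 5 := by
        have := congrArg (fun v => b⁻¹ * v * b) (show b * c ^ 5 * b⁻¹ = c by
          rw [← conj_pow, hbc, ← pow_mul, hcm]; simp)
        simpa [mul_assoc] using this.symm
      have h6 : b⁻¹ * c ^ (14 * i) * b = c ^ (5 * (14 * i)) := by
        rw [pow_mul c 5, ← h5]
        have := conj_pow (a := b⁻¹) (b := c) (i := 14 * i)
        rw [inv_inv] at this
        exact this.symm
      rw [← h6]; group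
    rw [← mul_assoc, e4, mul_assoc b, ← pow_add, mul_assoc b, ← pow_sub c (by omega),
      show 5 * (14 * i) + i - 14 * i = 19 * (3 * i) by omega, pow_mul, hc19, one_pow, mul_one]
  -- the image of the third generator
  set x : J3 F ω := QuotientGroup.mk (genT ω 2)
  have hxb : x * b = b * x := by
    obtain ⟨hX1, hX2⟩ : outX.1 < 3 ∧ outX.2 < 9 := by decide
    have e : valT (genT ω 2) * toM ω outH = toM ω (twC outX.1) * valT (genT ω 2) := by
      show valT (elT ω (cC outX.1 outX.2)) * toM ω outH = _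
      have hn : mmul (cC outX.1 outX.2) outH = mmul (twC outX.1) (cC outX.1 outX.2) := by decide +kernel
      show valT (elT ω (cC outX.1 outX.2)) * toM ω outH = toM ω (twC outX.1) * valT (elT ω (cC outX.1 outX.2))
      rw [elT_val hx, ← toM_mmul H.two H.omega, ← toM_mmul H.two H.omega, hn]
    show QuotientGroup.mk _ * QuotientGroup.mk _ = (QuotientGroup.mk _ * QuotientGroup.mk _ : J3 F ω)
    rw [← QuotientGroup.mk_mul, ← QuotientGroup.mk_mul]
    refine mk_eq_of_smul (e := ω ^ outX.1) ?_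
    rw [valT_mul, valT_mul, show valT (genT ω 1) = _ from elT_val hh, e, toM_twC H, Matrix.smul_mul]
  obtain ⟨y, hy⟩ := QuotientGroup.mk_surjective (β x)
  have hyb : (QuotientGroup.mk y : J3 F ω) * b = b * QuotientGroup.mk y := by
    have := congrArg β hxb
    rwa [map_mul, map_mul, hb', ← hy] at this
  have hz : ((genT ω 1 : threeJ3 F ω) * y)⁻¹ * (y * genT ω 1) ∈ Subgroup.center ↥(threeJ3 F ω) := by
    rw [← QuotientGroup.eq, QuotientGroup.mk_mul, QuotientGroup.mk_mul]
    exact hyb.symm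
  obtain ⟨e, he, ez⟩ := center_scalar H hz
  obtain ⟨m, hm, rfl⟩ := pow_of_ne_zero hF H he
  have htw : valT y * toM ω outH = toM ω (twC m) * valT y := by
    have e1 : y * genT ω 1 = genT ω 1 * y * (((genT ω 1 : threeJ3 F ω) * y)⁻¹ * (y * genT ω 1)) :=
      (mul_inv_cancel_left _ _).symm
    have e2 := congrArg valT e1
    rw [valT_mul, valT_mul (genT ω 1 * y), show valT _ = ω ^ m • (1 : Matrix F9 F9 F) from ez, valT_mul,
      show valT (genT ω 1) = _ from elT_val hh, Matrix.mul_smul, mul_one] at e2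
    rw [e2, toM_twC H, Matrix.smul_mul]
  obtain ⟨n, hn, e', he', ey⟩ := twist_mem hF H hm htw
  -- exclude the other candidates
  have hgood : (k, m, n) ∈ outGood := by
    have hx' := outExcl_ok
    simp only [List.all_eq_true, List.mem_range, Bool.or_eq_true, List.any_eq_true, Bool.and_eq_true, Nat.beq_eq] at hx'
    have hk' : k - 1 < 2 := by omega
    rcases hx' (k - 1) hk' m hm n hn with ⟨t, ht, ⟨e1, e2⟩, e3⟩ | hexc
    · rwa [show (k, m, n) = t by ext <;> simp <;> omega]
    exfalso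
    rw [show k - 1 + 1 = k by omega] at hexc
    simp only [exclB, force_eq, List.any_eq_true, Bool.and_eq_true, Bool.not_eq_true', Nat.blt, Nat.ble_eq] at hexc
    obtain ⟨w, hw, hns, hlt⟩ := hexc
    have hrel := outRels_ok
    simp only [List.all_eq_true, Bool.and_eq_true, scalB, List.any_eq_true, List.mem_range, Nat.beq_eq, Nat.blt,
      Nat.ble_eq] at hrel
    obtain ⟨⟨r, hr, er⟩, hwlt⟩ := hrel w hw
    obtain ⟨d, hd, ev⟩ := word_val H (genT_val hF H) w hwlt
    have hone : (QuotientGroup.mk (w.map (genT ω)).prod : J3 F ω) = 1 := by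
      refine (QuotientGroup.eq_one_iff _).2 (mem_center_of_smul (e := d * ω ^ r) ?_)
      rw [ev, er, toM_powC H, toM_scal, smul_pow, one_pow, smul_smul]
    let f' : ℕ → threeJ3 F ω := fun q => bif Nat.beq q 0 then genT ω 0 ^ k else bif Nat.beq q 1 then genT ω 1 else y
    have hf' : ∀ q < 3, ∃ e : F, e ≠ 0 ∧ valT (f' q) = e • toM ω (tripC k m n q) := by
      intro q hq
      interval_cases q
      · refine ⟨1, one_ne_zero, ?_⟩
        show valT (genT ω 0 ^ k) = (1 : F) • toM ω (powC elN19 k)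
        rw [one_smul, toM_powC H, ← elT_val hc]
        simp [valT, SubmonoidClass.coe_pow, genT]
      · exact ⟨1, one_ne_zero, (elT_val hh).trans (one_smul F _).symm⟩
      · exact ⟨e', he', ey⟩
    obtain ⟨d', hd', ev'⟩ := word_val H hf' w hwlt
    have hmap : (QuotientGroup.mk (w.map f').prod : J3 F ω) = 1 := by
      have hmk : ∀ (f : ℕ → threeJ3 F ω), (QuotientGroup.mk (w.map f).prod : J3 F ω) =
          (w.map fun q => (QuotientGroup.mk (f q) : J3 F ω)).prod := fun f => by
        rw [← QuotientGroup.mk'_apply, map_list_prod, List.map_map]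
        rfl
      rw [hmk, ← map_word (φ := β.toMonoidHom) (f := fun q => (QuotientGroup.mk (genT ω q) : J3 F ω))
        (f' := fun q => (QuotientGroup.mk (f' q) : J3 F ω)) (N := 3) ?_ w hwlt, ← hmk, hone, map_one]
      intro q hq
      interval_cases q
      · show β c = QuotientGroup.mk (genT ω 0 ^ k)
        rw [hc', QuotientGroup.mk_pow]
      · exact hb'
      · exact hy.symm
    obtain ⟨e'', he'', ec⟩ := center_scalar H ((QuotientGroup.eq_one_iff _).1 hmap)
    rw [show valT _ = e'' • (1 : Matrix F9 F9 F) from ec] at ev'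
    obtain ⟨r', hr', er'⟩ := pow_of_ne_zero hF H (mul_ne_zero (inv_ne_zero hd') he'')
    have e1 : toM ω (wordC (tripC k m n) w) = toM ω (powC scal r') := by
      have := congrArg (fun M => d'⁻¹ • M) ev'
      simp only [smul_smul, inv_mul_cancel₀ hd', one_smul] at this
      rw [← this, er', toM_powC H, toM_scal, smul_pow, one_pow]
    have hlt' : powC scal r' < 2 ^ 162 := by interval_cases r' <;> decide +kernel
    rw [scalB, ← Bool.not_eq_true, List.any_eq_true] at hns
    exact hns ⟨r', List.mem_range.2 hr', Nat.beq_eq.mpr (toM_inj H hlt hlt' e1)⟩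
  exact ⟨g2, (k, m, n), hgood, hc', hb', y, e', he', hy, ey⟩

/-- There are at most two normalised automorphisms. -/
theorem card_normAut : Finite {β : MulAut (J3 F ω) // NormAut β} ∧
    Nat.card {β : MulAut (J3 F ω) // NormAut β} ≤ 2 := by
  classical
  let idx : {β : MulAut (J3 F ω) // NormAut β} → Fin outGood.length := fun β =>
    ⟨outGood.idxOf β.2.choose, List.idxOf_lt_length_iff.2 β.2.choose_spec.1⟩
  have hinj : Function.Injective idx := by
    intro β γ e
    obtain ⟨s, hs, hs0, hs1, y, e1, he1, hy, ey⟩ :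
        ∃ t, t = β.2.choose ∧ _ := ⟨_, rfl, β.2.choose_spec.2⟩
    obtain ⟨t, ht, ht0, ht1, z, e2, he2, hz, ez⟩ :
        ∃ t, t = γ.2.choose ∧ _ := ⟨_, rfl, γ.2.choose_spec.2⟩
    have hst : β.2.choose = γ.2.choose := (List.idxOf_inj β.2.choose_spec.1).1 (congrArg Fin.val e)
    subst hs; subst ht
    refine Subtype.ext (MulEquiv.toMonoidHom_injective (MonoidHom.eq_of_eqOn_dense (three_gen hF H) ?_))
    rintro _ ⟨n, hn, rfl⟩
    show (β : MulAut (J3 F ω)) _ = (γ : MulAut (J3 F ω)) _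
    interval_cases n
    · rw [hs0, ht0, hst]
    · rw [hs1, ht1]
    · rw [← hy, ← hz]
      refine mk_eq_of_smul (e := e1 * e2⁻¹) ?_
      rw [ey, ez, hst, smul_smul, inv_mul_cancel_right₀ he2]
  haveI := Finite.of_injective idx hinj
  exact ⟨inferInstance, (Nat.card_le_card_of_injective idx hinj).trans_eq (by rw [Nat.card_fin, outGood_ok])⟩

theorem exists_outer : ∃ α : MulAut (J3 F ω), α ∉ Cfsg.Inn (J3 F ω) := by
  classical
  haveI : Finite (threeJ3 F ω) := Nat.finite_of_card_ne_zero (by rw [card_threeJ3 H]; norm_num)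
  haveI : CharP F 2 := CharTwo.of_one_ne_zero_of_two_eq_zero one_ne_zero H.two
  let P : F9 ≃ F9 := (Equiv.refl (ZMod 3)).prodCongr (Equiv.neg (ZMod 3))
  let s : Matrix F9 F9 F →* Matrix F9 F9 F :=
    (Matrix.reindexAlgEquiv F F P).toMonoidHom.comp (frobenius F 2).mapMatrix.toMonoidHom
  let f : GL F9 F →* GL F9 F := Units.map s
  have hs : ∀ M MS : ℕ, sigB M MS = true → s (toM ω M) = toM ω MS := by
    intro M MS h
    have h1 := of_decide_eq_true h
    ext i j
    have hP : ∀ z : F9, sigPos (P.symm z) = z := by decide +kernel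
    have := h1 (P.symm i) (P.symm j)
    rw [hP, hP] at this
    simp only [Prod.mk.injEq] at this
    show (frobenius F 2) (toM ω M (P.symm i) (P.symm j)) = toM ω MS i j
    rw [frobenius_def]
    simp only [toM, Matrix.of_apply, this.1, this.2]
    rw [sq_valF H]
  have hsig := outSig_ok
  simp only [Bool.and_eq_true, Nat.beq_eq] at hsig
  have hw := outH_ok
  simp only [Bool.and_eq_true] at hw
  have hmaps : threeJ3 F ω ≤ (threeJ3 F ω).comap f := by
    conv_lhs => rw [← Γ0_eq H]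
    refine (Subgroup.closure_le _).2 ?_
    have key : ∀ {i G : ℕ}, i < 2 → Has ω (threeJ3 F ω) G → sigB (gC i) G = true → f (gEl H i) ∈ threeJ3 F ω := by
      intro i G hi hG hb
      obtain ⟨g, hg, eg⟩ := hG
      have : f (gEl H i) = g := Units.ext (by
        show s (gEl H i : Matrix F9 F9 F) = _
        rw [gEl_val H hi, hs _ _ hb, eg])
      rw [this]; exact hg
    rintro x (rfl | rfl)
    · exact key (by norm_num) (Has.of_wit H hw.1.1.2) hsig.1.1.1
    · exact key (by norm_num) (Has.of_wit H hw.1.2) hsig.1.1.2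
  let φ : threeJ3 F ω →* threeJ3 F ω := (f.comp (threeJ3 F ω).subtype).codRestrict _ fun g => hmaps g.2
  have hsinj : Function.Injective s := by
    intro A B h
    have h' : (frobenius F 2).mapMatrix A = (frobenius F 2).mapMatrix B :=
      (Matrix.reindexAlgEquiv F F P).injective h
    ext i j
    exact frobenius_inj F 2 (congrFun (congrFun h' i) j)
  have hφinj : Function.Injective φ := fun g g' h =>
    valT_inj (hsinj (congrArg valT h))
  let Φ : threeJ3 F ω ≃* threeJ3 F ω :=
    MulEquiv.ofBijective φ ⟨hφinj, Finite.injective_iff_surjective.1 hφinj⟩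
  have hΦZ : (Subgroup.center ↥(threeJ3 F ω)).map (Φ : threeJ3 F ω →* threeJ3 F ω) = Subgroup.center ↥(threeJ3 F ω) := by
    ext x
    constructor
    · rintro ⟨y, hy, rfl⟩
      refine Subgroup.mem_center_iff.2 fun z => ?_
      obtain ⟨w, rfl⟩ := Φ.surjective z
      exact (map_mul Φ w y).symm.trans ((congrArg Φ (Subgroup.mem_center_iff.1 hy w)).trans (map_mul Φ y w))
    · intro hx
      obtain ⟨y, rfl⟩ := Φ.surjective x
      exact ⟨y, Subgroup.mem_center_iff.2 fun w => Φ.injective (by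
        rw [map_mul, map_mul]; exact Subgroup.mem_center_iff.1 hx (Φ w)), rfl⟩
  refine ⟨QuotientGroup.congr _ _ Φ hΦZ, ?_⟩
  rintro ⟨x, hx⟩
  obtain ⟨g, rfl⟩ := QuotientGroup.mk_surjective x
  have hZ : ∀ u : threeJ3 F ω, (g * u * g⁻¹)⁻¹ * Φ u ∈ Subgroup.center ↥(threeJ3 F ω) := fun u => by
    rw [← QuotientGroup.eq]
    have := DFunLike.congr_fun hx (QuotientGroup.mk u : J3 F ω)
    rw [QuotientGroup.congr_mk, MulAut.conj_apply] at this
    rw [QuotientGroup.mk_mul, QuotientGroup.mk_mul, QuotientGroup.mk_inv]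
    exact this
  let E : Subgroup (threeJ3 F ω) := MonoidHom.eqLocus Φ.toMonoidHom (MulAut.conj g).toMonoidHom
  have h17 : ∀ u : threeJ3 F ω, u ^ 17 = 1 → u ∈ E := by
    intro u hu
    have hz3 := center_cube hF H (hZ u)
    have hz17 : ((g * u * g⁻¹)⁻¹ * Φ u) ^ 17 = 1 := by
      have hc : Commute (g * u * g⁻¹)⁻¹ (Φ u) := by
        have hcz : (g * u * g⁻¹) * ((g * u * g⁻¹)⁻¹ * Φ u) = ((g * u * g⁻¹)⁻¹ * Φ u) * (g * u * g⁻¹) :=
          Subgroup.mem_center_iff.1 (hZ u) _
        rw [mul_inv_cancel_left] at hcz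
        show (g * u * g⁻¹)⁻¹ * Φ u = Φ u * (g * u * g⁻¹)⁻¹
        rw [eq_mul_inv_iff_mul_eq]
        exact hcz.symm
      rw [hc.mul_pow, inv_pow, conj_pow, ← map_pow, hu, map_one, mul_one, mul_one, mul_inv_cancel, inv_one]
    have h1 := pow_gcd_eq_one.2 ⟨hz3, hz17⟩
    rw [show Nat.gcd 3 17 = 1 from rfl, pow_one, inv_mul_eq_one] at h1
    exact h1.symm
  have htop : E = ⊤ := top_le_iff.1 (gen_seventeen H ▸ (Subgroup.closure_le _).2 h17)
  obtain ⟨sg, hsg, esg⟩ := (el_has H).2.2.2.2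
  have hm : Φ ⟨sg, hsg⟩ = g * ⟨sg, hsg⟩ * g⁻¹ := (htop ▸ Subgroup.mem_top _ : (⟨sg, hsg⟩ : threeJ3 F ω) ∈ E)
  have hcen : (⟨sg, hsg⟩ : threeJ3 F ω) ∈ Subgroup.center ↥(threeJ3 F ω) :=
    mem_center_of_smul (e := ω) (esg.trans toM_scal)
  rw [Subgroup.mem_center_iff.1 hcen g, mul_inv_cancel_right] at hm
  have e1 : s (toM ω scal) = toM ω scal := by
    have := congrArg valT hm
    rwa [show valT (Φ ⟨sg, hsg⟩) = s (sg : Matrix F9 F9 F) from rfl,
      show valT (⟨sg, hsg⟩ : threeJ3 F ω) = (sg : Matrix F9 F9 F) from rfl, esg] at this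
  rw [hs _ _ hsig.1.2, hsig.2, toM_powC H, toM_scal, smul_pow, one_pow] at e1
  have e2 := congrFun (congrFun e1 0) 0
  simp only [Matrix.smul_apply, Matrix.one_apply_eq, smul_eq_mul, mul_one] at e2
  exact H.ne_one (mul_left_cancel₀ H.ne_zero (by rw [mul_one, ← pow_two, e2]))

/-- The outer automorphism group has order two. -/
theorem card_out : Nat.card (Cfsg.Out (J3 F ω)) = 2 := by
  classical
  obtain ⟨hfin, hle⟩ := card_normAut hF H
  let f : {β : MulAut (J3 F ω) // NormAut β} → Cfsg.Out (J3 F ω) := fun β => QuotientGroup.mk β.1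
  have hf : Function.Surjective f := fun q => by
    obtain ⟨α, rfl⟩ := QuotientGroup.mk_surjective q
    obtain ⟨g, hg⟩ := exists_normAut hF H α
    refine ⟨⟨_, hg⟩, ?_⟩
    show (QuotientGroup.mk (MulAut.conj g * α) : Cfsg.Out (J3 F ω)) = QuotientGroup.mk α
    rw [QuotientGroup.mk_mul, (QuotientGroup.eq_one_iff (N := Cfsg.Inn (J3 F ω)) (MulAut.conj g)).2 ⟨g, rfl⟩, one_mul]
  haveI := Finite.of_surjective f hf
  refine le_antisymm ((Nat.card_le_card_of_surjective f hf).trans hle) ?_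
  obtain ⟨α, hα⟩ := exists_outer hF H
  exact Finite.one_lt_card_iff_nontrivial.2
    ⟨QuotientGroup.mk α, 1, fun e => hα ((QuotientGroup.eq_one_iff α).1 e)⟩

end

end Cfsg.Lib.JThree
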