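import Cfsg.Agent.Lib.JThree.OuterDefs

/-!
Checks of candidates for the twisted centralisers.
-/

set_option autoImplicit false
set_option maxRecDepth 100000

namespace Cfsg.Lib.JThree

theorem cands_ok00 : candsB 0 0 11628 = true := by decide +kernel

end Cfsg.Lib.JThree
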