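import Cfsg.Agent.Lib.JThree.OuterDefs

/-!
Checks for the automorphisms of the third Janko group.
-/

set_option autoImplicit false
set_option maxRecDepth 100000

namespace Cfsg.Lib.JThree

open Cfsg.Lib.Concrete Cfsg.Lib.PermAut

theorem outH_ok : (witB outH outHW && Nat.beq (powC outH 9) oneM && !scalB (powC outH 3) &&
    Nat.beq (mmul outH elN19) (mmul (powC elN19 4) outH) && witB (cC outX.1 outX.2) outXW &&
    Nat.blt (powC outH 3) (2 ^ 162) && witB outSigA outSigAW && witB outSigB outSigBW && witB outSigS outSigSW) = true := by
  decide +kernel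

theorem outSum_ok : Nat.rec 0 (fun n acc => Nat.xor acc (powC elN19 n)) 19 = 0 := by decide +kernel

theorem outBasis_ok : (Nat.beq (mmul outB outBi) oneM && Nat.blt outVec (2 ^ 18) &&
    ((List.range 9).all fun i => Nat.beq (vApp outB (Nat.shiftLeft 1 i)) (vApp (powC outH i) outVec)) &&
    (List.range 3).all fun m => (List.range 3).all fun q => (List.range 64).all fun x =>
      force (mmul (tget 162 (outYTab.getD (Nat.add (Nat.mul 3 m) q) 0) x) outB) fun P =>
        force (Nat.shiftLeft x (Nat.mul 6 q)) fun v =>
          (List.range 9).all fun i => Nat.beq (vApp P (Nat.shiftLeft 1 i)) (vApp (powC (twC m) i) v)) = true := by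
  decide +kernel

theorem outBits_ok : (allBelowB 91 fun a => allBelowB 256 fun b => force (Nat.add (Nat.mul 256 a) b) fun j =>
    !Nat.blt j 23256 || (List.range 3).all fun k => Nat.beq (Nat.land (Nat.shiftRight outBits (smK k (oddC j))) 1) 1) = true := by
  decide +kernel

theorem outTest_ok : (outTest.all fun u => Nat.blt u 23256) = true := by decide +kernel

theorem outVec_odd : (List.range 3).any (fun k => (List.range 23256).any fun j =>
    Nat.beq (smK k (oddC j)) outVec) = true := by decide +kernel

theorem outExcl_ok : ((List.range 2).all fun k => (List.range 3).all fun m => (List.range 9).all fun i =>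
    outGood.any (fun t => Nat.beq t.1 (k + 1) && Nat.beq t.2.1 m && Nat.beq t.2.2 i) || exclB (k + 1) m i) = true := by
  decide +kernel

theorem outRels_ok : (outRels.all fun w => scalB (wordC (tripC 1 outX.1 outX.2) w) && w.all fun i => Nat.blt i 3) = true := by
  decide +kernel

theorem outWords_ok : ((List.range 3).any (fun r => Nat.beq (mmul (powC scal r) (wordC (tripC 1 outX.1 outX.2) outWA)) genA) &&
    (List.range 3).any (fun r => Nat.beq (mmul (powC scal r) (wordC (tripC 1 outX.1 outX.2) outWB)) genB) &&
    (outWA ++ outWB).all fun i => Nat.blt i 3) = true := by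
  decide +kernel

theorem outGood_ok : outGood.length = 2 := by decide +kernel

theorem outSig_ok : (sigB genA outSigA && sigB genB outSigB && sigB scal outSigS && Nat.beq outSigS (powC scal 2)) = true := by
  decide +kernel

end Cfsg.Lib.JThree
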