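import Cfsg.Agent.Lib.JThree.SubDefs
import Cfsg.Agent.Lib.JThree.LineDefs
import Cfsg.Agent.Lib.JThree.OuterData

/-!
# Checks used for the automorphisms of the third Janko group
-/

set_option autoImplicit false

namespace Cfsg.Lib.JThree

open Cfsg.Lib.Concrete Cfsg.Lib.PermAut

/-- The first column of a code as a vector. -/
noncomputable def colC (M : ℕ) : ℕ :=
  Nat.rec 0 (fun i acc => Nat.lor acc (Nat.lor
    (Nat.shiftLeft (Nat.land (Nat.shiftRight M (Nat.mul 9 i)) 1) i)
    (Nat.shiftLeft (Nat.land (Nat.shiftRight M (Nat.add 81 (Nat.mul 9 i))) 1) (Nat.add 9 i)))) 9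

/-- The image of a vector under a code. -/
noncomputable def vApp (M v : ℕ) : ℕ := colC (mmul M (embC v))

/-- The twisted element. -/
noncomputable def twC (m : ℕ) : ℕ := mmul (powC scal m) outH

/-- A candidate for a twisted centraliser. -/
noncomputable def yC (m v : ℕ) : ℕ :=
  Nat.xor (tget 162 (outYTab.getD (Nat.mul 3 m) 0) (Nat.land v 63))
    (Nat.xor (tget 162 (outYTab.getD (Nat.add (Nat.mul 3 m) 1) 0) (Nat.land (Nat.shiftRight v 6) 63))
      (tget 162 (outYTab.getD (Nat.add (Nat.mul 3 m) 2) 0) (Nat.shiftRight v 12)))

/-- An element of a twisted centraliser. -/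
def cC (m i : ℕ) : ℕ := (outCent.getD m []).getD i 0

/-- One candidate is listed or does not preserve the first orbit. -/
noncomputable def candB (m j : ℕ) : Bool :=
  force (yC m (oddC j)) fun Y =>
    ((List.range 9).any fun i => (List.range 3).any fun k => Nat.beq Y (mmul (powC scal k) (cC m i))) ||
      outTest.any fun u => Nat.beq (Nat.land (Nat.shiftRight outBits (vApp Y (oddC u))) 1) 0

/-- A range of candidates. -/
noncomputable def candsB (m lo len : ℕ) : Bool :=
  allBelowB len fun k => force (Nat.add lo k) fun j => !Nat.blt j 23256 || candB m j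

/-- The three elements, the last being a candidate. -/
noncomputable def tripC (k m i : ℕ) (n : ℕ) : ℕ :=
  bif Nat.beq n 0 then powC elN19 k else bif Nat.beq n 1 then outH else cC m i

/-- A scalar code. -/
noncomputable def scalB (M : ℕ) : Bool := (List.range 3).any fun r => Nat.beq M (powC scal r)

/-- A relation excludes the candidate. -/
noncomputable def exclB (k m i : ℕ) : Bool :=
  outRels.any fun w => force (wordC (tripC k m i) w) fun W => !scalB W && Nat.blt W (2 ^ 162)

/-- The field automorphism with the permutation of the coordinates, on positions. -/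
def sigPos (z : Cfsg.Spor.F9) : Cfsg.Spor.F9 := (z.1, -z.2)

/-- The code is the image of the other under the field automorphism. -/
def sigB (M MS : ℕ) : Bool :=
  decide (∀ i j : Cfsg.Spor.F9,
    ((loP MS).testBit (9 * iz (sigPos i) + iz (sigPos j)), (hiP MS).testBit (9 * iz (sigPos i) + iz (sigPos j))) =
    (Bool.xor ((loP M).testBit (9 * iz i + iz j)) ((hiP M).testBit (9 * iz i + iz j)),
      (hiP M).testBit (9 * iz i + iz j)))

end Cfsg.Lib.JThree
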