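import Cfsg.Agent.Lib.JThree.Lines
import Cfsg.Agent.Lib.JThree.Invol
import Cfsg.Agent.Lib.JThree.OuterCheck
import Cfsg.Agent.Lib.JThree.OuterCand00
import Cfsg.Agent.Lib.JThree.OuterCand01
import Cfsg.Agent.Lib.JThree.OuterCand10
import Cfsg.Agent.Lib.JThree.OuterCand11
import Cfsg.Agent.Lib.JThree.OuterCand20
import Cfsg.Agent.Lib.JThree.OuterCand21

/-!
# Twisted centralisers of an element of order nine and centralisers of an element of order nineteen
-/

set_option autoImplicit false
set_option maxRecDepth 100000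
set_option linter.style.haveILetI false

namespace Cfsg.Lib.JThree

open Cfsg.Spor Cfsg.Lib.Concrete Cfsg.Lib.PermAut
open scoped Matrix

attribute [local irreducible] mmul tget

variable {F : Type} [Field F] {ω : F}

theorem colC_bit (M : ℕ) : ∀ i < 9, (colC M).testBit i = M.testBit (9 * i) ∧
    (colC M).testBit (9 + i) = M.testBit (81 + 9 * i) := by
  let E : ℕ → ℕ := fun n => Nat.rec 0 (fun i acc => Nat.lor acc (Nat.lor
    (Nat.shiftLeft (Nat.land (Nat.shiftRight M (Nat.mul 9 i)) 1) i)
    (Nat.shiftLeft (Nat.land (Nat.shiftRight M (Nat.add 81 (Nat.mul 9 i))) 1) (Nat.add 9 i)))) n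
  have key : ∀ n ≤ 9, ∀ i < 9, ((E n).testBit i = (decide (i < n) && M.testBit (9 * i))) ∧
      ((E n).testBit (9 + i) = (decide (i < n) && M.testBit (81 + 9 * i))) := by
    intro n hn
    induction n with
    | zero => intro i _; simp [E]
    | succ n ih =>
      intro i hi
      obtain ⟨h1, h2⟩ := ih (by omega) i hi
      have e : E (n + 1) = E n ||| ((M >>> (9 * n) &&& 1) <<< n ||| (M >>> (81 + 9 * n) &&& 1) <<< (9 + n)) := rfl
      have b : ∀ x s p : ℕ, ((x &&& 1) <<< s).testBit p = (decide (p = s) && x.testBit 0) := by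
        intro x s p
        rw [Nat.testBit_shiftLeft, Nat.testBit_and, show (1 : ℕ) = 2 ^ 1 - 1 by norm_num, Nat.testBit_two_pow_sub_one]
        by_cases hp : p = s
        · subst hp; simp
        · rcases Nat.lt_or_ge p s with h | h
          · simp [hp, show ¬ s ≤ p by omega]
          · simp [hp, show ¬ p - s < 1 by omega]
      rw [e, Nat.testBit_or, Nat.testBit_or, Nat.testBit_or, Nat.testBit_or, b, b, b, b, h1, h2,
        Nat.testBit_shiftRight, Nat.testBit_shiftRight, Nat.add_zero, Nat.add_zero]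
      constructor
      · by_cases hin : i = n
        · subst hin
          simp
        · simp [show ¬ i = 9 + n by omega, show i < n + 1 ↔ i < n by omega, hin]
      · by_cases hin : i = n
        · subst hin
          simp
        · simp [show ¬ 9 + i = n by omega, show i < n + 1 ↔ i < n by omega, hin]
  intro i hi
  obtain ⟨h1, h2⟩ := key 9 le_rfl i hi
  exact ⟨h1.trans (by simp [hi]), h2.trans (by simp [hi])⟩

theorem colC_lt (M : ℕ) : colC M < 2 ^ 18 := by
  have key : ∀ n ≤ 9, (Nat.rec 0 (fun i acc => Nat.lor acc (Nat.lor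
      (Nat.shiftLeft (Nat.land (Nat.shiftRight M (Nat.mul 9 i)) 1) i)
      (Nat.shiftLeft (Nat.land (Nat.shiftRight M (Nat.add 81 (Nat.mul 9 i))) 1) (Nat.add 9 i)))) n : ℕ) < 2 ^ 18 := by
    intro n hn
    induction n with
    | zero => norm_num
    | succ n ih =>
      refine Nat.or_lt_two_pow (ih (by omega)) (Nat.or_lt_two_pow ?_ ?_) <;>
      · show _ <<< _ < 2 ^ 18
        rw [Nat.shiftLeft_eq]
        refine lt_of_le_of_lt (Nat.mul_le_mul_right _ Nat.and_le_right) ?_
        rw [one_mul]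
        exact Nat.pow_lt_pow_right (by norm_num) (by first | (simp only [Nat.add_eq]; omega) | omega)
  exact key 9 le_rfl

theorem toV_vApp (H : Hyp F ω) (M v : ℕ) : toV ω (vApp M v) = toM ω M *ᵥ toV ω v := by
  funext z
  obtain ⟨h1, h2⟩ := colC_bit (mmul M (embC v)) (iz z) (iz_lt z)
  show valF ω _ _ = _
  rw [vApp, h1, h2, ← toM_col, toM_mmul H.two H.omega, Matrix.mul_apply]
  simp only [toM_embC, Matrix.mulVec, dotProduct]

theorem unit_ext {A B : Matrix F9 F9 F}
    (h : ∀ i < 9, A *ᵥ toV ω (Nat.shiftLeft 1 i) = B *ᵥ toV ω (Nat.shiftLeft 1 i)) : A = B := by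
  have hb : ∀ z u : F9, (Nat.shiftLeft 1 (iz z)).testBit (iz u) = decide (u = z) ∧
      (Nat.shiftLeft 1 (iz z)).testBit (9 + iz u) = false := by decide +kernel
  have hs : ∀ z : F9, toV ω (Nat.shiftLeft 1 (iz z)) = Pi.single z (1 : F) := fun z => by
    funext u
    simp only [toV, (hb z u).1, (hb z u).2, Pi.single_apply]
    by_cases e : u = z <;> simp [e, valF, bitF]
  ext i z
  have := congrFun (h (iz z) (iz_lt z)) i
  rwa [hs, Matrix.mulVec_single_one, Matrix.mulVec_single_one] at this

theorem toM_xor (H : Hyp F ω) (A B : ℕ) : toM ω (Nat.xor A B) = toM ω A + toM ω B := by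
  ext i j
  have hk : 9 * iz i + iz j < 81 := by have := iz_lt i; have := iz_lt j; omega
  simp only [toM, Matrix.add_apply, Matrix.of_apply]
  rw [← valF_xor H.two]
  show valF ω (((A ^^^ B) &&& (2 ^ 81 - 1)).testBit _) (((A ^^^ B) >>> 81).testBit _) =
    valF ω (Bool.xor ((A &&& (2 ^ 81 - 1)).testBit _) ((B &&& (2 ^ 81 - 1)).testBit _))
      (Bool.xor ((A >>> 81).testBit _) ((B >>> 81).testBit _))
  simp only [Nat.testBit_and, Nat.testBit_xor, Nat.testBit_shiftRight, Nat.testBit_two_pow_sub_one, hk, decide_true,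
    Bool.and_true]

theorem toM_zero : toM ω 0 = 0 := by ext i j; simp [toM, loP, hiP, valF, bitF]

theorem oddC_lt (j : ℕ) : oddC j < 2 ^ 18 := cget_lt _ j

/-- Images of the lines of the first orbit stay in it. -/
theorem odd_closed [Finite (GL F9 F)] (H : Hyp F ω) {g : GL F9 F} (hg : g ∈ threeJ3 F ω) :
    ∀ j < 23256, ∃ j' < 23256, ∃ c : F, c ≠ 0 ∧ (g : Matrix F9 F9 F) *ᵥ toV ω (oddC j) = c • toV ω (oddC j') := by
  have hω0 : ω ≠ 0 := H.ne_zero
  have hg' : g ∈ Submonoid.closure {gEl H 0, gEl H 1} := by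
    rw [← Subgroup.closure_toSubmonoid_of_finite]; show g ∈ Γ0 H; rw [Γ0_eq H]; exact hg
  refine Submonoid.closure_induction_left (motive := fun (g : GL F9 F) _ => ∀ j < 23256, ∃ j' < 23256, ∃ c : F, c ≠ 0 ∧
    (g : Matrix F9 F9 F) *ᵥ toV ω (oddC j) = c • toV ω (oddC j'))
    (fun j hj => ⟨j, hj, 1, one_ne_zero, by rw [Units.val_one, Matrix.one_mulVec, one_smul]⟩) ?_ hg'
  rintro s hs y - ih j0 hj0
  obtain ⟨j, hj, c, hc, e⟩ := ih j0 hj0
  obtain ⟨i, hi, rfl⟩ : ∃ i < 2, s = gEl H i := by
    rcases hs with rfl | rfl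
    exacts [⟨0, by norm_num, rfl⟩, ⟨1, by norm_num, rfl⟩]
  have hi' := (odd_facts.2.2 j hj).2.1 i hi
  simp only [oddImgB, force_eq, Bool.and_eq_true, Nat.beq_eq, Nat.blt, Nat.ble_eq] at hi'
  obtain ⟨⟨hp, hk⟩, ei⟩ := hi'
  refine ⟨_, hp, c * ω ^ Nat.mod (cget 17 (bif Nat.beq i 0 then oddOrbImg0 else oddOrbImg1) j) 4,
    mul_ne_zero hc (pow_ne_zero _ hω0), ?_⟩
  rw [Units.val_mul, ← Matrix.mulVec_mulVec, e, Matrix.mulVec_smul, gEl_val H hi, ← toV_gApp H hi (oddC_lt j), ei,
    toV_smK H (by omega) (oddC_lt _), smul_smul]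

theorem toM_twC (H : Hyp F ω) (m : ℕ) : toM ω (twC m) = ω ^ m • toM ω outH := by
  rw [twC, toM_mmul H.two H.omega, toM_powC H, toM_scal, smul_pow, one_pow, Matrix.smul_mul, one_mul]

theorem toM_scalMul (H : Hyp F ω) (k M : ℕ) : toM ω (mmul (powC scal k) M) = ω ^ k • toM ω M := by
  rw [toM_mmul H.two H.omega, toM_powC H, toM_scal, smul_pow, one_pow, Matrix.smul_mul, one_mul]

section

variable [Fintype F] (hF : Fintype.card F = 4) (H : Hyp F ω)

include hF H

/-- The twisted centralisers of the element of order nine. -/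
theorem twist_mem {m : ℕ} (hm : m < 3) {y : threeJ3 F ω}
    (hy : valT y * toM ω outH = toM ω (twC m) * valT y) :
    ∃ i < 9, ∃ c : F, c ≠ 0 ∧ valT y = c • toM ω (cC m i) := by
  classical
  have hω0 := H.ne_zero
  have hb := outBasis_ok
  simp only [Bool.and_eq_true, Nat.beq_eq, List.all_eq_true, List.mem_range, force_eq, Nat.blt, Nat.ble_eq] at hb
  obtain ⟨⟨⟨hBi, hv⟩, hB⟩, hY⟩ := hb
  -- the image of the vector
  obtain ⟨k0, hk0, j0, hj0, e0⟩ : ∃ k < 3, ∃ j < 23256, smK k (oddC j) = outVec := by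
    have h := outVec_odd
    simp only [List.any_eq_true, List.mem_range, Nat.beq_eq] at h
    exact h
  obtain ⟨j, hj, c, hc, ej⟩ := odd_closed H y.2 j0 hj0
  have hyv : valT y *ᵥ toV ω outVec = (ω ^ k0 * c) • toV ω (oddC j) := by
    rw [← e0, toV_smK H hk0 (oddC_lt _), Matrix.mulVec_smul]
    exact (congrArg (fun v => ω ^ k0 • v) ej).trans (smul_smul ..)
  -- the candidate
  have hcand : ∀ i < 9, (toM ω (yC m (oddC j)) * toM ω outB) *ᵥ toV ω (Nat.shiftLeft 1 i) =
      toM ω (twC m) ^ i *ᵥ toV ω (oddC j) := by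
    intro i hi
    have ht : ∀ q < 3, ∀ x < 64, (toM ω (tget 162 (outYTab.getD (Nat.add (Nat.mul 3 m) q) 0) x) * toM ω outB) *ᵥ
        toV ω (Nat.shiftLeft 1 i) = toM ω (twC m) ^ i *ᵥ toV ω (Nat.shiftLeft x (Nat.mul 6 q)) := fun q hq x hx => by
      have := congrArg (toV ω) (hY m hm q hq x hx i hi)
      rwa [toV_vApp H, toV_vApp H, toM_mmul H.two H.omega, toM_powC H] at this
    have hlt : oddC j >>> 12 < 64 := by
      have := cget_lt oddOrbLines j
      rw [Nat.shiftRight_eq_div_pow, Nat.div_lt_iff_lt_mul (by norm_num)]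
      norm_num; norm_num at this; exact this
    conv_rhs => rw [split_code (oddC_lt j)]
    rw [yC, toM_xor H, toM_xor H, toV_xor H.two, toV_xor H.two, Matrix.add_mul, Matrix.add_mul, Matrix.add_mulVec,
      Matrix.add_mulVec, Matrix.mulVec_add, Matrix.mulVec_add]
    refine congrArg₂ (· + ·) ?_ (congrArg₂ (· + ·) ?_ ?_)
    · exact ht 0 (by norm_num) _ (Nat.lt_succ_of_le Nat.and_le_right)
    · exact ht 1 (by norm_num) _ (Nat.lt_succ_of_le Nat.and_le_right)
    · exact ht 2 (by norm_num) _ hlt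
  have heq : valT y * toM ω outB = ((ω ^ k0 * c) • toM ω (yC m (oddC j))) * toM ω outB := by
    refine unit_ext (ω := ω) fun i hi => ?_
    rw [Matrix.smul_mul, Matrix.smul_mulVec, hcand i hi, ← Matrix.mulVec_mulVec, ← toV_vApp H, hB i hi, toV_vApp H,
      toM_powC H, Matrix.mulVec_mulVec, (SemiconjBy.pow_right (show SemiconjBy (valT y) _ _ from hy) i).eq,
      ← Matrix.mulVec_mulVec, hyv, Matrix.mulVec_smul]
  have hyY : valT y = (ω ^ k0 * c) • toM ω (yC m (oddC j)) := by
    have := congrArg (fun M => M * toM ω outBi) heq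
    simp only [mul_assoc, ← toM_mmul H.two H.omega, hBi, toM_one, mul_one] at this
    exact this
  have hcb : candB m j = true := by
    have h0 := cands_ok00; have h1 := cands_ok01; have h2 := cands_ok10; have h3 := cands_ok11
    have h4 := cands_ok20; have h5 := cands_ok21
    have key : ∀ lo, candsB m lo 11628 = true → lo ≤ j → j < lo + 11628 → candB m j = true := by
      intro lo h h1 h2
      simp only [candsB, allBelowB_iff, force_eq, Bool.or_eq_true, Bool.not_eq_true', Nat.blt, ← Bool.not_eq_true,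
        Nat.ble_eq] at h
      have := h (j - lo) (by omega)
      rw [show Nat.add lo (j - lo) = j by simp only [Nat.add_eq]; omega] at this
      exact this.resolve_left (by omega)
    by_cases hlow : j < 11628
    · interval_cases m
      exacts [key _ h0 (Nat.zero_le _) (by omega), key _ h2 (Nat.zero_le _) (by omega), key _ h4 (Nat.zero_le _) (by omega)]
    · interval_cases m
      exacts [key _ h1 (by omega) (by omega), key _ h3 (by omega) (by omega), key _ h5 (by omega) (by omega)]
  simp only [candB, force_eq, Bool.or_eq_true, List.any_eq_true, List.mem_range, Nat.beq_eq] at hcb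
  rcases hcb with ⟨i, hi, k, hk, e⟩ | ⟨u, hu, e⟩
  · refine ⟨i, hi, ω ^ k0 * c * ω ^ k, mul_ne_zero (mul_ne_zero (pow_ne_zero _ hω0) hc) (pow_ne_zero _ hω0), ?_⟩
    rw [hyY, e, toM_scalMul H, smul_smul]
  · exfalso
    have hu' : u < 23256 := by
      have := outTest_ok
      simp only [List.all_eq_true, Nat.blt, Nat.ble_eq] at this
      exact this u hu
    obtain ⟨j', hj', c', hc', e'⟩ := odd_closed H y.2 u hu'
    have hne : ω ^ k0 * c ≠ 0 := mul_ne_zero (pow_ne_zero _ hω0) hc
    have h1 : toV ω (vApp (yC m (oddC j)) (oddC u)) = ((ω ^ k0 * c)⁻¹ * c') • toV ω (oddC j') := by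
      rw [toV_vApp H, ← smul_smul, ← e', show ((y : GL F9 F) : Matrix F9 F9 F) = valT y from rfl, hyY,
        Matrix.smul_mulVec, smul_smul, inv_mul_cancel₀ hne, one_smul]
    obtain ⟨k, hk, ek⟩ := pow_of_ne_zero hF H (mul_ne_zero (inv_ne_zero hne) hc')
    rw [ek, ← toV_smK H hk (oddC_lt _)] at h1
    have h2 := toV_inj H (colC_lt _) (smK_lt (oddC_lt _)) h1
    have hbit := outBits_ok
    simp only [allBelowB_iff, force_eq, Bool.or_eq_true, List.all_eq_true, List.mem_range, Nat.beq_eq,
      Bool.not_eq_true', ← Bool.not_eq_true, Nat.blt, Nat.ble_eq] at hbit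
    have h3 := hbit (j' / 256) (by omega) (j' % 256) (Nat.mod_lt _ (by norm_num))
    rw [show Nat.add (Nat.mul 256 (j' / 256)) (j' % 256) = j' from Nat.div_add_mod j' 256] at h3
    have h4 := h3.resolve_left (by omega) k hk
    rw [show vApp (yC m (oddC j)) (oddC u) = smK k (oddC j') from h2] at e
    rw [e] at h4
    exact absurd h4 (by norm_num)

/-- The element of order nineteen. -/
theorem card_centralizer_nineteen {a : threeJ3 F ω} (ha : valT a = toM ω elN19) :
    Nat.card (Subgroup.centralizer ({a} : Set ↥(threeJ3 F ω))) ≤ 513 := by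
  classical
  haveI : Finite (threeJ3 F ω) := Nat.finite_of_card_ne_zero (by rw [card_threeJ3 H]; norm_num)
  haveI : Fact (Nat.Prime 19) := ⟨by norm_num⟩
  set C := Subgroup.centralizer ({a} : Set ↥(threeJ3 F ω))
  have hsum : ∑ n ∈ Finset.range 19, (valT a) ^ n = 0 := by
    have key : ∀ N, toM ω (Nat.rec 0 (fun n acc => Nat.xor acc (powC elN19 n)) N) =
        ∑ n ∈ Finset.range N, (valT a) ^ n := by
      intro N
      induction N with
      | zero => rw [Finset.sum_range_zero]; exact toM_zero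
      | succ N ih => rw [Finset.sum_range_succ, ← ih, toM_xor H, toM_powC H, ha]
    rw [← key 19, outSum_ok, toM_zero]
  have hfix : ∀ v : F9 → F, valT a *ᵥ v = v → v = 0 := by
    intro v hv
    have hp : ∀ n : ℕ, (valT a) ^ n *ᵥ v = v := fun n => by
      induction n with
      | zero => rw [pow_zero, Matrix.one_mulVec]
      | succ n ih => rw [pow_succ, ← Matrix.mulVec_mulVec, hv, ih]
    have h0 : (∑ n ∈ Finset.range 19, (valT a) ^ n) *ᵥ v = (19 : ℕ) • v := by
      rw [Matrix.sum_mulVec, Finset.sum_congr rfl fun n _ => hp n, Finset.sum_const, Finset.card_range]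
    rw [hsum, Matrix.zero_mulVec, ← Nat.cast_smul_eq_nsmul F] at h0
    refine (smul_eq_zero.1 h0.symm).resolve_left ?_
    rw [show ((19 : ℕ) : F) = 1 from by push_cast; linear_combination 9 * H.two]
    exact one_ne_zero
  have ha19 : a ^ 19 = 1 := valT_inj (by
    show ((a ^ 19 : threeJ3 F ω) : GL F9 F).val = _
    rw [SubmonoidClass.coe_pow, Units.val_pow_eq_pow_val, show ((a : GL F9 F) : Matrix F9 F9 F) = valT a from rfl,
      ha, ← toM_powC H, pows_ok.1, toM_one]; rfl)
  -- the action on vectors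
  letI act : MulAction (threeJ3 F ω) (F9 → F) :=
    { smul := fun g v => valT g *ᵥ v
      one_smul := fun v => Matrix.one_mulVec v
      mul_smul := fun g h v => by
        show valT (g * h) *ᵥ v = valT g *ᵥ (valT h *ᵥ v)
        rw [valT_mul, Matrix.mulVec_mulVec] }
  have hfree : ∀ y ∈ C, ∀ v : F9 → F, v ≠ 0 → valT y *ᵥ v = v → y = 1 := by
    intro y hy v hv hyv
    let W : Submodule F (F9 → F) := LinearMap.ker (Matrix.mulVecLin (valT y - 1))
    have hW : ∀ w, w ∈ W ↔ valT y *ᵥ w = w := fun w => by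
      rw [LinearMap.mem_ker, Matrix.mulVecLin_apply, Matrix.sub_mulVec, Matrix.one_mulVec, sub_eq_zero]
    have hcomm : valT y * valT a = valT a * valT y := by
      rw [← valT_mul, ← valT_mul, Subgroup.mem_centralizer_singleton_iff.1 hy]
    let P := Subgroup.zpowers a
    have hPW : ∀ g ∈ P, ∀ w ∈ W, valT g *ᵥ w ∈ W := fun g hg w hw => by
      obtain ⟨n, hn⟩ : ∃ n : ℕ, a ^ n = g := by
        obtain ⟨n, hn⟩ := Submonoid.mem_powers_iff _ _ |>.1 ((mem_powers_iff_mem_zpowers).2 hg)
        exact ⟨n, hn⟩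
      have hyg : valT y * valT g = valT g * valT y := by
        rw [← hn, show valT (a ^ n) = valT a ^ n by simp [valT, SubmonoidClass.coe_pow]]
        exact (Commute.pow_right hcomm n).eq
      rw [hW, Matrix.mulVec_mulVec, hyg, ← Matrix.mulVec_mulVec, (hW w).1 hw]
    letI : MulAction P W :=
      { smul := fun g w => ⟨valT (g : threeJ3 F ω) *ᵥ (w : F9 → F), hPW g g.2 w w.2⟩
        one_smul := fun w => Subtype.ext (Matrix.one_mulVec _)
        mul_smul := fun g h w => Subtype.ext (mul_smul (g : threeJ3 F ω) (h : threeJ3 F ω) (w : F9 → F)) }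
    have hP : IsPGroup 19 P := by
      intro g
      obtain ⟨n, hn⟩ := Subgroup.mem_zpowers_iff.1 g.2
      refine ⟨1, Subtype.ext ?_⟩
      rw [pow_one, SubmonoidClass.coe_pow, ← hn, ← zpow_natCast, ← zpow_mul, mul_comm, zpow_mul, zpow_natCast, ha19,
        one_zpow]
      rfl
    have hcard := hP.card_modEq_card_fixedPoints W
    have hfp : Nat.card (MulAction.fixedPoints P W) = 1 := by
      refine Nat.card_eq_one_iff_unique.2 ⟨⟨fun u u' => ?_⟩, ⟨⟨0, fun g => Subtype.ext (show valT (g : threeJ3 F ω) *ᵥ (0 : F9 → F) = 0 from Matrix.mulVec_zero _)⟩⟩⟩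
      have hz : ∀ u : MulAction.fixedPoints P W, ((u : W) : F9 → F) = 0 := fun u =>
        hfix _ (congrArg Subtype.val (u.2 ⟨a, Subgroup.mem_zpowers a⟩))
      exact Subtype.ext (Subtype.ext ((hz u).trans (hz u').symm))
    rw [hfp, Module.natCard_eq_pow_finrank (K := F), Nat.card_eq_fintype_card, hF] at hcard
    have hd : Module.finrank F W ≤ 9 := by
      have := Submodule.finrank_le W
      simpa using this
    have hd0 : Module.finrank F W ≠ 0 := fun e => hv (by
      have hbot := Submodule.finrank_eq_zero.1 e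
      have : v ∈ W := (hW v).2 hyv
      rwa [hbot, Submodule.mem_bot] at this)
    have hd9 : Module.finrank F W = 9 := by
      generalize Module.finrank F W = d at hcard hd hd0
      unfold Nat.ModEq at hcard
      interval_cases d <;> first | omega | norm_num at hcard
    have htop : W = ⊤ := Submodule.eq_top_of_finrank_eq (by simpa using hd9)
    refine valT_inj ?_
    have : ∀ w, valT y *ᵥ w = (1 : Matrix F9 F9 F) *ᵥ w := fun w => by
      rw [Matrix.one_mulVec]; exact (hW w).1 (htop ▸ Submodule.mem_top)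
    show valT y = (1 : Matrix F9 F9 F)
    exact Matrix.ext_iff_mulVec.2 this
  let X := {v : F9 → F // v ≠ 0}
  letI : MulAction C X :=
    { smul := fun g v => ⟨valT (g : threeJ3 F ω) *ᵥ (v : F9 → F), fun e => v.2 (by
        have := congrArg (fun w => valT ((g : threeJ3 F ω)⁻¹) *ᵥ w) e
        simpa [Matrix.mulVec_mulVec, ← valT_mul, valT] using this)⟩
      one_smul := fun v => Subtype.ext (Matrix.one_mulVec _)
      mul_smul := fun g h v => Subtype.ext (mul_smul (g : threeJ3 F ω) (h : threeJ3 F ω) (v : F9 → F)) }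
  have hstab : ∀ x : X, MulAction.stabilizer C x = ⊥ := fun x => (Subgroup.eq_bot_iff_forall _).2 fun g hg =>
    Subtype.ext (hfree _ g.2 x x.2 (congrArg Subtype.val (MulAction.mem_stabilizer_iff.1 hg)))
  have hX : Nat.card X = 262143 := by
    rw [Nat.card_eq_fintype_card, Fintype.card_subtype_compl, Fintype.card_subtype_eq, Fintype.card_fun, hF]
    rfl
  have hd : Nat.card C ∣ 262143 := by
    rw [← hX]
    exact ⟨_, (Nat.card_congr (MulAction.selfEquivOrbitsQuotientProd hstab)).trans
      ((Nat.card_prod _ _).trans (mul_comm _ _))⟩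
  have hd2 : Nat.card C ∣ 150698880 := card_threeJ3 H ▸ C.card_subgroup_dvd_card
  have := Nat.dvd_gcd hd hd2
  rw [show Nat.gcd 262143 150698880 = 513 by norm_num] at this
  exact Nat.le_of_dvd (by norm_num) this

end

end Cfsg.Lib.JThree
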