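import Cfsg.Agent.Lib.JThree.Mult
import Cfsg.Prelude.Def_Classical
import Cfsg.Prelude.Def_Sporadic

/-!
# The triple cover inside the unitary group and the action on 6156 points
-/

set_option autoImplicit false
set_option maxRecDepth 100000
set_option linter.style.haveILetI false

namespace Cfsg.Lib.JThree

open Cfsg.Spor Cfsg.Lib.Concrete Cfsg.Lib.PermAut
open scoped Matrix

/-- The conjugate transpose of a generator. -/
def genAH : ℕ := 0x190d00396130231309401

/-- The conjugate transpose of a generator. -/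
def genBH : ℕ := 0x32000006800000000000000262c3404a980380246

/-- The code is the conjugate transpose of the other. -/
def herm (M MH : ℕ) : Bool :=
  decide (∀ i j : F9, ((loP MH).testBit (9 * iz j + iz i), (hiP MH).testBit (9 * iz j + iz i)) =
    (Bool.xor ((loP M).testBit (9 * iz i + iz j)) ((hiP M).testBit (9 * iz i + iz j)),
      (hiP M).testBit (9 * iz i + iz j)))

theorem herm_ok : (herm genA genAH && Nat.beq (mmul genAH genA) oneM && herm genB genBH &&
    Nat.beq (mmul genBH genB) oneM && witB scal scalW && Nat.beq scalW.1 0) = true := by decide +kernel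

variable {F : Type} [Field F] {ω : F}

theorem valF_sq (H : Hyp F ω) (a b : Bool) : valF ω (Bool.xor a b) b = valF ω a b ^ 2 := by
  cases a <;> cases b <;> simp [valF, bitF]
  · linear_combination -H.omega + (1 + ω) * H.two
  · linear_combination -H.omega

theorem gen_unitary (H : Hyp F ω) {M MH : ℕ} (h1 : herm M MH = true) (h2 : mmul MH M = oneM) (j l : F9) :
    ∑ i, toM ω M i j * toM ω M i l ^ 2 = if l = j then 1 else 0 := by
  have e : toM ω MH * toM ω M = 1 := by rw [← toM_mmul H.two H.omega, h2, toM_one]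
  have h := of_decide_eq_true h1
  have := congrFun (congrFun e l) j
  rw [Matrix.mul_apply, Matrix.one_apply] at this
  rw [← this]
  refine Finset.sum_congr rfl fun i _ => ?_
  have hb := h i l
  simp only [Prod.mk.injEq] at hb
  simp only [toM, Matrix.of_apply, hb.1, hb.2]
  rw [valF_sq H, mul_comm]

/-- The numbering of the coordinates. -/
noncomputable def eNine : F9 ≃ Fin 9 :=
  Equiv.ofBijective (fun z => (⟨iz z, iz_lt z⟩ : Fin 9)) (by decide +kernel)

/-- The renumbered matrix. -/
noncomputable def toNine (g : threeJ3 F ω) : Matrix (Fin 9) (Fin 9) F :=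
  Matrix.reindexAlgEquiv F F eNine ((g : GL F9 F) : Matrix F9 F9 F)

theorem toNine_det [Fintype F] (hF : Fintype.card F = 4) (H : Hyp F ω) (g : threeJ3 F ω) : (toNine g).det = 1 := by
  have hg : g ∈ Subgroup.closure {g : threeJ3 F ω | g ^ 17 = 1} := gen_seventeen H ▸ Subgroup.mem_top g
  rw [toNine, Matrix.det_reindexAlgEquiv]
  induction hg using Subgroup.closure_induction with
  | mem x hx =>
    have h17 : ((x : GL F9 F) : Matrix F9 F9 F).det ^ 17 = 1 := by
      rw [← Matrix.det_pow]
      have := congrArg (fun y : threeJ3 F ω => ((y : GL F9 F) : Matrix F9 F9 F).det) (show x ^ 17 = 1 from hx)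
      simpa using this
    have hne : ((x : GL F9 F) : Matrix F9 F9 F).det ≠ 0 := fun h0 => by simp [h0] at h17
    have h3 : ((x : GL F9 F) : Matrix F9 F9 F).det ^ 3 = 1 := by
      have := FiniteField.pow_card_sub_one_eq_one _ hne
      rwa [hF] at this
    have := pow_gcd_eq_one.2 ⟨h17, h3⟩
    simpa using this
  | one => simp
  | mul a b _ _ ha hb => simp [ha, hb]
  | inv a _ ha =>
    have := congrArg Matrix.det ((a : GL F9 F).mul_inv)
    rw [Matrix.det_mul, ha, one_mul, Matrix.det_one] at this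
    exact this

/-- The map into the special linear group. -/
noncomputable def toSL [Fintype F] (hF : Fintype.card F = 4) (H : Hyp F ω) :
    threeJ3 F ω →* Matrix.SpecialLinearGroup (Fin 9) F where
  toFun g := ⟨toNine g, toNine_det hF H g⟩
  map_one' := Subtype.ext (by simp [toNine])
  map_mul' a b := Subtype.ext (by
    show toNine (a * b) = toNine a * toNine b
    simp only [toNine, Subgroup.coe_mul, Units.val_mul, map_mul])

theorem toSL_mem [Fintype F] (hF : Fintype.card F = 4) (H : Hyp F ω) (g : threeJ3 F ω) :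
    toSL hF H g ∈ Cfsg.SU 9 F 2 := by
  suffices h : threeJ3 F ω ≤ ((Cfsg.SU 9 F 2).comap (toSL hF H)).map (threeJ3 F ω).subtype by
    obtain ⟨y, hy, e⟩ := h g.2
    exact (Subtype.ext e : y = g) ▸ hy
  conv_lhs => rw [← Γ0_eq H]
  refine (Subgroup.closure_le _).2 ?_
  have h := herm_ok
  simp only [Bool.and_eq_true, Nat.beq_eq] at h
  have key : ∀ i < 2, gEl H i ∈ ((Cfsg.SU 9 F 2).comap (toSL hF H)).map (threeJ3 F ω).subtype := by
    intro i hi
    have hm : gEl H i ∈ threeJ3 F ω := by rw [gEl, dif_pos hi]; exact (gens_mem H i hi).choose_spec.1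
    refine ⟨⟨_, hm⟩, ?_, rfl⟩
    show ∀ u v : Fin 9 → F, Cfsg.hermForm 9 F 2 (toNine ⟨gEl H i, hm⟩ *ᵥ u) (toNine ⟨gEl H i, hm⟩ *ᵥ v) =
      Cfsg.hermForm 9 F 2 u v
    intro u v
    obtain ⟨MH, h1, h2⟩ : ∃ MH, herm (gC i) MH = true ∧ mmul MH (gC i) = oneM := by
      interval_cases i
      exacts [⟨_, h.1.1.1.1.1, h.1.1.1.1.2⟩, ⟨_, h.1.1.1.2, h.1.1.2⟩]
    have hM : ∀ a b, toNine ⟨gEl H i, hm⟩ a b = toM ω (gC i) (eNine.symm a) (eNine.symm b) := fun a b => by
      rw [← gEl_val H hi]; simp [toNine]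
    have hu : ∀ j l : Fin 9, ∑ k, toNine ⟨gEl H i, hm⟩ k j * toNine ⟨gEl H i, hm⟩ k l ^ 2 = if l = j then 1 else 0 := by
      intro j l
      have := gen_unitary H h1 h2 (eNine.symm j) (eNine.symm l)
      rw [← Equiv.sum_comp eNine.symm] at this
      simp only [hM, EmbeddingLike.apply_eq_iff_eq] at this ⊢
      exact this
    haveI : CharP F 2 := CharTwo.of_one_ne_zero_of_two_eq_zero one_ne_zero H.two
    simp only [Cfsg.hermForm, Matrix.mulVec, dotProduct]
    simp only [CharTwo.sum_sq, Finset.sum_mul_sum, mul_pow]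
    rw [Finset.sum_comm]
    refine Finset.sum_congr rfl fun j _ => ?_
    rw [Finset.sum_comm]
    rw [Finset.sum_eq_single j (fun l _ hl => ?_) (by simp)]
    · have := hu j j
      rw [if_pos rfl] at this
      rw [← one_mul (u j * v j ^ 2), ← this, Finset.sum_mul]
      exact Finset.sum_congr rfl fun k _ => by ring
    · have := hu j l
      rw [if_neg hl] at this
      rw [← zero_mul (u j * v l ^ 2), ← this, Finset.sum_mul]
      exact Finset.sum_congr rfl fun k _ => by ring
  rintro x (rfl | rfl)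
  · exact key 0 (by norm_num)
  · exact key 1 (by norm_num)

theorem unitary_realization [Fintype F] (hF : Fintype.card F = 4) (H : Hyp F ω) :
    ∃ K : Subgroup (Cfsg.SU 9 F 2), Nat.card (Subgroup.center K) = 3 ∧ Cfsg.IsJ3 (K ⧸ Subgroup.center K) := by
  let f : threeJ3 F ω →* Cfsg.SU 9 F 2 := (toSL hF H).codRestrict _ (toSL_mem hF H)
  have hf : Function.Injective f := fun a b e => by
    have e1 := congrArg (fun x : Cfsg.SU 9 F 2 => ((x : Matrix.SpecialLinearGroup (Fin 9) F) : Matrix (Fin 9) (Fin 9) F)) e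
    exact Subtype.ext (Units.ext ((Matrix.reindexAlgEquiv F F eNine).injective e1))
  let e : threeJ3 F ω ≃* f.range := MonoidHom.ofInjective hf
  have hmap : (Subgroup.center ↥(threeJ3 F ω)).map e.toMonoidHom = Subgroup.center f.range := by
    ext x
    constructor
    · rintro ⟨y, hy, rfl⟩
      refine Subgroup.mem_center_iff.2 fun z => ?_
      obtain ⟨w, rfl⟩ := e.surjective z
      exact (map_mul e w y).symm.trans ((congrArg e (Subgroup.mem_center_iff.1 hy w)).trans (map_mul e y w))
    · intro hx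
      obtain ⟨y, rfl⟩ := e.surjective x
      exact ⟨y, Subgroup.mem_center_iff.2 fun w => e.injective (by
        rw [map_mul, map_mul]; exact Subgroup.mem_center_iff.1 hx (e w)), rfl⟩
  let q : J3 F ω ≃* f.range ⧸ Subgroup.center f.range := QuotientGroup.congr _ _ e hmap
  haveI := simple_J3 hF H
  haveI : Nontrivial (f.range ⧸ Subgroup.center f.range) := q.toEquiv.symm.nontrivial
  refine ⟨f.range, ?_, IsSimpleGroup.isSimpleGroup_of_surjective q.toMonoidHom q.surjective, ?_⟩
  · rw [← hmap]
    exact (Nat.card_congr ((Subgroup.center ↥(threeJ3 F ω)).equivMapOfInjective e.toMonoidHom e.injective).toEquiv).symm.trans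
      (card_center hF H)
  · rw [← Nat.card_congr q.toEquiv, card_J3 hF H]

theorem perm_realization [Fintype F] (hF : Fintype.card F = 4) (H : Hyp F ω) :
    ∃ K : Subgroup (Equiv.Perm (Fin 6156)), Cfsg.IsJ3 K ∧ MulAction.IsPretransitive K (Fin 6156) ∧
      Nat.card (MulAction.stabilizer K (0 : Fin 6156)) = 8160 := by
  classical
  haveI := simple_J3 hF H
  have hsc := herm_ok
  simp only [Bool.and_eq_true, Nat.beq_eq] at hsc
  set Z := Subgroup.center ↥(threeJ3 F ω)
  have hle : Hs H ≤ threeJ3 F ω := (Hs_le H).trans (Γ0_le H)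
  set K := (Hs H).subgroupOf (threeJ3 F ω)
  have hKle : Nat.card (Hs H) ≤ 24480 := by
    let g : Fin 85 × Fin 288 → Hs H := fun t =>
      ⟨(((t_has H t.1 t.1.2)).mul H ((s_has H t.2 t.2.2).mono (Ks_le H))).choose,
        (((t_has H t.1 t.1.2)).mul H ((s_has H t.2 t.2.2).mono (Ks_le H))).choose_spec.1⟩
    have := Nat.card_le_card_of_surjective g fun x => by
      obtain ⟨a, ha, c, hc, e⟩ := Hs_cover H x.2
      exact ⟨(⟨a, ha⟩, ⟨c, hc⟩), Subtype.ext (Units.ext
        ((((t_has H a ha)).mul H ((s_has H c hc).mono (Ks_le H))).choose_spec.2.trans e.symm))⟩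
    simpa [Nat.card_prod] using this
  have hHcard : Nat.card (Hs H) = 24480 := by
    refine le_antisymm hKle ?_
    let g : Fin 6156 × Hs H → threeJ3 F ω := fun t =>
      ⟨(rep_has H t.1 t.1.2).choose * t.2, mul_mem (Γ0_le H (rep_has H t.1 t.1.2).choose_spec.1) (hle t.2.2)⟩
    have hs : Function.Surjective g := fun x => by
      obtain ⟨y, hy, r, h, er, hh, e⟩ := normal_form H (show (x : GL F9 F) ∈ Γ0 H by rw [Γ0_eq H]; exact x.2)
      refine ⟨(⟨y, hy⟩, ⟨h, hh⟩), Subtype.ext ?_⟩
      show (rep_has H y hy).choose * h = _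
      rw [e, (Units.ext ((rep_has H y hy).choose_spec.2.trans er.symm) : (rep_has H y hy).choose = r)]
    have := Nat.card_le_card_of_surjective g hs
    rw [card_threeJ3 H, Nat.card_prod, Nat.card_fin] at this
    omega
  have hidx : K.index = 6156 := by
    have h := K.card_mul_index
    rw [Nat.card_congr (Subgroup.subgroupOfEquivOfLe hle).toEquiv, hHcard, card_threeJ3 H] at h
    omega
  have hZK : Z ≤ K := by
    obtain ⟨s, hs, es⟩ : Has ω (Hs H) scal := by
      have hw := hsc.1.2
      simp only [witB, force_eq, Bool.and_eq_true, Nat.blt, Nat.ble_eq, Nat.beq_eq] at hw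
      obtain ⟨⟨⟨-, ha⟩, hc⟩, e⟩ := hw
      rw [e, hsc.2, triC, base_ok.1]
      obtain ⟨g, hg, eg⟩ := (t_has H _ ha).mul H ((s_has H _ hc).mono (Ks_le H))
      exact ⟨g, hg, by rw [eg]; conv_rhs => rw [toM_mmul H.two H.omega, toM_one, one_mul]⟩
    have hsc' : (⟨s, hle hs⟩ : threeJ3 F ω) ∈ Z := by
      refine Subgroup.mem_center_iff.2 fun k => Subtype.ext (Units.ext ?_)
      simp only [Subgroup.coe_mul, Units.val_mul, es, toM_scal, Matrix.mul_smul, Matrix.smul_mul, mul_one, one_mul]
    have hne : (⟨s, hle hs⟩ : threeJ3 F ω) ≠ 1 := fun e => H.ne_one (by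
      have := congrArg (fun x : threeJ3 F ω => ((x : GL F9 F) : Matrix F9 F9 F) 0 0) e
      simpa [es, toM_scal] using this)
    haveI := Fact.mk Nat.prime_three
    intro z hz
    have hz' : (⟨z, hz⟩ : Z) ∈ Subgroup.zpowers (⟨⟨s, hle hs⟩, hsc'⟩ : Z) :=
      mem_zpowers_of_prime_card (card_center hF H) (fun e => hne (congrArg Subtype.val e))
    obtain ⟨k, hk⟩ := Subgroup.mem_zpowers_iff.1 hz'
    have e : (⟨s, hle hs⟩ : threeJ3 F ω) ^ k = z := by simpa using congrArg (fun w : Z => (w : threeJ3 F ω)) hk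
    rw [← e]
    exact Subgroup.zpow_mem _ (Subgroup.mem_subgroupOf.2 hs) k
  set Kb : Subgroup (J3 F ω) := K.map (QuotientGroup.mk' Z)
  have hb : Kb.index = 6156 := by
    rw [← Subgroup.index_comap_of_surjective Kb (QuotientGroup.mk'_surjective Z), Subgroup.comap_map_eq,
      QuotientGroup.ker_mk', sup_eq_left.2 hZK, hidx]
  have hcard : Nat.card (J3 F ω ⧸ Kb) = 6156 := hb
  haveI : Finite (J3 F ω ⧸ Kb) := Nat.finite_of_card_ne_zero (by rw [hcard]; norm_num)
  let φ : J3 F ω ⧸ Kb ≃ Fin 6156 :=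
    (Finite.equivFinOfCardEq hcard).trans
      (Equiv.swap (Finite.equivFinOfCardEq hcard (QuotientGroup.mk (1 : J3 F ω))) 0)
  have hφ : φ (QuotientGroup.mk (1 : J3 F ω)) = 0 := by simp [φ]
  let f : J3 F ω →* Equiv.Perm (Fin 6156) := φ.permCongrHom.toMonoidHom.comp (MulAction.toPermHom _ _)
  have hfx : ∀ (x : J3 F ω) (i : Fin 6156), f x i = φ (x • φ.symm i) := fun x i => rfl
  have hinj : Function.Injective f := by
    rw [← MonoidHom.ker_eq_bot_iff]
    refine (f.normal_ker.eq_bot_or_eq_top).resolve_right fun h => ?_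
    obtain ⟨g, hg⟩ : ∃ g : J3 F ω, g ∉ Kb := by
      by_contra hall
      simp only [not_exists, not_not] at hall
      rw [Subgroup.index_eq_one.2 (eq_top_iff.2 fun g _ => hall g)] at hb
      norm_num at hb
    have h1 := hfx g 0
    rw [show f g = 1 from MonoidHom.mem_ker.1 (h ▸ Subgroup.mem_top g)] at h1
    have h2 := congrArg φ.symm h1
    simp only [Equiv.Perm.one_apply, Equiv.symm_apply_apply, ← hφ] at h2
    refine hg ?_
    have := QuotientGroup.eq.1 (show (QuotientGroup.mk (1 : J3 F ω) : J3 F ω ⧸ Kb) = QuotientGroup.mk (g * 1) from h2)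
    simpa using this
  let e : J3 F ω ≃* f.range := MonoidHom.ofInjective hinj
  have hcr : Nat.card f.range = 50232960 := by rw [← Nat.card_congr e.toEquiv, card_J3 hF H]
  haveI : Nontrivial f.range := e.toEquiv.symm.nontrivial
  have htr : MulAction.IsPretransitive f.range (Fin 6156) := by
    refine ⟨fun i j => ?_⟩
    obtain ⟨x, hx⟩ := MulAction.exists_smul_eq (J3 F ω) (φ.symm i) (φ.symm j)
    refine ⟨⟨f x, x, rfl⟩, ?_⟩
    show f x i = j
    rw [hfx, hx, Equiv.apply_symm_apply]
  refine ⟨f.range, ⟨IsSimpleGroup.isSimpleGroup_of_surjective e.toMonoidHom e.surjective, hcr⟩, htr, ?_⟩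
  haveI := htr
  have h := (MulAction.stabilizer f.range (0 : Fin 6156)).card_mul_index
  rw [MulAction.index_stabilizer_of_transitive, Nat.card_fin, hcr] at h
  omega

end Cfsg.Lib.JThree
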