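import Cfsg.Agent.Lib.JThree.Defs
import Cfsg.Agent.Lib.JThree.SubData
import Cfsg.Agent.Lib.JThree.CertData

/-!
# Checks on small subgroups of the triple cover
-/

set_option autoImplicit false

namespace Cfsg.Lib.JThree

open Cfsg.Lib.Concrete Cfsg.Lib.PermAut

/-- The code is the element of a normal form. -/
noncomputable def witB (M : ℕ) (w : ℕ × ℕ × ℕ) : Bool :=
  force w.1 fun y => force w.2.1 fun a => force w.2.2 fun c =>
    Nat.blt y 6156 && Nat.blt a 85 && Nat.blt c 288 && Nat.beq M (triC y a c)

/-- A list of generators with normal forms. -/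
noncomputable def witsB (g : List ℕ) (w : List (ℕ × ℕ × ℕ)) : Bool := all2 witB g w

/-- The table lists a subgroup generated by the generators. -/
noncomputable def smallB (gens : List ℕ) (n els : ℕ) (par : List (ℕ × ℕ)) (mul : List (List ℕ)) : Bool :=
  Nat.beq (tget 162 els 0) oneM &&
  ((List.range n).all fun y => Nat.beq y 0 ||
    (Nat.blt (par.getD y (0, 0)).1 gens.length && Nat.blt (par.getD y (0, 0)).2 y &&
      Nat.beq (tget 162 els y) (mmul (gens.getD (par.getD y (0, 0)).1 0) (tget 162 els (par.getD y (0, 0)).2)))) &&
  all2 (fun g m => all2 (fun x y => Nat.blt y n && Nat.beq (mmul g (tget 162 els x)) (tget 162 els y)) (List.range n) m)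
    gens mul &&
  nodupB ((List.range n).map fun y => tget 162 els y)

/-- A power. -/
noncomputable def powC (M : ℕ) (n : ℕ) : ℕ := Nat.rec oneM (fun _ ih => mmul M ih) n

/-- A generator from a list of two. -/
def pick (g : List ℕ) (i : ℕ) : ℕ := g.getD i 0

/-- The products of the representatives with a generator stay in the form. -/
noncomputable def cycCosB (c : StemCert) (gens : List ℕ) (u o reps i wit : ℕ) : Bool :=
  allBelowB c.N fun x => force (c.tab i x) fun y => force (tget 3 wit x) fun k => Nat.blt y c.N && Nat.blt k o &&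
    Nat.beq (mmul (pick gens i) (tget 162 reps x)) (mmul (tget 162 reps y) (powC u k))

/-- The representatives follow the tree. -/
noncomputable def cycTreeB (c : StemCert) (gens : List ℕ) (reps : ℕ) : Bool :=
  Nat.beq (tget 162 reps 0) oneM && allBelowB c.N fun x => Nat.beq x 0 ||
    Nat.beq (tget 162 reps x) (mmul (pick gens (c.pi' x)) (tget 162 reps (c.px x)))

/-- The relators hold. -/
noncomputable def relsC (c : StemCert) (gens : List ℕ) : Bool :=
  c.rels.all fun W => Nat.beq (wordC (pick gens) W) oneM

end Cfsg.Lib.JThree
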