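import Cfsg.Agent.Lib.JThree.Group
import Cfsg.Agent.Lib.JThree.SubDefs

/-!
# Listed subgroups of the triple cover
-/

set_option autoImplicit false
set_option maxRecDepth 100000

namespace Cfsg.Lib.JThree

open Cfsg.Spor Cfsg.Lib.Concrete Cfsg.Lib.PermAut

variable {F : Type} [Field F] {ω : F}

theorem valF_inj (H : Hyp F ω) {a b c d : Bool} (h : valF ω a b = valF ω c d) : a = c ∧ b = d := by
  have h0 : ω ≠ 0 := fun e => by simpa [e] using H.omega
  have h1 : ω ≠ 1 := fun e => by
    have := H.omega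
    rw [e] at this
    exact one_ne_zero (show (1 : F) = 0 by linear_combination this - H.two)
  have h3 : (1 : F) + ω ≠ 0 := fun e => h1 (by linear_combination e - H.two)
  cases a <;> cases b <;> cases c <;> cases d <;> simp [valF, bitF] at h ⊢
  all_goals first
    | exact h0 h | exact h0 h.symm | exact h1 h | exact h1 h.symm | exact h3 h | exact h3 h.symm
    | exact h0 (by linear_combination h) | exact h0 (by linear_combination -h)
    | exact one_ne_zero (show (1 : F) = 0 by linear_combination h)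
    | exact one_ne_zero (show (1 : F) = 0 by linear_combination -h)

theorem toM_inj (H : Hyp F ω) {A B : ℕ} (hA : A < 2 ^ 162) (hB : B < 2 ^ 162) (h : toM ω A = toM ω B) : A = B := by
  have hbit : ∀ k < 81, (loP A).testBit k = (loP B).testBit k ∧ (hiP A).testBit k = (hiP B).testBit k := by
    intro k hk
    have hs : ∀ k : Fin 81, ∃ i j : F9, 9 * iz i + iz j = k := by decide +kernel
    obtain ⟨i, j, e⟩ := hs ⟨k, hk⟩
    have hh := valF_inj H (congrFun (congrFun h i) j)
    rwa [show 9 * iz i + iz j = k from e] at hh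
  refine Nat.eq_of_testBit_eq fun k => ?_
  by_cases hk : k < 81
  · have := (hbit k hk).1
    have e : ∀ M : ℕ, (loP M).testBit k = M.testBit k := fun M => by
      show (M &&& (2 ^ 81 - 1)).testBit k = _
      rw [Nat.testBit_and, Nat.testBit_two_pow_sub_one]; simp [hk]
    rwa [e, e] at this
  by_cases hk2 : k < 162
  · have := (hbit (k - 81) (by omega)).2
    have e : ∀ M : ℕ, (hiP M).testBit (k - 81) = M.testBit k := fun M => by
      show (M >>> 81).testBit (k - 81) = _
      rw [Nat.testBit_shiftRight, show 81 + (k - 81) = k by omega]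
    rwa [e, e] at this
  · have hp : 2 ^ 162 ≤ 2 ^ k := Nat.pow_le_pow_right (by norm_num) (not_lt.1 hk2)
    rw [Nat.testBit_lt_two_pow (lt_of_lt_of_le hA hp), Nat.testBit_lt_two_pow (lt_of_lt_of_le hB hp)]

theorem tget_lt (t i : ℕ) : tget 162 t i < 2 ^ 162 :=
  lt_of_le_of_lt Nat.and_le_right (by norm_num)

attribute [local irreducible] mmul tget

theorem Has.of_wit (H : Hyp F ω) {M : ℕ} {w : ℕ × ℕ × ℕ} (h : witB M w = true) : Has ω (threeJ3 F ω) M := by
  simp only [witB, force_eq, Bool.and_eq_true, Nat.blt, Nat.ble_eq, Nat.beq_eq] at h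
  obtain ⟨⟨⟨hy, ha⟩, hc⟩, rfl⟩ := h
  exact (tri_mem H hy ha hc).mono (Γ0_le H)

theorem Has.of_wits (H : Hyp F ω) {g : List ℕ} {w : List (ℕ × ℕ × ℕ)} (h : witsB g w = true) :
    ∀ M ∈ g, Has ω (threeJ3 F ω) M := fun M hM => by
  obtain ⟨t, ht⟩ := all2_forall h M hM
  exact Has.of_wit H ht

/-- The subgroup generated by the elements with the listed codes. -/
def genC (ω : F) (L : List ℕ) : Subgroup (GL F9 F) :=
  Subgroup.closure {g | ∃ M ∈ L, (g : Matrix F9 F9 F) = toM ω M}

theorem genC_le {L : List ℕ} {K : Subgroup (GL F9 F)} (h : ∀ M ∈ L, Has ω K M) : genC ω L ≤ K := by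
  refine (Subgroup.closure_le _).2 ?_
  rintro g ⟨M, hM, e⟩
  obtain ⟨g', hg', e'⟩ := h M hM
  exact (Units.ext (e'.trans e.symm) : g' = g) ▸ hg'

theorem Has.genC {L : List ℕ} {K : Subgroup (GL F9 F)} {M : ℕ} (h : Has ω K M) (hM : M ∈ L) :
    Has ω (Cfsg.Lib.JThree.genC ω L) M := by
  obtain ⟨g, -, e⟩ := h
  exact ⟨g, Subgroup.subset_closure ⟨M, hM, e⟩, e⟩

set_option maxHeartbeats 1000000 in
/-- A listed subgroup has the listed number of elements. -/
theorem card_small [Finite (GL F9 F)] (H : Hyp F ω) {gens : List ℕ} {n els : ℕ} {par : List (ℕ × ℕ)}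
    {mul : List (List ℕ)} (h : smallB gens n els par mul = true) (hn : 0 < n) {K : Subgroup (GL F9 F)}
    (hK : ∀ M ∈ gens, Has ω K M) : Nat.card (genC ω gens) = n := by
  simp only [smallB, Bool.and_eq_true, Nat.beq_eq, List.all_eq_true, List.mem_range, Bool.or_eq_true, Nat.blt,
    Nat.ble_eq] at h
  obtain ⟨⟨⟨h0, htree⟩, hmul⟩, hnd⟩ := h
  have hel : ∀ y < n, Has ω (genC ω gens) (tget 162 els y) := by
    intro y
    induction y using Nat.strong_induction_on with
    | _ y ih =>
      intro hy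
      rcases htree y hy with rfl | ⟨⟨hi, hlt⟩, e⟩
      · rw [h0]; exact Has.one
      rw [e]
      have hm : gens.getD (par.getD y (0, 0)).1 0 ∈ gens := by
        rw [List.getD_eq_getElem _ _ hi]; exact List.getElem_mem _
      exact ((hK _ hm).genC hm).mul H (ih _ hlt (by omega))
  let f : Fin n → genC ω gens := fun y => ⟨(hel y y.2).choose, (hel y y.2).choose_spec.1⟩
  have hf : ∀ y : Fin n, ((f y : GL F9 F) : Matrix F9 F9 F) = toM ω (tget 162 els y) := fun y =>
    (hel y y.2).choose_spec.2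
  have hinj : Function.Injective f := fun a b e => by
    have e1 : toM ω (tget 162 els a) = toM ω (tget 162 els b) := by rw [← hf, ← hf, e]
    exact Fin.ext (List.inj_on_of_nodup_map (nodup_of_nodupB hnd) (List.mem_range.2 a.2) (List.mem_range.2 b.2)
      (toM_inj H (tget_lt ..) (tget_lt ..) e1))
  have hsurj : Function.Surjective f := fun g => by
    have hg : (g : GL F9 F) ∈ Submonoid.closure {g : GL F9 F | ∃ M ∈ gens, (g : Matrix F9 F9 F) = toM ω M} := by
      rw [← Subgroup.closure_toSubmonoid_of_finite]; exact g.2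
    suffices ∃ y : Fin n, (f y : GL F9 F) = g by
      obtain ⟨y, hy⟩ := this; exact ⟨y, Subtype.ext hy⟩
    refine Submonoid.closure_induction_left (motive := fun g _ => ∃ y : Fin n, (f y : GL F9 F) = g)
      ⟨⟨0, hn⟩, Units.ext (by rw [hf]; show toM ω (tget 162 els 0) = _; rw [h0, toM_one]; rfl)⟩ ?_ hg
    rintro s ⟨M, hM, es⟩ y - ⟨a, rfl⟩
    obtain ⟨m, hm⟩ := all2_forall hmul M hM
    obtain ⟨z, hz⟩ := all2_forall hm (a : ℕ) (List.mem_range.2 a.2)
    simp only [Bool.and_eq_true, Nat.blt, Nat.ble_eq, Nat.beq_eq] at hz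
    refine ⟨⟨z, hz.1⟩, Units.ext ?_⟩
    have e1 : toM ω (tget 162 els z) = toM ω M * toM ω (tget 162 els (a : ℕ)) :=
      (congrArg (toM ω) hz.2.symm).trans (toM_mmul H.two H.omega _ _)
    have e2 : ((s * (f a : GL F9 F) : GL F9 F) : Matrix F9 F9 F) = toM ω M * toM ω (tget 162 els (a : ℕ)) :=
      (Units.val_mul _ _).trans (congrArg₂ (· * ·) es (hf a))
    exact ((hf ⟨z, hz.1⟩).trans e1).trans e2.symm
  rw [← Nat.card_congr (Equiv.ofBijective f ⟨hinj, hsurj⟩), Nat.card_fin]

theorem Has.powC (H : Hyp F ω) {K : Subgroup (GL F9 F)} {M : ℕ} (hM : Has ω K M) :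
    ∀ n, Has ω K (Cfsg.Lib.JThree.powC M n)
  | 0 => Has.one
  | n + 1 => hM.mul H (Has.powC H hM n)

theorem toM_powC (H : Hyp F ω) (M : ℕ) : ∀ n, toM ω (powC M n) = toM ω M ^ n
  | 0 => by show toM ω oneM = _; rw [toM_one, pow_zero]
  | n + 1 => by
    show toM ω (mmul M (powC M n)) = _
    rw [toM_mmul H.two H.omega, toM_powC H M n, pow_succ']

/-- An element with a code of prime order gives a divisor of the order. -/
theorem prime_dvd (H : Hyp F ω) {K : Subgroup (GL F9 F)} [Finite K] {M p : ℕ} (hp : p.Prime) (hM : Has ω K M)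
    (hlt : M < 2 ^ 162) (h1 : Cfsg.Lib.JThree.powC M p = oneM) (hne : M ≠ oneM) : p ∣ Nat.card K := by
  obtain ⟨g, hg, eg⟩ := hM
  have hpow : g ^ p = 1 := Units.ext (by rw [Units.val_pow_eq_pow_val, eg, ← toM_powC H, h1, toM_one]; rfl)
  have hg1 : g ≠ 1 := fun e => hne (toM_inj H hlt (by norm_num [oneM]) (by rw [← eg, e, toM_one]; rfl))
  haveI := Fact.mk hp
  have ho : orderOf (⟨g, hg⟩ : K) = p := by
    rw [Subgroup.orderOf_mk]; exact orderOf_eq_prime hpow hg1
  exact ho ▸ orderOf_dvd_natCard _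

end Cfsg.Lib.JThree
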